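import Mathlib
import Cfsg.Agent.OddCyclic.T1Defs

/-!
# Modules generated by one orbit of a cyclic normal subgroup

`X` acts on the elementary abelian 2-group `M`, `F` is a cyclic normal subgroup of odd order of `X`.

* `fx A N`: the fixed points; `av P`: the average over `P`; `card_split`;
* `dih`: `|N| = |C_N(b)|²` if `b` inverts `g` and `C_N(g) = 0`;
* `Good F A N l`: `N` is generated by the orbit of the `A`-fixed element `l` under `F`;
* `ineq`: `|C_N(B)| |B| ≤ |N| |C_B(N)|`.
-/

set_option autoImplicit false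
set_option linter.unusedSectionVars false
set_option linter.style.haveILetI false

namespace Cfsg.Agent.OddCyclic.EO.Fit

open Subgroup

universe u v

variable {X : Type u} {M : Type v} [Group X] [AddCommGroup M] [DistribMulAction X M]

/-- the fixed points of `A` in `N` -/
def fx (A : Subgroup X) (N : AddSubgroup M) : AddSubgroup M where
  carrier := {m | m ∈ N ∧ ∀ a ∈ A, a • m = m}
  add_mem' := by
    rintro a b ⟨h1, h2⟩ ⟨h3, h4⟩
    exact ⟨add_mem h1 h3, fun c hc => by rw [smul_add, h2 c hc, h4 c hc]⟩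
  zero_mem' := ⟨zero_mem _, fun c _ => smul_zero c⟩
  neg_mem' := by
    rintro a ⟨h1, h2⟩
    exact ⟨neg_mem h1, fun c hc => by rw [smul_neg, h2 c hc]⟩

theorem mem_fx {A : Subgroup X} {N : AddSubgroup M} {m : M} : m ∈ fx A N ↔ m ∈ N ∧ ∀ a ∈ A, a • m = m := Iff.rfl

theorem fx_le (A : Subgroup X) (N : AddSubgroup M) : fx A N ≤ N := fun _ h => h.1

theorem fx_mono {A B : Subgroup X} {N : AddSubgroup M} (h : A ≤ B) : fx B N ≤ fx A N :=
  fun _ h1 => ⟨h1.1, fun a ha => h1.2 a (h ha)⟩

/-- the elements of `B` acting trivially on `N` -/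
def kn (B : Subgroup X) (N : AddSubgroup M) : Subgroup X where
  carrier := {x | x ∈ B ∧ ∀ n ∈ N, x • n = n}
  mul_mem' := by
    rintro a b ⟨h1, h2⟩ ⟨h3, h4⟩
    exact ⟨mul_mem h1 h3, fun n hn => by rw [mul_smul, h4 n hn, h2 n hn]⟩
  one_mem' := ⟨one_mem _, fun n _ => one_smul X n⟩
  inv_mem' := by
    rintro a ⟨h1, h2⟩
    exact ⟨inv_mem h1, fun n hn => by rw [inv_smul_eq_iff, h2 n hn]⟩

theorem mem_kn {B : Subgroup X} {N : AddSubgroup M} {x : X} : x ∈ kn B N ↔ x ∈ B ∧ ∀ n ∈ N, x • n = n := Iff.rfl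

theorem kn_le (B : Subgroup X) (N : AddSubgroup M) : kn B N ≤ B := fun _ h => h.1

section average

variable [Finite X]

/-- the average -/
noncomputable def av (P : Subgroup X) : M →+ M :=
  letI := Fintype.ofFinite P
  { toFun := fun m => ∑ p : P, (p : X) • m
    map_zero' := by simp
    map_add' := fun a b => by simp [Finset.sum_add_distrib] }

theorem av_apply (P : Subgroup X) [Fintype P] (m : M) : av P m = ∑ p : P, (p : X) • m := by
  have h : Fintype.ofFinite P = (inferInstance : Fintype P) := Subsingleton.elim _ _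
  change @Finset.sum P M _ (@Finset.univ P (Fintype.ofFinite P)) _ = _
  rw [h]

theorem smul_av {P : Subgroup X} {p : X} (hp : p ∈ P) (m : M) : p • av P m = av P m := by
  classical
  letI := Fintype.ofFinite P
  rw [av_apply, Finset.smul_sum]
  refine Fintype.sum_equiv (Equiv.mulLeft (⟨p, hp⟩ : P)) _ _ fun q => ?_
  rw [smul_smul]; rfl

theorem av_fixed {P : Subgroup X} (hodd : Odd (Nat.card P)) (two : ∀ m : M, m + m = 0) {m : M}
    (h : ∀ p ∈ P, p • m = m) : av P m = m := by
  classical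
  letI := Fintype.ofFinite P
  rw [av_apply, Finset.sum_congr rfl (fun (p : P) _ => h (p : X) p.2), Finset.sum_const, Finset.card_univ,
    ← Nat.card_eq_fintype_card]
  obtain ⟨k, hk⟩ := hodd
  rw [hk, add_smul, one_smul, mul_comm, mul_smul, two_smul, two, smul_zero, zero_add]

theorem smul_av_comm {P : Subgroup X} [P.Normal] (c : X) (m : M) : c • av P m = av P (c • m) := by
  classical
  letI := Fintype.ofFinite P
  rw [av_apply, av_apply, Finset.smul_sum]
  refine Fintype.sum_equiv (MulAut.conjNormal c : P ≃* P).toEquiv _ _ fun q => ?_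
  rw [smul_smul, smul_smul]
  congr 1
  change c * (q : X) = ((MulAut.conjNormal c q : P) : X) * c
  rw [MulAut.conjNormal_apply]; group

theorem av_mem {P : Subgroup X} {N : AddSubgroup M} (h : ∀ p ∈ P, ∀ n ∈ N, p • n ∈ N) {n : M} (hn : n ∈ N) :
    av P n ∈ N := by
  classical
  letI := Fintype.ofFinite P
  rw [av_apply]
  exact sum_mem fun p _ => h p p.2 n hn

/-- `M = C_M(P) ⊕ [M, P]` -/
theorem card_split {P : Subgroup X} (hodd : Odd (Nat.card P)) (two : ∀ m : M, m + m = 0)
    {N : AddSubgroup M} (hN : ∀ n ∈ N, av P n ∈ N) :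
    Nat.card N = Nat.card (fx P N) * Nat.card ↥(N ⊓ (av P : M →+ M).ker) := by
  rw [← Nat.card_prod]
  have hav : ∀ m : M, av P (av P m) = av P m := fun m => av_fixed hodd two fun p hp => smul_av hp m
  refine Nat.card_congr
    { toFun := fun n => (⟨av P (n : M), hN _ n.2, fun p hp => smul_av hp _⟩,
        ⟨(n : M) - av P (n : M), N.sub_mem n.2 (hN _ n.2), by
          change av P ((n : M) - av P (n : M)) = 0
          rw [map_sub, hav, sub_self]⟩)
      invFun := fun a => ⟨(a.1 : M) + a.2, N.add_mem a.1.2.1 a.2.2.1⟩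
      left_inv := fun n => Subtype.ext (add_sub_cancel _ _)
      right_inv := ?_ }
  rintro ⟨⟨a, ha, ha'⟩, ⟨b, hb, hb'⟩⟩
  have h1 : av P (a + b) = a := by
    rw [map_add, av_fixed hodd two ha']
    have : av P b = 0 := hb'
    rw [this, add_zero]
  refine Prod.ext (Subtype.ext h1) (Subtype.ext ?_)
  change a + b - av P (a + b) = b
  rw [h1, add_sub_cancel_left]

end average

/-! ### involutions -/

section dih

variable [Finite M]

theorem card_le_of_hom {A B : Type*} [AddGroup A] [AddGroup B] [Finite A] [Finite B] (f : A →+ B) :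
    Nat.card A ≤ Nat.card f.ker * Nat.card B := by
  rw [AddSubgroup.card_eq_card_quotient_mul_card_addSubgroup f.ker, mul_comm]
  refine Nat.mul_le_mul_left _ ?_
  rw [Nat.card_congr (QuotientAddGroup.quotientKerEquivRange f).toEquiv]
  exact Nat.card_le_card_of_injective _ Subtype.val_injective

theorem card_mono {N N' : AddSubgroup M} (h : N ≤ N') : Nat.card N ≤ Nat.card N' :=
  Nat.card_le_card_of_injective _ (AddSubgroup.inclusion_injective h)

/-- `|N| ≤ |C_N(b)|²` -/
theorem inv_le (two : ∀ m : M, m + m = 0) {N : AddSubgroup M} {b : X} (hb : ∀ n ∈ N, b • n ∈ N) (hbb : b * b = 1) :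
    Nat.card N ≤ Nat.card (fx (zpowers b) N) * Nat.card (fx (zpowers b) N) := by
  have hmem : ∀ m : M, b • m = m → ∀ c ∈ zpowers b, c • m = m := by
    rintro m hm c ⟨k, rfl⟩
    have h1 : b ∈ MulAction.stabilizer X m := hm
    exact zpow_mem h1 k
  let f : N →+ fx (zpowers b) N :=
    { toFun := fun n => ⟨b • (n : M) + n, add_mem (hb n n.2) n.2, hmem _ (by
        rw [smul_add, smul_smul, hbb, one_smul, add_comm])⟩
      map_zero' := Subtype.ext (by simp)
      map_add' := fun x y => Subtype.ext (by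
        change b • ((x : M) + y) + (x + y) = (b • (x : M) + x) + (b • (y : M) + y)
        rw [smul_add]; abel) }
  refine (card_le_of_hom f).trans (Nat.mul_le_mul_right _ ?_)
  refine Nat.card_le_card_of_injective (fun n : f.ker => (⟨((n : N) : M), (n : N).2, hmem _ ?_⟩ : fx (zpowers b) N)) ?_
  · have h1 : b • ((n : N) : M) + (n : N) = 0 := congrArg Subtype.val n.2
    have h2 := two ((n : N) : M)
    rw [← h2] at h1
    exact add_right_cancel h1
  · intro x y hxy
    have h1 : ((x : N) : M) = ((y : N) : M) := congrArg (fun z : fx (zpowers b) N => (z : M)) hxy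
    exact Subtype.ext (Subtype.ext h1)

theorem inf_le_card {N U W : AddSubgroup M} (hU : U ≤ N) (hW : W ≤ N) (h : U ⊓ W = ⊥) :
    Nat.card U * Nat.card W ≤ Nat.card N := by
  rw [← Nat.card_prod]
  refine Nat.card_le_card_of_injective (fun a : U × W => (⟨a.1 + a.2, add_mem (hU a.1.2) (hW a.2.2)⟩ : N)) ?_
  rintro ⟨a, b⟩ ⟨c, d⟩ hab
  have h1 : (a : M) + b = c + d := congrArg Subtype.val hab
  have h2 : (a : M) - c = d - b := by rw [sub_eq_sub_iff_add_eq_add, h1, add_comm]
  have h3 : (a : M) - c ∈ U ⊓ W := ⟨U.sub_mem a.2 c.2, by rw [h2]; exact W.sub_mem d.2 b.2⟩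
  rw [h, AddSubgroup.mem_bot] at h3
  refine Prod.ext (Subtype.ext (sub_eq_zero.mp h3)) (Subtype.ext ?_)
  rw [h3] at h2
  exact (sub_eq_zero.mp h2.symm).symm

/-- `|N| = |C_N(b)|²` if `b` inverts `g` and `C_N(g) = 0` -/
theorem dih (two : ∀ m : M, m + m = 0) {N : AddSubgroup M} {b g : X} (hb : ∀ n ∈ N, b • n ∈ N)
    (hg : ∀ n ∈ N, g • n ∈ N) (hbb : b * b = 1) (hbg : b * g * b⁻¹ = g⁻¹) (h0 : ∀ n ∈ N, g • n = n → n = 0) :
    Nat.card N = Nat.card (fx (zpowers b) N) * Nat.card (fx (zpowers b) N) := by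
  have hbi : b⁻¹ = b := inv_eq_of_mul_eq_one_left hbb
  have hb2 : b * g * (b * g) = 1 := by
    rw [hbi] at hbg
    calc b * g * (b * g) = (b * g * b) * g := by group
      _ = 1 := by rw [hbg]; group
  have h1 := inv_le two hb hbb
  have h2 := inv_le (b := b * g) two (fun n hn => by rw [mul_smul]; exact hb _ (hg n hn)) hb2
  have h3 : Nat.card (fx (zpowers b) N) * Nat.card (fx (zpowers (b * g)) N) ≤ Nat.card N := by
    refine inf_le_card (fx_le _ _) (fx_le _ _) ?_
    rw [eq_bot_iff]
    rintro n ⟨hn1, hn2⟩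
    rw [AddSubgroup.mem_bot]
    have e1 : b • n = n := hn1.2 b (mem_zpowers b)
    have e2 : (b * g) • n = n := hn2.2 _ (mem_zpowers _)
    refine h0 n hn1.1 ?_
    rw [mul_smul] at e2
    have e3 : b • g • n = b • n := by rw [e2, e1]
    exact smul_left_cancel b e3
  set x := Nat.card (fx (zpowers b) N)
  set y := Nat.card (fx (zpowers (b * g)) N)
  set n := Nat.card N
  have hx : 0 < x := Nat.card_pos
  have hy : 0 < y := Nat.card_pos
  have h4 : x ≤ y := by
    by_contra hcon
    push Not at hcon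
    have : y * y < x * y := Nat.mul_lt_mul_of_pos_right hcon hy
    omega
  have h5 : y ≤ x := by
    by_contra hcon
    push Not at hcon
    have : x * x < x * y := Nat.mul_lt_mul_of_pos_left hcon hx
    omega
  have h6 : x = y := le_antisymm h4 h5
  rw [← h6] at h3
  omega

end dih

/-! ### cyclic groups -/

section cyclic

variable [Finite X]

theorem comm_of_cyclic {F : Subgroup X} (hF : IsCyclic F) {a b : X} (ha : a ∈ F) (hb : b ∈ F) : a * b = b * a := by
  obtain ⟨g, hg⟩ := hF.exists_generator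
  obtain ⟨i, hi⟩ := hg ⟨a, ha⟩
  obtain ⟨j, hj⟩ := hg ⟨b, hb⟩
  have e1 : (g : X) ^ i = a := by simpa using congrArg Subtype.val hi
  have e2 : (g : X) ^ j = b := by simpa using congrArg Subtype.val hj
  rw [← e1, ← e2, ← zpow_add, ← zpow_add, add_comm]

theorem mem_zpowers_of_dvd {F : Subgroup X} (hF : IsCyclic F) {g h : X} (hg : g ∈ F) (hh : h ∈ F)
    (hd : orderOf g ∣ orderOf h) : g ∈ zpowers h := by
  classical
  letI := Fintype.ofFinite F
  have h1 : (Finset.univ.filter fun a : F => a ^ orderOf h = 1).card ≤ orderOf h :=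
    IsCyclic.card_pow_eq_one_le (orderOf_pos h)
  let f : zpowers h → {a : F // a ^ orderOf h = 1} := fun x => ⟨⟨x, by
    obtain ⟨k, hk⟩ := x.2
    change h ^ k = (x : X) at hk
    rw [← hk]; exact zpow_mem hh k⟩, by
    apply Subtype.ext
    obtain ⟨k, hk⟩ := x.2
    change h ^ k = (x : X) at hk
    change (x : X) ^ orderOf h = 1
    rw [← hk, ← zpow_natCast, ← zpow_mul, mul_comm, zpow_mul, zpow_natCast, pow_orderOf_eq_one, one_zpow]⟩
  have hf : Function.Injective f := fun x y hxy =>
    Subtype.ext (congrArg (fun z : {a : F // a ^ orderOf h = 1} => ((z : F) : X)) hxy)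
  have h2 : Function.Bijective f := by
    refine (Nat.bijective_iff_injective_and_card f).mpr ⟨hf, ?_⟩
    refine le_antisymm (Nat.card_le_card_of_injective f hf) ?_
    rw [Nat.card_zpowers, Nat.card_eq_fintype_card, Fintype.card_subtype]
    exact h1
  have hg1 : (⟨g, hg⟩ : F) ^ orderOf h = 1 := Subtype.ext (by
    change g ^ orderOf h = 1
    exact orderOf_dvd_iff_pow_eq_one.mp hd)
  obtain ⟨x, hx⟩ := h2.2 ⟨⟨g, hg⟩, hg1⟩
  have h3 : (x : X) = g := congrArg (fun z : {a : F // a ^ orderOf h = 1} => ((z : F) : X)) hx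
  rw [← h3]; exact x.2

theorem normal_of_le {F : Subgroup X} (hF : IsCyclic F) (hn : F.Normal) {P : Subgroup X} (hP : P ≤ F) : P.Normal := by
  refine ⟨fun p hp c => ?_⟩
  have h1 : c * p * c⁻¹ ∈ F := hn.conj_mem p (hP hp) c
  have h2 : orderOf (c * p * c⁻¹) = orderOf p := by
    have := orderOf_injective (MulAut.conj c).toMonoidHom (MulAut.conj c).injective p
    exact this
  have h3 := mem_zpowers_of_dvd hF h1 (hP hp) (dvd_of_eq h2)
  exact (zpowers_le.mpr hp) h3

/-- a subgroup containing the elements of prime power order -/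
theorem mem_of_pp {K : Subgroup X} : ∀ n (h : X), orderOf h = n →
    (∀ g ∈ zpowers h, ∀ r m : ℕ, r.Prime → orderOf g = r ^ m → g ∈ K) → h ∈ K := by
  intro n
  induction n using Nat.recOnPosPrimePosCoprime with
  | zero => intro h hn; exact absurd hn (orderOf_pos h).ne'
  | one => intro h hn _; rw [orderOf_eq_one_iff.mp hn]; exact one_mem _
  | prime_pow p m hp _ =>
    intro h hn hK
    exact hK h (mem_zpowers h) p m hp hn
  | coprime a b ha hb hab iha ihb =>
    intro h hn hK
    have h1 : orderOf (h ^ b) = a := by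
      rw [orderOf_pow, hn, Nat.gcd_eq_right (dvd_mul_left b a), Nat.mul_div_cancel _ (by omega)]
    have h2 : orderOf (h ^ a) = b := by
      rw [orderOf_pow, hn, Nat.gcd_eq_right (dvd_mul_right a b), Nat.mul_div_cancel_left _ (by omega)]
    have k1 : h ^ b ∈ K := iha _ h1 fun g hg => hK g ((zpowers_le.mpr (pow_mem (mem_zpowers h) b)) hg)
    have k2 : h ^ a ∈ K := ihb _ h2 fun g hg => hK g ((zpowers_le.mpr (pow_mem (mem_zpowers h) a)) hg)
    have h3 := Nat.gcd_eq_gcd_ab a b
    rw [hab] at h3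
    have h4 : h = (h ^ a) ^ (Nat.gcdA a b) * (h ^ b) ^ (Nat.gcdB a b) := by
      rw [← zpow_natCast, ← zpow_natCast, ← zpow_mul, ← zpow_mul, ← zpow_add, ← h3]
      simp
    rw [h4]
    exact mul_mem (zpow_mem k2 _) (zpow_mem k1 _)

/-- an involution centralizes or inverts an element of odd prime power order -/
theorem pm {F : Subgroup X} (hF : IsCyclic F) (hn : F.Normal) {a g : X} (haa : a * a = 1) (hg : g ∈ F)
    {r m : ℕ} (hr : r.Prime) (hr2 : r ≠ 2) (ho : orderOf g = r ^ m) : a * g = g * a ∨ a * g * a⁻¹ = g⁻¹ := by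
  have hai : a⁻¹ = a := inv_eq_of_mul_eq_one_left haa
  have h1 : a * g * a⁻¹ ∈ zpowers g := by
    haveI := normal_of_le hF hn (zpowers_le.mpr hg)
    exact this.conj_mem g (mem_zpowers g) a
  obtain ⟨j, hj⟩ := h1
  change g ^ j = a * g * a⁻¹ at hj
  have h2 : g ^ (j * j) = g := by
    rw [zpow_mul, hj]
    have e : (a * g * a⁻¹) ^ j = a * g ^ j * a⁻¹ := conj_zpow
    rw [e, hj, hai]
    calc a * (a * g * a) * a = (a * a) * g * (a * a) := by group
      _ = g := by rw [haa]; group
  have h3 : (orderOf g : ℤ) ∣ (j - 1) * (j + 1) := by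
    rw [orderOf_dvd_iff_zpow_eq_one]
    have e : (j - 1) * (j + 1) = j * j - 1 := by ring
    rw [e, zpow_sub, h2, zpow_one, mul_inv_cancel]
  rw [ho] at h3
  have h4 : (orderOf g : ℤ) ∣ j - 1 ∨ (orderOf g : ℤ) ∣ j + 1 := by
    rw [ho]
    by_cases hd : (r : ℤ) ∣ j - 1
    · left
      have hd' : ¬ (r : ℤ) ∣ j + 1 := by
        intro hd'
        have h5 := dvd_sub hd' hd
        have e : j + 1 - (j - 1) = 2 := by ring
        rw [e] at h5
        have h6 : r ∣ 2 := by exact_mod_cast h5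
        exact hr2 ((Nat.prime_dvd_prime_iff_eq hr Nat.prime_two).mp h6)
      have hco : IsCoprime ((r ^ m : ℕ) : ℤ) (j + 1) := by
        push_cast
        exact IsCoprime.pow_left (((Nat.prime_iff_prime_int.mp hr).coprime_iff_not_dvd).mpr hd')
      exact hco.dvd_of_dvd_mul_right h3
    · right
      have hco : IsCoprime ((r ^ m : ℕ) : ℤ) (j - 1) := by
        push_cast
        exact IsCoprime.pow_left (((Nat.prime_iff_prime_int.mp hr).coprime_iff_not_dvd).mpr hd)
      exact hco.dvd_of_dvd_mul_left h3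
  rcases h4 with h5 | h5
  · left
    rw [orderOf_dvd_iff_zpow_eq_one, zpow_sub, zpow_one, hj] at h5
    rw [mul_inv_eq_one] at h5
    calc a * g = (a * g * a⁻¹) * a := by group
      _ = g * a := by rw [h5]
  · right
    rw [orderOf_dvd_iff_zpow_eq_one, zpow_add, zpow_one, hj] at h5
    exact eq_inv_of_mul_eq_one_left h5

end cyclic

/-! ### the standing situation -/

/-- `F` is cyclic, normal, of odd order; `A` is elementary abelian -/
structure Amb (M : Type v) [AddCommGroup M] (F A : Subgroup X) : Prop where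
  two : ∀ m : M, m + m = 0
  cyc : IsCyclic F
  odd : Odd (Nat.card F)
  norm : F.Normal
  ab : ∀ a ∈ A, ∀ b ∈ A, a * b = b * a
  sq : ∀ a ∈ A, a * a = 1

/-- `N` is generated by the orbit of the `A`-fixed element `l` under `F` -/
structure Good (F A : Subgroup X) (N : AddSubgroup M) (l : M) : Prop where
  mem : l ∈ N
  fix : ∀ a ∈ A, a • l = l
  inv : ∀ f ∈ F, ∀ n ∈ N, f • n ∈ N
  gen : ∀ U : AddSubgroup M, (∀ f ∈ F, f • l ∈ U) → N ≤ U

/-- pull back of a subgroup by the action of an element -/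
def pb (c : X) (N : AddSubgroup M) : AddSubgroup M where
  carrier := {m | c • m ∈ N}
  add_mem' := fun {a b} h1 h2 => by
    change c • (a + b) ∈ N
    rw [smul_add]; exact add_mem h1 h2
  zero_mem' := by
    change c • (0 : M) ∈ N
    rw [smul_zero]; exact zero_mem _
  neg_mem' := fun {a} h => by
    change c • (-a) ∈ N
    rw [smul_neg]; exact neg_mem h

namespace Good

variable [Finite X] {F A : Subgroup X} {N : AddSubgroup M} {l : M}

theorem inv' (h : Good F A N l) (hn : F.Normal) : ∀ a ∈ A, ∀ n ∈ N, a • n ∈ N := by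
  intro a ha n hn'
  have h1 : N ≤ pb a N := by
    refine h.gen _ fun f hf => ?_
    change a • f • l ∈ N
    have e : a • f • l = (a * f * a⁻¹) • l := by
      calc a • f • l = (a * f * a⁻¹ * a) • l := by rw [inv_mul_cancel_right, smul_smul]
        _ = (a * f * a⁻¹) • l := by rw [mul_smul, h.fix a ha]
    rw [e]
    exact h.inv _ (hn.conj_mem f hf a) _ h.mem
  exact h1 hn'

/-- the part fixed by `P` -/
theorem fx (h : Good F A N l) (hF : IsCyclic F) (hodd : Odd (Nat.card F)) (two : ∀ m : M, m + m = 0) (hn : F.Normal)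
    {P : Subgroup X} (hP : P ≤ F) : Good F A (Fit.fx P N) (av P l) := by
  haveI := normal_of_le hF hn hP
  have hPo : Odd (Nat.card P) := Odd.of_dvd_nat hodd (card_dvd_of_le hP)
  refine ⟨⟨av_mem (fun p hp => h.inv p (hP hp)) h.mem, fun p hp => smul_av hp _⟩, fun a ha => ?_, ?_, ?_⟩
  · rw [smul_av_comm, h.fix a ha]
  · rintro f hf n ⟨hn1, hn2⟩
    refine ⟨h.inv f hf n hn1, fun p hp => ?_⟩
    rw [smul_smul, comm_of_cyclic hF (hP hp) hf, mul_smul, hn2 p hp]
  · intro U hU n hn'
    have h1 : N ≤ U.comap (av P) := by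
      refine h.gen _ fun f hf => ?_
      change av P (f • l) ∈ U
      rw [← smul_av_comm]
      exact hU f hf
    have h2 := h1 hn'.1
    change av P n ∈ U at h2
    rwa [av_fixed hPo two hn'.2] at h2

/-- the complement -/
theorem ker (h : Good F A N l) (hF : IsCyclic F) (hodd : Odd (Nat.card F)) (two : ∀ m : M, m + m = 0) (hn : F.Normal)
    {P : Subgroup X} (hP : P ≤ F) : Good F A (N ⊓ (av P : M →+ M).ker) (l - av P l) := by
  haveI := normal_of_le hF hn hP
  have hPo : Odd (Nat.card P) := Odd.of_dvd_nat hodd (card_dvd_of_le hP)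
  refine ⟨⟨N.sub_mem h.mem (av_mem (fun p hp => h.inv p (hP hp)) h.mem), ?_⟩, fun a ha => ?_, ?_, ?_⟩
  · change av P (l - av P l) = 0
    rw [map_sub, av_fixed hPo two (m := av P l) fun p hp => smul_av hp _, sub_self]
  · rw [smul_sub, smul_av_comm, h.fix a ha]
  · rintro f hf n ⟨hn1, hn2⟩
    refine ⟨h.inv f hf n hn1, ?_⟩
    change av P (f • n) = 0
    have h1 : av P n = 0 := hn2
    rw [← smul_av_comm, h1, smul_zero]
  · intro U hU n hn'
    have h1 : N ≤ U.comap (AddMonoidHom.id M - av P) := by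
      refine h.gen _ fun f hf => ?_
      change f • l - av P (f • l) ∈ U
      rw [← smul_av_comm, ← smul_sub]
      exact hU f hf
    have h2 := h1 hn'.1
    change n - av P n ∈ U at h2
    have h3 : av P n = 0 := hn'.2
    rwa [h3, sub_zero] at h2

/-- an element of `A` commuting with `F` on `N` is trivial on `N` -/
theorem trivial (h : Good F A N l) {a : X} (ha : a ∈ A) (hc : ∀ f ∈ F, a • f • l = f • a • l) : ∀ n ∈ N, a • n = n := by
  have h1 : N ≤ Fit.fx (zpowers a) (⊤ : AddSubgroup M) := by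
    refine h.gen _ fun f hf => ⟨AddSubgroup.mem_top _, ?_⟩
    have h2 : a • f • l = f • l := by rw [hc f hf, h.fix a ha]
    rintro c ⟨k, rfl⟩
    have h3 : a ∈ MulAction.stabilizer X (f • l) := h2
    exact zpow_mem h3 k
  exact fun n hn => (h1 hn).2 a (mem_zpowers a)

end Good

/-- the elements of `F` inverted by `a` -/
def iv (F : Subgroup X) (hF : ∀ x ∈ F, ∀ y ∈ F, x * y = y * x) (a : X) : Subgroup X where
  carrier := {f | f ∈ F ∧ a * f * a⁻¹ = f⁻¹}
  mul_mem' := by
    rintro x y ⟨h1, h2⟩ ⟨h3, h4⟩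
    refine ⟨mul_mem h1 h3, ?_⟩
    calc a * (x * y) * a⁻¹ = (a * x * a⁻¹) * (a * y * a⁻¹) := by group
      _ = (x * y)⁻¹ := by rw [h2, h4, hF x h1 y h3, mul_inv_rev]
  one_mem' := ⟨one_mem _, by group⟩
  inv_mem' := by
    rintro x ⟨h1, h2⟩
    refine ⟨inv_mem h1, ?_⟩
    calc a * x⁻¹ * a⁻¹ = (a * x * a⁻¹)⁻¹ := by group
      _ = x⁻¹⁻¹ := by rw [h2]

section inverted

variable [Finite X] {F A : Subgroup X} {N : AddSubgroup M} {l : M}

/-- `f = f₁ f₂` with `f₁` centralized and `f₂` inverted by `a` -/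
theorem exists_mul (hF : ∀ x ∈ F, ∀ y ∈ F, x * y = y * x) (hodd : Odd (Nat.card F)) (hn : F.Normal) {a f : X}
    (haa : a * a = 1) (hf : f ∈ F) : ∃ x ∈ F, a * x * a⁻¹ = x ∧ ∃ y ∈ iv F hF a, f = x * y := by
  have hai : a⁻¹ = a := inv_eq_of_mul_eq_one_left haa
  set f' := a * f * a⁻¹ with hf'
  have hf'F : f' ∈ F := hn.conj_mem f hf a
  have e1 : a * f' * a⁻¹ = f := by
    rw [hf', hai]
    calc a * (a * f * a) * a = (a * a) * f * (a * a) := by group
      _ = f := by rw [haa]; group
  have hcomm := hF f hf f' hf'F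
  obtain ⟨k, hk⟩ := hodd
  have hpow : ∀ u ∈ F, (u * u) ^ (k + 1) = u := by
    intro u hu
    have h1 : u ^ Nat.card F = 1 := by
      have := pow_card_eq_one' (x := (⟨u, hu⟩ : F))
      exact congrArg Subtype.val this
    rw [← pow_two, ← pow_mul]
    have e : 2 * (k + 1) = Nat.card F + 1 := by omega
    rw [e, pow_succ, h1, one_mul]
  refine ⟨(f * f') ^ (k + 1), pow_mem (mul_mem hf hf'F) _, ?_, (f * f'⁻¹) ^ (k + 1), ?_, ?_⟩
  · have : a * (f * f') * a⁻¹ = f * f' := by
      calc a * (f * f') * a⁻¹ = (a * f * a⁻¹) * (a * f' * a⁻¹) := by group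
        _ = f * f' := by rw [← hf', e1, hcomm]
    rw [← conj_pow, this]
  · have e2 : a * (f * f'⁻¹) * a⁻¹ = (f * f'⁻¹)⁻¹ := by
      calc a * (f * f'⁻¹) * a⁻¹ = (a * f * a⁻¹) * (a * f' * a⁻¹)⁻¹ := by group
        _ = (f * f'⁻¹)⁻¹ := by rw [← hf', e1]; group
    have hq : f * f'⁻¹ ∈ iv F hF a := ⟨mul_mem hf (inv_mem hf'F), e2⟩
    exact pow_mem hq _
  · have hc2 : Commute (f * f') (f * f'⁻¹) := by
      change f * f' * (f * f'⁻¹) = f * f'⁻¹ * (f * f')
      exact hF _ (mul_mem hf hf'F) _ (mul_mem hf (inv_mem hf'F))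
    rw [← hc2.mul_pow]
    have e : f * f' * (f * f'⁻¹) = f * f := by
      calc f * f' * (f * f'⁻¹) = f * (f' * f) * f'⁻¹ := by group
        _ = f * f := by rw [← hcomm]; group
    rw [e, hpow f hf]

/-- `a` acts trivially on the points fixed by the elements inverted by `a` -/
theorem triv_fx (h : Amb M F A) (hg : Good F A N l) {a : X} (ha : a ∈ A) :
    ∀ n ∈ fx (iv F (fun _ hx _ hy => comm_of_cyclic h.cyc hx hy) a) N, a • n = n := by
  set hF : ∀ x ∈ F, ∀ y ∈ F, x * y = y * x := fun _ hx _ hy => comm_of_cyclic h.cyc hx hy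
  have hle : iv F hF a ≤ F := fun f hf => hf.1
  have hg' := hg.fx h.cyc h.odd h.two h.norm hle
  refine hg'.trivial ha fun f hf => ?_
  obtain ⟨x, hx, hxa, y, hy, rfl⟩ := exists_mul hF h.odd h.norm (h.sq a ha) hf
  have hxa' : a * x = x * a := mul_inv_eq_iff_eq_mul.mp hxa
  have e1 : (x * y) • av (iv F hF a) l = x • av (iv F hF a) l := by rw [mul_smul, smul_av hy]
  have e2 : (x * y) • a • av (iv F hF a) l = x • a • av (iv F hF a) l := by
    rw [mul_smul, hg'.fix a ha, smul_av hy]
  rw [e1, e2, smul_smul, smul_smul, hxa']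

/-- a nontrivial element of `A` inverts an element of prime power order nontrivial on `N` -/
theorem exists_pp (h : Amb M F A) (hg : Good F A N l) {a : X} {m : M} (ha : a ∈ A) (hm : m ∈ N) (ham : a • m ≠ m) :
    ∃ g ∈ F, ∃ r k : ℕ, r.Prime ∧ orderOf g = r ^ k ∧ a * g * a⁻¹ = g⁻¹ ∧ ∃ v ∈ N, g • v ≠ v := by
  by_contra hcon
  push Not at hcon
  set hF : ∀ x ∈ F, ∀ y ∈ F, x * y = y * x := fun _ hx _ hy => comm_of_cyclic h.cyc hx hy
  apply ham
  refine triv_fx h hg ha m ⟨hm, fun p hp => ?_⟩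
  have h1 : p ∈ kn ⊤ N := by
    refine mem_of_pp _ p rfl fun g hgp r k hr ho => ⟨mem_top _, ?_⟩
    have hg2 : g ∈ iv F hF a := (zpowers_le.mpr hp) hgp
    exact hcon g hg2.1 r k hr ho hg2.2
  exact h1.2 m hm

end inverted

/-! ### the inequality -/

section ineq

variable [Finite X] [Finite M] {F A : Subgroup X}

theorem two_mul_le {H K : Subgroup X} (hK : ∀ x ∈ H, ∀ y ∈ H, x ∉ K → y ∉ K → x * y ∈ K)
    (h1 : ∃ x ∈ H, x ∉ K) : Nat.card H ≤ 2 * Nat.card K := by
  classical
  obtain ⟨b, hb, hbK⟩ := h1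
  let f : H → K × Bool := fun x =>
    if hx : (x : X) ∈ K then (⟨x, hx⟩, true) else (⟨b * x, hK b hb x x.2 hbK hx⟩, false)
  have hf : Function.Injective f := by
    intro x y hxy
    have h1 := congrArg Prod.snd hxy
    have h2 := congrArg (fun p : K × Bool => (p.1 : X)) hxy
    by_cases hx : (x : X) ∈ K
    · by_cases hy : (y : X) ∈ K
      · simp only [f, hx, hy, dite_true] at h2
        exact Subtype.ext h2
      · simp only [f, hx, hy, dite_true, dite_false] at h1
        exact absurd h1 (by decide)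
    · by_cases hy : (y : X) ∈ K
      · simp only [f, hx, hy, dite_true, dite_false] at h1
        exact absurd h1 (by decide)
      · simp only [f, hx, hy, dite_false] at h2
        exact Subtype.ext (mul_left_cancel h2)
  have := Nat.card_le_card_of_injective f hf
  rw [Nat.card_prod, Nat.card_eq_fintype_card (α := Bool), Fintype.card_bool] at this
  omega

theorem fx_zpowers {b : X} {N : AddSubgroup M} {n : M} (hn : n ∈ N) (h : b • n = n) : n ∈ fx (zpowers b) N := by
  refine ⟨hn, ?_⟩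
  rintro c ⟨k, rfl⟩
  have h3 : b ∈ MulAction.stabilizer X n := h
  exact zpow_mem h3 k

theorem smul_zpowers {b c : X} {n : M} (h : b • n = n) (hc : c ∈ zpowers b) : c • n = n :=
  (fx_zpowers (AddSubgroup.mem_top n) h).2 c hc

theorem two_le_card {N : AddSubgroup M} {m : M} (hm : m ∈ N) (hm0 : m ≠ 0) : 2 ≤ Nat.card N := by
  have h1 : Nontrivial N := ⟨⟨⟨m, hm⟩, 0, fun e => hm0 (congrArg Subtype.val e)⟩⟩
  exact Finite.one_lt_card

/-- splitting of the fixed points -/
theorem card_split_fx (h : Amb M F A) {N : AddSubgroup M} {l : M} (hg : Good F A N l) {P B : Subgroup X} (hP : P ≤ F) :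
    Nat.card (fx B N) = Nat.card (fx B (fx P N)) * Nat.card (fx B (N ⊓ (av P : M →+ M).ker)) := by
  haveI := normal_of_le h.cyc h.norm hP
  have hPo : Odd (Nat.card P) := Odd.of_dvd_nat h.odd (card_dvd_of_le hP)
  rw [card_split (P := P) (N := fx B N) hPo h.two]
  · congr 1
    · congr 2
      ext m
      exact ⟨fun h1 => ⟨⟨h1.1.1, h1.2⟩, h1.1.2⟩, fun h1 => ⟨⟨h1.1.1, h1.2⟩, h1.1.2⟩⟩
    · congr 2
      ext m
      exact ⟨fun h1 => ⟨⟨h1.1.1, h1.2⟩, h1.1.2⟩, fun h1 => ⟨⟨h1.1.1, h1.2⟩, h1.1.2⟩⟩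
  · intro n hn
    refine ⟨av_mem (fun p hp => hg.inv p (hP hp)) hn.1, fun b hb => ?_⟩
    rw [smul_av_comm, hn.2 b hb]

theorem card_split' (h : Amb M F A) {N : AddSubgroup M} {l : M} (hg : Good F A N l) {P : Subgroup X} (hP : P ≤ F) :
    Nat.card N = Nat.card (fx P N) * Nat.card ↥(N ⊓ (av P : M →+ M).ker) :=
  card_split (Odd.of_dvd_nat h.odd (card_dvd_of_le hP)) h.two
    (fun _ hn => av_mem (fun p hp => hg.inv p (hP hp)) hn)

/-- `g` has no fixed points on `[N, g]` -/
theorem fpf (h : Amb M F A) {N : AddSubgroup M} {g : X} (hg : g ∈ F) {n : M}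
    (hn : n ∈ N ⊓ (av (zpowers g) : M →+ M).ker) (hgn : g • n = n) : n = 0 := by
  have hPo : Odd (Nat.card (zpowers g)) := Odd.of_dvd_nat h.odd (card_dvd_of_le (zpowers_le.mpr hg))
  have h1 : av (zpowers g) n = 0 := hn.2
  rwa [av_fixed hPo h.two fun p hp => smul_zpowers hgn hp] at h1

/-- `|C_N(B)| |B| ≤ |N| |C_B(N)|` -/
theorem ineq (h : Amb M F A) : ∀ k : ℕ, ∀ (N : AddSubgroup M) (l : M) (B : Subgroup X), Nat.card N + Nat.card B = k →
    B ≤ A → Good F A N l → Nat.card (fx B N) * Nat.card B ≤ Nat.card N * Nat.card (kn B N) := by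
  intro k
  induction k using Nat.strong_induction_on with
  | _ k ih =>
    intro N l B hk hB hg
    by_cases hall : ∀ b ∈ B, ∀ n ∈ N, b • n = n
    · have e1 : fx B N = N := le_antisymm (fx_le _ _) fun n hn => ⟨hn, fun b hb => hall b hb n hn⟩
      have e2 : kn B N = B := le_antisymm (kn_le _ _) fun b hb => ⟨hb, hall b hb⟩
      rw [e1, e2]
    push Not at hall
    obtain ⟨b, hb, m, hm, hbm⟩ := hall
    obtain ⟨g, hgF, r, j, hr, hgo, hbg, v, hv, hgv⟩ := exists_pp h hg (hB hb) hm hbm
    have hP : zpowers g ≤ F := zpowers_le.mpr hgF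
    have hPo : Odd (Nat.card (zpowers g)) := Odd.of_dvd_nat h.odd (card_dvd_of_le hP)
    have hr2 : r ≠ 2 := by
      rintro rfl
      rw [Nat.card_zpowers, hgo] at hPo
      have hj : j = 0 := by
        by_contra hj
        exact (Nat.not_even_iff_odd.mpr hPo) ((Nat.even_pow).mpr ⟨even_two, hj⟩)
      rw [hj, pow_zero, orderOf_eq_one_iff] at hgo
      rw [hgo, one_smul] at hgv
      exact hgv rfl
    have hN2 := hg.fx h.cyc h.odd h.two h.norm hP
    have hN1 := hg.ker h.cyc h.odd h.two h.norm hP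
    set N2 := fx (zpowers g) N with hN2d
    set N1 := N ⊓ (av (zpowers g) : M →+ M).ker with hN1d
    have hsplit : Nat.card N = Nat.card N2 * Nat.card N1 := card_split' h hg hP
    have hsplitB : Nat.card (fx B N) = Nat.card (fx B N2) * Nat.card (fx B N1) := card_split_fx h hg hP
    -- `N1 ≠ 0`
    set l1 := l - av (zpowers g) l with hl1
    have hl10 : l1 ≠ 0 := by
      intro e
      apply hgv
      have h1 : N ≤ fx (zpowers g) (⊤ : AddSubgroup M) := by
        refine hg.gen _ fun f hf => ⟨AddSubgroup.mem_top _, fun p hp => ?_⟩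
        have h2 : l = av (zpowers g) l := sub_eq_zero.mp e
        have h3 : p • l = l := by rw [h2]; exact smul_av hp l
        rw [smul_smul, comm_of_cyclic h.cyc (hP hp) hf, mul_smul, h3]
      exact (h1 hv).2 g (mem_zpowers g)
    have hN1c : 2 ≤ Nat.card N1 := two_le_card hN1.mem hl10
    have hN2pos : 0 < Nat.card N2 := Nat.card_pos
    have hBpos : 0 < Nat.card B := Nat.card_pos
    -- first induction
    have hlt : Nat.card N2 < Nat.card N := by
      rw [hsplit]
      calc Nat.card N2 < Nat.card N2 * 2 := by omega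
        _ ≤ Nat.card N2 * Nat.card N1 := Nat.mul_le_mul_left _ hN1c
    have ih1 := ih (Nat.card N2 + Nat.card B) (by omega) N2 _ B rfl hB hN2
    set B1 := kn B N2 with hB1
    set B0 := B1 ⊓ centralizer ({g} : Set X) with hB0
    have hB1B : B1 ≤ B := kn_le _ _
    have hB0B : B0 ≤ B := inf_le_left.trans hB1B
    have hbg' : ¬ b * g = g * b := by
      intro e
      have e2 : g = g⁻¹ := by rw [← hbg, e]; group
      have e3 : g * g = 1 := by nth_rw 1 [e2]; group
      have e4 : orderOf g ∣ 2 := orderOf_dvd_of_pow_eq_one (by rw [pow_two, e3])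
      rw [Nat.card_zpowers] at hPo
      rcases (Nat.dvd_prime Nat.prime_two).mp e4 with e5 | e5
      · rw [orderOf_eq_one_iff] at e5
        rw [e5, one_smul] at hgv
        exact hgv rfl
      · rw [e5] at hPo
        exact absurd hPo (by decide)
    have hlt0 : Nat.card B0 < Nat.card B := by
      refine lt_of_le_of_ne (card_le_of_le hB0B) fun e => ?_
      have h1 : B0 = B := Subgroup.eq_of_le_of_card_ge hB0B e.ge
      rw [← h1] at hb
      exact hbg' (mem_centralizer_singleton_iff.mp hb.2)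
    have ih2 := ih (Nat.card N1 + Nat.card B0) (by
      have : Nat.card N1 ≤ Nat.card N := card_mono inf_le_left
      omega) N1 _ B0 rfl (hB0B.trans hB) hN1
    -- the kernel
    have hker : Nat.card (kn B0 N1) ≤ Nat.card (kn B N) := by
      refine card_le_of_le fun x hx => ⟨hB0B hx.1, fun n hn => ?_⟩
      have h1 : x • av (zpowers g) n = av (zpowers g) n :=
        hx.1.1.2 _ ⟨av_mem (fun p hp => hg.inv p (hP hp)) hn, fun p hp => smul_av hp _⟩
      have h2 : x • (n - av (zpowers g) n) = n - av (zpowers g) n := by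
        refine hx.2 _ ⟨N.sub_mem hn (av_mem (fun p hp => hg.inv p (hP hp)) hn), ?_⟩
        change av (zpowers g) (n - av (zpowers g) n) = 0
        rw [map_sub, av_fixed hPo h.two (m := av (zpowers g) n) fun p hp => smul_av hp _, sub_self]
      rw [smul_sub, h1] at h2
      exact sub_left_inj.mp h2
    -- the main claim
    have hclaim : Nat.card B1 * Nat.card (fx B N1) ≤ Nat.card (fx B0 N1) * Nat.card B0 := by
      by_cases hcen : B1 ≤ centralizer ({g} : Set X)
      · have e : B0 = B1 := inf_eq_left.mpr hcen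
        rw [e, mul_comm]
        exact Nat.mul_le_mul_right _ (card_mono (fx_mono hB1B))
      · obtain ⟨b1, hb1, hb1g⟩ := Set.not_subset.mp hcen
        have hpm : ∀ x ∈ B1, x ∉ B0 → x * g * x⁻¹ = g⁻¹ := by
          intro x hx hx0
          have hxA := hB (hB1B hx)
          rcases pm h.cyc h.norm (h.sq x hxA) hgF hr hr2 hgo with e | e
          · exact absurd (mem_inf.mpr ⟨hx, mem_centralizer_singleton_iff.mpr e⟩) hx0
          · exact e
        have hb10 : b1 ∉ B0 := fun e => hb1g e.2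
        have hcard : Nat.card B1 ≤ 2 * Nat.card B0 := by
          refine two_mul_le (fun x hx y hy hx0 hy0 => ?_) ⟨b1, hb1, hb10⟩
          refine mem_inf.mpr ⟨mul_mem hx hy, mem_centralizer_singleton_iff.mpr ?_⟩
          have e1 := hpm x hx hx0
          have e2 := hpm y hy hy0
          have e3 : x * y * g * (x * y)⁻¹ = g := by
            calc x * y * g * (x * y)⁻¹ = x * (y * g * y⁻¹) * x⁻¹ := by group
              _ = (x * g * x⁻¹)⁻¹ := by rw [e2]; group
              _ = g := by rw [e1, inv_inv]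
          exact mul_inv_eq_iff_eq_mul.mp e3
        have hb1A := hB (hB1B hb1)
        have hb1i : ∀ n ∈ fx B0 N1, b1 • n ∈ fx B0 N1 := by
          intro n hn
          refine ⟨hN1.inv' h.norm b1 hb1A n hn.1, fun c hc => ?_⟩
          rw [smul_smul, h.ab c (hB (hB0B hc)) b1 hb1A, mul_smul, hn.2 c hc]
        have hgi : ∀ n ∈ fx B0 N1, g • n ∈ fx B0 N1 := by
          intro n hn
          refine ⟨hN1.inv g hgF n hn.1, fun c hc => ?_⟩
          rw [smul_smul, mem_centralizer_singleton_iff.mp hc.2, mul_smul, hn.2 c hc]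
        have hd := dih h.two hb1i hgi (h.sq b1 hb1A) (hpm b1 hb1 hb10) (fun n hn hgn => fpf h hgF hn.1 hgn)
        set Y := fx (zpowers b1) (fx B0 N1) with hY
        have hYle : Nat.card (fx B N1) ≤ Nat.card Y := by
          refine card_mono fun n hn => ⟨⟨hn.1, fun c hc => hn.2 c (hB0B hc)⟩, fun c hc => ?_⟩
          exact hn.2 c ((zpowers_le.mpr (hB1B hb1)) hc)
        have h2le : 2 ≤ Nat.card (fx B N1) :=
          two_le_card (m := l1) ⟨hN1.mem, fun c hc => hN1.fix c (hB hc)⟩ hl10
        rw [hd]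
        calc Nat.card B1 * Nat.card (fx B N1) ≤ (2 * Nat.card B0) * Nat.card (fx B N1) :=
              Nat.mul_le_mul_right _ hcard
          _ ≤ (Nat.card Y * Nat.card B0) * Nat.card Y :=
              Nat.mul_le_mul (Nat.mul_le_mul_right _ (h2le.trans hYle)) hYle
          _ = Nat.card Y * Nat.card Y * Nat.card B0 := by ring
    calc Nat.card (fx B N) * Nat.card B = (Nat.card (fx B N2) * Nat.card B) * Nat.card (fx B N1) := by
          rw [hsplitB]; ring
      _ ≤ (Nat.card N2 * Nat.card B1) * Nat.card (fx B N1) := Nat.mul_le_mul_right _ ih1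
      _ = Nat.card N2 * (Nat.card B1 * Nat.card (fx B N1)) := by ring
      _ ≤ Nat.card N2 * (Nat.card (fx B0 N1) * Nat.card B0) := Nat.mul_le_mul_left _ hclaim
      _ ≤ Nat.card N2 * (Nat.card N1 * Nat.card (kn B0 N1)) := Nat.mul_le_mul_left _ ih2
      _ ≤ Nat.card N2 * (Nat.card N1 * Nat.card (kn B N)) :=
          Nat.mul_le_mul_left _ (Nat.mul_le_mul_left _ hker)
      _ = Nat.card N * Nat.card (kn B N) := by rw [hsplit]; ring

end ineq

end Cfsg.Agent.OddCyclic.EO.Fit
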