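import Cfsg.Agent.OddCyclic.EO.Deg
import Cfsg.Agent.Lib.Cores

/-!
# Lemmas (N°) and (A8): the configurations in `H = X / O₂(X)` and in `X`

To be proved for finite `H` with `OddCyc H`, `O₂(H) = 1` and simple subgroups in `KZero`:
* `DThree H` (S₄-type configuration in `L₂(p)`);
* `DFive H` (two elementary abelian groups of order 16 with fixed-point-free action of 5-elements commute).
-/

set_option autoImplicit false
set_option linter.dupNamespace false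

namespace Cfsg.Agent.OddCyclic.EO.DegH

universe u

/-- (D3) -/
def DThree (H : Type u) [Group H] : Prop :=
  ∀ c c' u x x' : H, u * u = 1 → u ≠ 1 → (∃ k : ℕ, c ^ 3 ^ k = 1) → (∃ k : ℕ, c' ^ 3 ^ k = 1) →
    u * (c * u * c⁻¹) * (c * (c * u * c⁻¹) * c⁻¹) = 1 → u * (c' * u * c'⁻¹) * (c' * (c' * u * c'⁻¹) * c'⁻¹) = 1 →
    c * u * c⁻¹ ≠ u → c' * u * c'⁻¹ ≠ u →
    (c' * u * c'⁻¹) * (c * u * c⁻¹) = u * ((c * u * c⁻¹) * (c' * u * c'⁻¹)) →
    x * u = u * x → x * c = c * x → x' * u = u * x' → x' * c' = c' * x' → u ≠ x * x'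

/-- a four-dimensional module for a 5-element -/
structure Fp5 {H : Type u} [Group H] (A : Subgroup H) (f : H) : Prop where
  card : Nat.card A = 16
  sq : ∀ a ∈ A, a * a = 1
  pow : ∃ k : ℕ, f ^ 5 ^ k = 1
  norm : ∀ a ∈ A, f * a * f⁻¹ ∈ A
  fpf : ∀ a ∈ A, f * a = a * f → a = 1
  five : ∀ a ∈ A, f ^ 5 * a = a * f ^ 5

/-- (D5) -/
def DFive (H : Type u) [Group H] : Prop :=
  ∀ (A A' : Subgroup H) (f f' : H), Fp5 A f → Fp5 A' f' → IsPGroup 2 ↥(A ⊔ A') → ∀ a ∈ A, ∀ b ∈ A', a * b = b * a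

end Cfsg.Agent.OddCyclic.EO.DegH
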