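import Cfsg.Agent.OddCyclic.EO.DegBase5
import Cfsg.Agent.OddCyclic.EO.DegH
import Cfsg.Agent.OddCyclic.FFMain
import Cfsg.Agent.GH.L2AutFour

/-!
# [D3]: the `S₄`-configuration lives in a component `L₂(p)`

`dThree : DegH.DThree H` for finite `H` with cyclic odd Sylow subgroups, `O₂(H) = 1` and simple nonabelian subgroups
in `KZero` (lemma (N°) of helper220).
-/

set_option autoImplicit false
set_option linter.unusedSectionVars false
set_option linter.dupNamespace false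

namespace Cfsg.Agent.OddCyclic.EO.DThree

open Subgroup Cfsg Cfsg.Agent.OddCyclic.T1Defs Cfsg.Agent.OddCyclic.FFStruct Cfsg.Agent.OddCyclic.CompBasic
  Cfsg.Agent.OddCyclic.EO.DegBase5
open Cfsg.Agent.OddCyclic.PumpMain (KZero)
open Cfsg.Agent.SignalizersComponents.Components
open Cfsg.Agent.SporRec.J1.Defs (Local)
open Cfsg.Agent.GH.L2Aut (Four)

/-- a four-group `{1, u, u^c, u^{c²}}` -/
structure Tri {H : Type*} [Group H] (c u : H) : Prop where
  uu : u * u = 1
  nc : u * (c * u * c⁻¹) * (c * (c * u * c⁻¹) * c⁻¹) = 1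

section tri

variable {H : Type*} [Group H] {c u : H}

theorem Tri.map {M : Type*} [Group M] (h : Tri c u) (f : H →* M) : Tri (f c) (f u) := by
  refine ⟨by rw [← map_mul, h.uu, map_one], ?_⟩
  have := congrArg f h.nc
  simpa only [map_mul, map_inv, map_one] using this

theorem Tri.inv (h : Tri c u) : u⁻¹ = u := inv_eq_of_mul_eq_one_left h.uu

theorem Tri.sq1 (h : Tri c u) : (c * u * c⁻¹) * (c * u * c⁻¹) = 1 := by
  calc (c * u * c⁻¹) * (c * u * c⁻¹) = c * (u * u) * c⁻¹ := by group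
    _ = 1 := by rw [h.uu]; group

theorem Tri.sq2 (h : Tri c u) : (c * (c * u * c⁻¹) * c⁻¹) * (c * (c * u * c⁻¹) * c⁻¹) = 1 := by
  calc (c * (c * u * c⁻¹) * c⁻¹) * (c * (c * u * c⁻¹) * c⁻¹) = c * ((c * u * c⁻¹) * (c * u * c⁻¹)) * c⁻¹ := by group
    _ = 1 := by rw [h.sq1]; group

/-- `u^{c²} = u u^c` -/
theorem Tri.third (h : Tri c u) : c * (c * u * c⁻¹) * c⁻¹ = u * (c * u * c⁻¹) := by
  have h1 : c * (c * u * c⁻¹) * c⁻¹ = (u * (c * u * c⁻¹))⁻¹ := (inv_eq_of_mul_eq_one_right h.nc).symm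
  have h3 : (c * (c * u * c⁻¹) * c⁻¹)⁻¹ = c * (c * u * c⁻¹) * c⁻¹ := inv_eq_of_mul_eq_one_left h.sq2
  rw [← h3, h1, inv_inv]

theorem Tri.comm (h : Tri c u) : u * (c * u * c⁻¹) = (c * u * c⁻¹) * u := by
  have h1 : (u * (c * u * c⁻¹)) * (u * (c * u * c⁻¹)) = 1 := by rw [← h.third]; exact h.sq2
  have h3 : (c * u * c⁻¹)⁻¹ = c * u * c⁻¹ := inv_eq_of_mul_eq_one_left h.sq1
  calc u * (c * u * c⁻¹) = (u * (c * u * c⁻¹))⁻¹ := (inv_eq_of_mul_eq_one_left h1).symm
    _ = (c * u * c⁻¹)⁻¹ * u⁻¹ := by rw [mul_inv_rev]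
    _ = _ := by rw [h3, h.inv]

/-- `u` is a commutator -/
theorem Tri.eq_comm (h : Tri c u) : u = (c * u * c⁻¹) * c * (c * u * c⁻¹)⁻¹ * c⁻¹ := by
  have h3 : (c * u * c⁻¹)⁻¹ = c * u * c⁻¹ := inv_eq_of_mul_eq_one_left h.sq1
  have h4 : (c * u * c⁻¹) * c * (c * u * c⁻¹)⁻¹ * c⁻¹ = (c * u * c⁻¹) * (c * (c * u * c⁻¹) * c⁻¹) := by
    rw [h3]; group
  rw [h4, h.third, h.comm, ← mul_assoc, h.sq1, one_mul]

/-- in a commutative group the configuration is trivial -/
theorem Tri.eq_one_of_comm (h : Tri c u) (hc : ∀ a b : H, a * b = b * a) : u = 1 := by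
  have h1 := h.nc
  rw [hc c u, mul_inv_cancel_right, hc c u, mul_inv_cancel_right, h.uu, one_mul] at h1
  exact h1

end tri

variable {H : Type*} [Group H] [Finite H] {K : Subgroup H} [K.Normal]

local notation "ψ" => (MulAut.conjNormal (H := K))

theorem rel_u {a b u : H} (ha : a * a = 1) (hb : b * b = 1) (h : b * a = u * (a * b)) : u = b * a * b * a := by
  have : b * a * b * a = u * (a * a) * (b * b) * 1 → u = b * a * b * a := by
    intro h1; rw [h1, ha, hb]; group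
  calc u = u * (a * (b * b) * a) := by rw [hb, mul_one, ha, mul_one]
    _ = (u * (a * b)) * (b * a) := by group
    _ = (b * a) * (b * a) := by rw [← h]
    _ = _ := by group

/-- the case without dihedral subgroups -/
theorem triv_of_noD8 (hK : ∀ z ∈ K, z ∈ centralizer (K : Set H) → z = 1) (hn : NoD8 K) {u a b : H}
    (hu : u * u = 1) (ha : a * a = 1) (hb : b * b = 1) (hua : u * a = a * u) (hub : u * b = b * u)
    (hab : b * a = u * (a * b)) (h1 : ∃ g : K, ψ a = MulAut.conj g) (h2 : ∃ g : K, ψ b = MulAut.conj g) :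
    ψ u = 1 := by
  obtain ⟨g, hg⟩ := h1
  obtain ⟨g', hg'⟩ := h2
  have hinj := conj_injective hK
  have hd : ψ u = MulAut.conj (g' * g * g' * g) := by
    rw [rel_u ha hb hab]
    simp only [map_mul]
    rw [hg, hg']
  have h3 : g' * g * g' * g = 1 := by
    refine hn g g' _ (hinj ?_) (hinj ?_) (hinj ?_) (hinj ?_) (hinj ?_) (hinj ?_)
    · rw [map_mul, ← hg, ← map_mul, ha, map_one, map_one]
    · rw [map_mul, ← hg', ← map_mul, hb, map_one, map_one]
    · rw [map_mul, ← hd, ← map_mul, hu, map_one, map_one]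
    · rw [map_mul, map_mul _ g, ← hd, ← hg, ← map_mul, hua, map_mul]
    · rw [map_mul, map_mul _ g', ← hd, ← hg', ← map_mul, hub, map_mul]
    · rw [map_mul, map_mul _ (g' * g * g' * g), map_mul _ g g', ← hd, ← hg, ← hg', ← map_mul, hab, map_mul,
        map_mul]
  rw [hd, h3, map_one]

theorem inner_sz (hs : Cfsg.Lie.IsoSuzuki K) {a : H} (ha : a * a = 1) : ∃ g : K, ψ a = MulAut.conj g := by
  obtain ⟨F, iF, iF', m, hm, hF, ⟨R⟩⟩ := Cfsg.Agent.ThreePrime.SzRel.exists_rel hs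
  exact R.inner hm hF (MulAut.conjNormal a) ⟨1, by rw [pow_one, pow_two, ← map_mul, ha, map_one]⟩

theorem inner_j (hJ : Local K) {k : K} (hk : orderOf k = 2) (a : H) : ∃ g : K, ψ a = MulAut.conj g := by
  obtain ⟨g, hg⟩ := JInner.inner hJ k hk (MulAut.conjNormal a : MulAut K)
  exact ⟨g, MulEquiv.ext fun x => by rw [hg x, MulAut.conj_apply]⟩

section sl

variable {F : Type*} [Field F] [Fintype F] [CharP F 2]

theorem psi_of_ac (e : Matrix.SpecialLinearGroup (Fin 2) F ≃* K) {a : H} {s : Matrix.SpecialLinearGroup (Fin 2) F}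
    (h : FFOuter.ac e a = MulAut.conj s) : ψ a = MulAut.conj (e s) := by
  ext k
  obtain ⟨t, rfl⟩ := e.surjective k
  rw [MulAut.conjNormal_apply, ← FFOuter.e_ac e a t, h, MulAut.conj_apply, MulAut.conj_apply, map_mul, map_mul,
    map_inv]

open Cfsg.Agent.Classification.QDW.TypeHom in
theorem inner_sl (e : Matrix.SpecialLinearGroup (Fin 2) F ≃* K) {c u : H} (h : Tri c u) :
    ∃ g : K, ψ (c * u * c⁻¹) = MulAut.conj g := by
  have hcomm : ∀ σ τ : F ≃+* F, σ * τ = τ * σ := Cfsg.Agent.Lib.AutSL2Out.ringEquiv_comm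
  have h1 : typ (FFOuter.ac e (c * u * c⁻¹)) = 1 := by
    have h3 := (h.map (typ.comp (FFOuter.ac e))).eq_one_of_comm hcomm
    have h4 : typ (FFOuter.ac e u) = 1 := h3
    rw [map_mul, map_mul, map_mul, map_mul, h4, mul_one, map_inv, map_inv, mul_inv_cancel]
  obtain ⟨s, hs⟩ := (L2Model.inner_iff _).1 h1
  exact ⟨e s, psi_of_ac e hs⟩

end sl

section psl

variable {F : Type*} [Field F] [Finite F] (R : Cfsg.Agent.GH.L2Aut.Rep F K)

include R in
/-- elements centralising the `A₄` are trivial on `L₂(p)` -/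
theorem fix_one (hF : (Nat.card F).Prime) {c u x : H} (h : Tri c u) (hxu : x * u = u * x) (hxc : x * c = c * x)
    (hu : ψ u ≠ 1) : ψ x = 1 := by
  have hinj := R.conj_injective
  -- `u` is inner
  obtain ⟨a, ha⟩ : ∃ a : K, MulAut.conj a = ψ u := by
    obtain ⟨γ, hγ⟩ := R.mem_PGL.1 (PGLTorus.mem_PGL_of_prime R hF (ψ (c * u * c⁻¹)))
    obtain ⟨κ, hκ⟩ := R.mem_PGL.1 (PGLTorus.mem_PGL_of_prime R hF (ψ c))
    have h1 : ψ u = R.gl (γ * κ * γ⁻¹ * κ⁻¹) := by
      rw [h.eq_comm]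
      simp only [map_mul, map_inv] at hγ ⊢
      rw [← hγ, ← hκ]
    rw [h1]
    apply R.gl_mem_inn.2
    refine ⟨1, ?_⟩
    have h3 : (γ * κ * γ⁻¹ * κ⁻¹).1.det = (Matrix.GeneralLinearGroup.det (γ * κ * γ⁻¹ * κ⁻¹) : F) := rfl
    rw [h3, map_mul, map_mul, map_mul, map_inv, map_inv, mul_comm (Matrix.GeneralLinearGroup.det γ),
      mul_inv_cancel_right, mul_inv_cancel, Units.val_one, mul_one]
  set b : K := ψ c a with hb
  have hconj : ∀ (α : MulAut K) (k : K), MulAut.conj (α k) = α * MulAut.conj k * α⁻¹ := by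
    intro α k
    ext y
    simp only [MulAut.conj_apply, MulAut.mul_apply, map_mul, map_inv, MulAut.apply_inv_self]
  have hbψ : MulAut.conj b = ψ (c * u * c⁻¹) := by
    rw [hb, hconj, ha, ← map_inv, ← map_mul, ← map_mul]
  have hc2 : MulAut.conj (ψ c b) = ψ (c * (c * u * c⁻¹) * c⁻¹) := by
    rw [hconj, hbψ, ← map_inv, ← map_mul, ← map_mul]
  have haa : a * a = 1 := hinj (by rw [map_mul, ha, ← map_mul, h.uu, map_one, map_one])
  have hbb : b * b = 1 := hinj (by rw [map_mul, hbψ, ← map_mul, h.sq1, map_one, map_one])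
  have hab : a * b = b * a := hinj (by rw [map_mul, map_mul, ha, hbψ, ← map_mul, h.comm, map_mul])
  have hcb : ψ c b = a * b := hinj (by rw [hc2, h.third, map_mul, map_mul _ a, ha, hbψ])
  have ha1 : a ≠ 1 := by
    intro h1
    rw [h1, map_one] at ha
    exact hu ha.symm
  have hb1 : b ≠ 1 := by
    intro h1
    apply ha1
    apply (ψ c).injective
    rw [map_one, ← hb, h1]
  have hne : a ≠ b := by
    intro h1
    apply hb1
    apply (ψ c).injective
    rw [map_one, hcb, ← h1, haa]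
  have hFour : Four a b := ⟨haa, hbb, ha1, hb1, hne, hab⟩
  have hxa : ψ x a = a := by
    apply hinj
    rw [hconj, ha, ← map_inv, ← map_mul, ← map_mul, hxu, mul_inv_cancel_right]
  have hxψ : ψ x * ψ c = ψ c * ψ x := by rw [← map_mul, hxc, map_mul]
  have hxb : ψ x b = b := by
    rw [hb, ← MulAut.mul_apply, hxψ, MulAut.mul_apply, hxa]
  have hcc : ∀ k : K, ψ x = MulAut.conj k → ψ c k = k := by
    intro k hk
    apply hinj
    rw [hconj, ← hk, ← hxψ, mul_inv_cancel_right]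
  rcases R.fix_four hFour (PGLTorus.mem_PGL_of_prime R hF (ψ x)) hxa hxb with h1 | h1 | h1 | h1
  · exact h1
  · exact absurd (hcc a h1).symm (by rw [← hb]; exact hne)
  · exfalso
    have h3 := hcc b h1
    rw [hcb] at h3
    exact ha1 (mul_eq_right.1 h3)
  · exfalso
    have h3 := hcc _ h1
    rw [map_mul, ← hb, hcb, ← mul_assoc, ← hab, mul_assoc, hbb, mul_one] at h3
    exact hb1 (left_eq_mul.1 h3)

end psl

/-- the common hypotheses for one component -/
theorem triv (hK : ∀ z ∈ K, z ∈ centralizer (K : Set H) → z = 1) (hk : KZero K) {c c' u x x' : H}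
    (h : Tri c u) (h' : Tri c' u) (comm : (c' * u * c'⁻¹) * (c * u * c⁻¹) = u * ((c * u * c⁻¹) * (c' * u * c'⁻¹)))
    (hxu : x * u = u * x) (hxc : x * c = c * x) (hxu' : x' * u = u * x') (hxc' : x' * c' = c' * x')
    (hu : u = x * x') : ψ u = 1 := by
  have key : NoD8 K → (∃ g : K, ψ (c * u * c⁻¹) = MulAut.conj g) → (∃ g : K, ψ (c' * u * c'⁻¹) = MulAut.conj g) →
      ψ u = 1 := fun hn h1 h2 =>
    triv_of_noD8 hK hn h.uu h.sq1 h'.sq1 h.comm h'.comm comm h1 h2
  rcases hk with ⟨F, _, _, hp, h5, ⟨e⟩⟩ | ⟨F, _, _, f, hf, hF, ⟨e⟩⟩ | hs | ⟨hJ, k, hk⟩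
  · have hodd : Odd (Fintype.card F) := hp.odd_of_ne_two (by omega)
    have R := Cfsg.Agent.GH.L2Aut.Rep.ofEquiv (Cfsg.Agent.GH.L2Aut.two_ne_zero_of_odd hodd) e
    have hp' : (Nat.card F).Prime := by rw [Nat.card_eq_fintype_card]; exact hp
    by_contra hcon
    have h1 := fix_one R hp' h hxu hxc hcon
    have h2 := fix_one R hp' h' hxu' hxc' hcon
    apply hcon
    rw [hu, map_mul, h1, h2, mul_one]
  · have hch : CharP F 2 := by
      have hch := ringChar.charP F
      have h1 : ringChar F ∣ 2 ^ f := by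
        rw [← hF, ← CharP.cast_eq_zero_iff F (ringChar F), Nat.cast_card_eq_zero]
      have h2 : (ringChar F).Prime := CharP.char_is_prime F (ringChar F)
      have h3 : ringChar F = 2 := (Nat.prime_dvd_prime_iff_eq h2 Nat.prime_two).1 (h2.dvd_of_dvd_pow h1)
      rwa [h3] at hch
    obtain ⟨g⟩ := WeakTI.PslTwo.nonempty_equiv (F := F)
    have e' : Matrix.SpecialLinearGroup (Fin 2) F ≃* K := (e.trans g.symm).symm
    exact key (noD8_sl.congr e') (inner_sl e' h) (inner_sl e' h')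
  · exact key (noD8_sz hs) (inner_sz hs h.sq1) (inner_sz hs h'.sq1)
  · exact key (noD8_j hJ) (inner_j hJ hk _) (inner_j hJ hk _)

/-- **[D3]** -/
theorem dThree {H : Type*} [Group H] [Finite H] (hc : OddCyc H)
    (hk : ∀ J : Subgroup H, IsSimpleGroup J → (∃ x y : J, x * y ≠ y * x) → KZero J) (h2 : pCore 2 H = ⊥) :
    DegH.DThree H := by
  intro c c' u x x' huu hu1 _ _ hnc hnc' _ _ hcomm hxu hxc hxu' hxc' hu
  have h : Tri c u := ⟨huu, hnc⟩
  have h' : Tri c' u := ⟨huu, hnc'⟩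
  apply hu1
  refine eq_one_of_cent h2 ⟨1, by rw [pow_one, pow_two]; exact huu⟩ ?_ ?_
  · intro y hy
    have h1 := comm_fitting hc h2 (c * u * c⁻¹) c y hy
    rwa [← h.eq_comm] at h1
  · intro K hK
    have hKn := component_normal hc hK
    have hks : KZero K := by
      refine hk K (simple_component hc h2 hK) ?_
      by_contra hcon
      push Not at hcon
      exact quasisimple_not_isMulCommutative hK.2 ⟨⟨hcon⟩⟩
    rw [mem_cent_iff]
    exact triv (inter_centralizer hc h2 hK) hks h h' hcomm hxu hxc hxu' hxc' hu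

end Cfsg.Agent.OddCyclic.EO.DThree
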