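import Mathlib
import Cfsg.Agent.OddCyclic.EO.NTri
import Cfsg.Agent.MinSimple.Killing
import Cfsg.Agent.MinSimple.VModule

/-!
# The natural block: the action of `C p` on `U p / ⟨p⟩`, the killing lemma, `K p` is a 2-group

Blueprint `P21-NatBlock-helper789.md`, (A2), (A3), (A6), (A7).
-/

set_option autoImplicit false
set_option linter.unusedSectionVars false

namespace Cfsg.Agent.OddCyclic.EO.NTri

open Subgroup Cfsg Cfsg.Agent.ZN Cfsg.Agent.MinSimple.Geo
open Cfsg.Agent.Classification.TitsFin.Tri (Pt kst cj_kst K Q)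
open Cfsg.Agent.ZN.Block (conj_mem_of_normalizer conj_mem_of_normalizer' le_normalizer_of_forall
  mem_normalizer_of card_sup_mul_card_inf card_mul_relIndex' mul_mem_of_relIndex_two o2_le o2_conj o2_isPGroup
  le_o2 le_normalizer_o2)
open Cfsg.Agent.MinSimple.VModule (oddGen mem_oddGen oddGen_def oddGen_le le_normalizer_oddGen)
open Cfsg.Agent.MinSimple.Killing (ncl conj_mem_ncl self_mem_ncl ncl_mono ncl_le ncl_le_of_conj
  conj_mem_of_mem_ncl killing killing_local)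

universe u

variable {G : Type u} [Group G]

/-- congruence modulo `⟨p⟩` -/
def Cg (p x y : G) : Prop := x = y ∨ x = p * y

namespace Cg

variable {p x y z x' y' c : G}

theorem refl (p x : G) : Cg p x x := Or.inl rfl

theorem symm (hpp : p * p = 1) (h : Cg p x y) : Cg p y x := by
  rcases h with h | h
  · exact Or.inl h.symm
  · right; rw [h, ← mul_assoc, hpp, one_mul]

theorem trans (hpp : p * p = 1) (h : Cg p x y) (h' : Cg p y z) : Cg p x z := by
  rcases h with rfl | rfl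
  · exact h'
  rcases h' with rfl | rfl
  · right; rfl
  · left; rw [← mul_assoc, hpp, one_mul]

theorem mul (hpp : p * p = 1) (hc : p * y = y * p) (h : Cg p x y) (h' : Cg p x' y') :
    Cg p (x * x') (y * y') := by
  rcases h with rfl | rfl
  · rcases h' with rfl | rfl
    · left; rfl
    · right; rw [← mul_assoc, ← hc, mul_assoc]
  · rcases h' with rfl | rfl
    · right; rw [mul_assoc]
    · left; rw [hc, mul_assoc y, ← mul_assoc p p, hpp, one_mul]

theorem conj (hc : c * p = p * c) (h : Cg p x y) : Cg p (c * x * c⁻¹) (c * y * c⁻¹) := by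
  rcases h with rfl | rfl
  · left; rfl
  · right
    calc c * (p * y) * c⁻¹ = (c * p) * y * c⁻¹ := by group
      _ = p * (c * y * c⁻¹) := by rw [hc]; group

theorem of_conj (hc : c * p = p * c) (h : Cg p (c * x * c⁻¹) (c * y * c⁻¹)) : Cg p x y := by
  have hc' : c⁻¹ * p = p * c⁻¹ := (show Commute c p from hc).inv_left
  have := h.conj hc'
  have e : ∀ w : G, c⁻¹ * (c * w * c⁻¹) * c⁻¹⁻¹ = w := fun w => by group
  rwa [e, e] at this

end Cg

/-- `c` moves every class of `U / ⟨p⟩` -/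
def Mov (U : Subgroup G) (p c : G) : Prop := ∀ u ∈ U, ¬ Cg p u 1 → ¬ Cg p (c * u * c⁻¹) u

namespace NTri

variable {V : Subgroup G} {U C : G → Subgroup G}

variable (h : NTri V U C) {p q : G}

section Act

include h

theorem mem_Q_iff' (hp : Pt V p) {c : G} :
    c ∈ Q U C p ↔ c ∈ C p ∧ ∀ u ∈ U p, Cg p (c * u * c⁻¹) u := h.mem_Q_iff hp

theorem not_cg (hq : Pt V q) (hpq : p ≠ q) : ¬ Cg p q 1 := by
  rintro (e | e)
  · exact hq.2 e
  · exact hpq (by rw [e, mul_one])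

theorem exists_four (hp : Pt V p) {u : G} (hu : u ∈ U p) (hu1 : ¬ Cg p u 1) :
    ∃ A : Subgroup G, A ≤ U p ∧ A.relIndex (U p) = 2 ∧ ∀ x, x ∈ A ↔ Cg p x 1 ∨ Cg p x u := by
  classical
  have hpp := h.pp hp
  have huu := h.sqU p hp u hu
  have hc : u * p = p * u := h.commU hp hu (h.p_mem hp hp)
  have e1 : p * (p * u) = u := by rw [← mul_assoc, hpp, one_mul]
  have e2 : u * (p * u) = p := by rw [← mul_assoc, hc, mul_assoc, huu, mul_one]
  have e3 : p * u * p = u := by rw [mul_assoc, hc, e1]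
  have e4 : p * u * u = p := by rw [mul_assoc, huu, mul_one]
  have e5 : p * u * (p * u) = 1 := by rw [mul_assoc, e2, hpp]
  let A : Subgroup G :=
    { carrier := {x | x = 1 ∨ x = p ∨ x = u ∨ x = p * u}
      mul_mem' := by
        rintro a b (rfl | rfl | rfl | rfl) (rfl | rfl | rfl | rfl) <;>
          simp only [Set.mem_ofPred_eq, one_mul, mul_one, hpp, huu, hc, e1, e2, e3, e4, e5, true_or, or_true]
      one_mem' := Or.inl rfl
      inv_mem' := by
        rintro a (rfl | rfl | rfl | rfl)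
        · left; simp
        · right; left; exact inv_eq_self hpp
        · right; right; left; exact inv_eq_self huu
        · right; right; right; exact inv_eq_self e5 }
  have hA : ∀ x, x ∈ A ↔ x = 1 ∨ x = p ∨ x = u ∨ x = p * u := fun x => Iff.rfl
  have hA' : ∀ x, x ∈ A ↔ Cg p x 1 ∨ Cg p x u := by
    intro x
    rw [hA]
    unfold Cg
    rw [mul_one, or_assoc]
  have hle : A ≤ U p := by
    rintro x (rfl | rfl | rfl | rfl)
    · exact one_mem _
    · exact h.p_mem hp hp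
    · exact hu
    · exact mul_mem (h.p_mem hp hp) hu
  have hcard : Nat.card A = 4 := by
    have f1 : (1 : G) ∉ ({p, u, p * u} : Finset G) := by
      simp only [Finset.mem_insert, Finset.mem_singleton, not_or]
      refine ⟨fun e => hp.2 e.symm, fun e => hu1 (Or.inl e.symm), fun e => hu1 (Or.inr ?_)⟩
      rw [mul_one, ← e1, ← e, mul_one]
    have f2 : p ∉ ({u, p * u} : Finset G) := by
      simp only [Finset.mem_insert, Finset.mem_singleton, not_or]
      exact ⟨fun e => hu1 (Or.inr (by rw [mul_one, e])), fun e => hu1 (Or.inl (mul_eq_left.mp e.symm))⟩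
    have f3 : u ∉ ({p * u} : Finset G) := by
      simp only [Finset.mem_singleton]
      exact fun e => hp.2 (mul_eq_right.mp e.symm)
    have hc4 : ({1, p, u, p * u} : Finset G).card = 4 := by
      rw [Finset.card_insert_of_notMem f1, Finset.card_insert_of_notMem f2, Finset.card_insert_of_notMem f3,
        Finset.card_singleton]
    have heq : (A : Set G) = (({1, p, u, p * u} : Finset G) : Set G) := by
      ext x
      simp only [Finset.coe_insert, Finset.coe_singleton, Set.mem_insert_iff, Set.mem_singleton_iff]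
      exact hA x
    have : Nat.card A = (A : Set G).ncard := Nat.card_coe_set_eq (A : Set G)
    rw [this, heq, Set.ncard_coe_finset, hc4]
  refine ⟨A, hle, ?_, hA'⟩
  have h1 := card_mul_relIndex' hle
  rw [hcard, h.cardU p hp] at h1
  omega

theorem four (hp : Pt V p) {u w z : G} (hu : u ∈ U p) (hu1 : ¬ Cg p u 1) (hw : w ∈ U p) (hw1 : ¬ Cg p w 1)
    (hwu : ¬ Cg p w u) (hz : z ∈ U p) : Cg p z 1 ∨ Cg p z u ∨ Cg p z w ∨ Cg p z (u * w) := by
  obtain ⟨A, hA, hA2, hmem⟩ := h.exists_four hp hu hu1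
  have hwA : w ∉ A := by
    rw [hmem]; push Not; exact ⟨hw1, hwu⟩
  by_cases hzA : z ∈ A
  · rcases (hmem z).mp hzA with e | e
    · exact Or.inl e
    · exact Or.inr (Or.inl e)
  · have h1 := mul_mem_of_relIndex_two hA2 hz hw hzA hwA
    have hww := h.sqU p hp w hw
    have e : z = (z * w) * w := by rw [mul_assoc, hww, mul_one]
    have hpp := h.pp hp
    rcases (hmem _).mp h1 with f | f
    · right; right; left
      rw [e]
      have := f.mul hpp (by rw [mul_one, one_mul]) (Cg.refl p w)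
      rwa [one_mul] at this
    · right; right; right
      rw [e]
      exact f.mul hpp (h.commU hp (h.p_mem hp hp) hu) (Cg.refl p w)

theorem exists_indep (hp : Pt V p) {u : G} (hu : u ∈ U p) (hu1 : ¬ Cg p u 1) :
    ∃ w ∈ U p, ¬ Cg p w 1 ∧ ¬ Cg p w u := by
  obtain ⟨A, hA, hA2, hmem⟩ := h.exists_four hp hu hu1
  by_contra hcon
  push Not at hcon
  have h1 : U p ≤ A := by
    intro w hw
    rw [hmem]
    by_cases h2 : Cg p w 1
    · exact Or.inl h2
    · exact Or.inr (hcon w hw h2)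
  rw [relIndex_eq_one.mpr h1] at hA2
  omega

theorem mul_conj (hp : Pt V p) {c a b a' b' : G} (ha' : a' ∈ U p)
    (ha : Cg p (c * a * c⁻¹) a') (hb : Cg p (c * b * c⁻¹) b') :
    Cg p (c * (a * b) * c⁻¹) (a' * b') := by
  have e : c * (a * b) * c⁻¹ = (c * a * c⁻¹) * (c * b * c⁻¹) := by group
  rw [e]
  exact ha.mul (h.pp hp) (h.commU hp (h.p_mem hp hp) ha') hb

/-- an element fixing two classes lies in `Q p` -/
theorem mem_Q_of_fix (hp : Pt V p) {c u w : G} (hc : c ∈ C p) (hu : u ∈ U p) (hu1 : ¬ Cg p u 1) (hw : w ∈ U p)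
    (hw1 : ¬ Cg p w 1) (hwu : ¬ Cg p w u) (h1 : Cg p (c * u * c⁻¹) u) (h2 : Cg p (c * w * c⁻¹) w) :
    c ∈ Q U C p := by
  have hpp := h.pp hp
  have hcp := h.c_comm hp hc
  refine (h.mem_Q_iff' hp).mpr ⟨hc, fun z hz => ?_⟩
  have key : ∀ {y : G}, Cg p z y → Cg p (c * y * c⁻¹) y → Cg p (c * z * c⁻¹) z := fun e1 e2 =>
    ((e1.conj hcp).trans hpp e2).trans hpp (e1.symm hpp)
  rcases h.four hp hu hu1 hw hw1 hwu hz with e | e | e | e
  · exact key e (Or.inl (by group))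
  · exact key e h1
  · exact key e h2
  · exact key e (h.mul_conj hp hu h1 h2)

theorem mul_mem_Q_of_fix (hp : Pt V p) {c u : G} (hc : c ∈ C p) (hu : u ∈ U p) (hu1 : ¬ Cg p u 1)
    (h1 : Cg p (c * u * c⁻¹) u) : c * c ∈ Q U C p := by
  have hpp := h.pp hp
  have hcp := h.c_comm hp hc
  obtain ⟨w, hw, hw1, hwu⟩ := h.exists_indep hp hu hu1
  have hz := h.conj_memU hp hc hw
  have e : ∀ x : G, c * c * x * (c * c)⁻¹ = c * (c * x * c⁻¹) * c⁻¹ := fun x => by group
  rcases h.four hp hu hu1 hw hw1 hwu hz with e1 | e1 | e1 | e1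
  · exfalso
    apply hw1
    have : Cg p (c * w * c⁻¹) (c * 1 * c⁻¹) := by rw [mul_one, mul_inv_cancel]; exact e1
    exact this.of_conj hcp
  · exfalso
    apply hwu
    exact (e1.trans hpp (h1.symm hpp)).of_conj hcp
  · exact mul_mem (h.mem_Q_of_fix hp hc hu hu1 hw hw1 hwu h1 e1) (h.mem_Q_of_fix hp hc hu hu1 hw hw1 hwu h1 e1)
  · refine h.mem_Q_of_fix hp (mul_mem hc hc) hu hu1 hw hw1 hwu ?_ ?_
    · rw [e]; exact (h1.conj hcp).trans hpp h1
    · rw [e]
      have h2 := (e1.conj hcp).trans hpp (h.mul_conj hp hu h1 e1)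
      have e3 : u * (u * w) = w := by rw [← mul_assoc, h.sqU p hp u hu, one_mul]
      rwa [e3] at h2

end Act

theorem inf_mk {A B : Subgroup G} {x : G} (h1 : x ∈ A) (h2 : x ∈ B) : x ∈ A ⊓ B := ⟨h1, h2⟩

theorem mem_of_sq_odd {H : Subgroup G} {f : G} (ho : Odd (orderOf f)) (hf : f * f ∈ H) : f ∈ H := by
  obtain ⟨m, hm⟩ := ho
  have h1 : f ^ (2 * m + 1) = 1 := by rw [← hm]; exact pow_orderOf_eq_one f
  have h2 : f = (f * f) ^ (m + 1) := by
    calc f = f ^ (2 * m + 1) * f := by rw [h1, one_mul]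
      _ = f ^ (2 * (m + 1)) := by rw [← pow_succ]; congr 1
      _ = (f * f) ^ (m + 1) := by rw [pow_mul, pow_two]
  rw [h2]
  exact pow_mem hf _

section Act2

include h

theorem mov_of_odd (hp : Pt V p) {f : G} (hf : f ∈ C p) (ho : Odd (orderOf f)) (hfQ : f ∉ Q U C p) :
    Mov (U p) p f := fun _ hu hu1 h1 => hfQ (mem_of_sq_odd ho (h.mul_mem_Q_of_fix hp hf hu hu1 h1))

theorem conj_notCg (hp : Pt V p) {c u : G} (hc : c ∈ C p) (hu1 : ¬ Cg p u 1) : ¬ Cg p (c * u * c⁻¹) 1 := by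
  intro e
  apply hu1
  have : Cg p (c * u * c⁻¹) (c * 1 * c⁻¹) := by rw [mul_one, mul_inv_cancel]; exact e
  exact this.of_conj (h.c_comm hp hc)

theorem mul_notCg (hp : Pt V p) {u w : G} (hu : u ∈ U p) (hwu : ¬ Cg p w u) :
    ¬ Cg p (u * w) 1 := by
  intro e
  apply hwu
  have h1 := (Cg.refl p u).mul (h.pp hp) (h.commU hp (h.p_mem hp hp) hu) e
  rwa [← mul_assoc, h.sqU p hp u hu, one_mul, mul_one] at h1

/-- a moving element: `f² u = u · f u` modulo `p` -/
theorem mov_sq (hp : Pt V p) {f : G} (hf : f ∈ C p) (hm : Mov (U p) p f) {u : G} (hu : u ∈ U p)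
    (hu1 : ¬ Cg p u 1) : Cg p (f * (f * u * f⁻¹) * f⁻¹) (u * (f * u * f⁻¹)) := by
  have hpp := h.pp hp
  have hcp := h.c_comm hp hf
  have hw := h.conj_memU hp hf hu
  have hw1 := h.conj_notCg hp hf hu1
  have hwu := hm u hu hu1
  have hz := h.conj_memU hp hf hw
  rcases h.four hp hu hu1 hw hw1 hwu hz with e | e | e | e
  · exact absurd e (h.conj_notCg hp hf hw1)
  · exfalso
    refine hm _ (mul_mem hu hw) (h.mul_notCg hp hu hwu) ?_
    have h1 := h.mul_conj hp hw (Cg.refl p _) e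
    rwa [h.commU hp hw hu] at h1
  · exact absurd e (hm _ hw hw1)
  · exact e

/-- cubes -/
theorem mov_cube (hp : Pt V p) {f : G} (hf : f ∈ C p) (hm : Mov (U p) p f) : f ^ 3 ∈ Q U C p := by
  have hpp := h.pp hp
  have hcp := h.c_comm hp hf
  refine (h.mem_Q_iff' hp).mpr ⟨pow_mem hf 3, fun u hu => ?_⟩
  have e : f ^ 3 * u * (f ^ 3)⁻¹ = f * (f * (f * u * f⁻¹) * f⁻¹) * f⁻¹ := by
    rw [pow_succ, pow_two]; group
  rw [e]
  by_cases hu1 : Cg p u 1
  · have h1 := ((hu1.conj hcp).conj hcp).conj hcp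
    have e2 : f * (f * (f * 1 * f⁻¹) * f⁻¹) * f⁻¹ = 1 := by group
    rw [e2] at h1
    exact h1.trans hpp (hu1.symm hpp)
  · have hw := h.conj_memU hp hf hu
    have h1 := (h.mov_sq hp hf hm hu hu1).conj hcp
    have h2 := h.mul_conj hp hw (Cg.refl p _) (h.mov_sq hp hf hm hu hu1)
    have e3 : (f * u * f⁻¹) * (u * (f * u * f⁻¹)) = u := by
      rw [h.commU hp hw (mul_mem hu hw), mul_assoc, h.sqU p hp _ hw, mul_one]
    rw [e3] at h2
    exact h1.trans hpp h2

/-- two moving elements agree or are inverse modulo `Q p` -/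
theorem mov_pair (hp : Pt V p) {f g : G} (hf : f ∈ C p) (hm : Mov (U p) p f) (hg : g ∈ C p)
    (hm' : Mov (U p) p g) {u : G} (hu : u ∈ U p) (hu1 : ¬ Cg p u 1) :
    f⁻¹ * g ∈ Q U C p ∨ f * g ∈ Q U C p := by
  have hpp := h.pp hp
  have hcp := h.c_comm hp hf
  have hcg := h.c_comm hp hg
  have hcf : f⁻¹ * p = p * f⁻¹ := (show Commute f p from hcp).inv_left
  have hw := h.conj_memU hp hf hu
  have hw1 := h.conj_notCg hp hf hu1
  have hwu := hm u hu hu1
  have hgu := h.conj_memU hp hg hu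
  have s1 := h.mov_sq hp hf hm hu hu1
  have s2 := h.mov_sq hp hg hm' hu hu1
  have hpu : p * u = u * p := h.commU hp (h.p_mem hp hp) hu
  rcases h.four hp hu hu1 hw hw1 hwu hgu with e | e | e | e
  · exact absurd e (h.conj_notCg hp hg hu1)
  · exact absurd e (hm' u hu hu1)
  · left
    -- `g u = f u`, `g (f u) = g (g u) = u * g u = u * f u = f (f u)`
    have a1 : Cg p (f⁻¹ * g * u * (f⁻¹ * g)⁻¹) u := by
      have := e.conj hcf
      have e1 : f⁻¹ * (g * u * g⁻¹) * f⁻¹⁻¹ = f⁻¹ * g * u * (f⁻¹ * g)⁻¹ := by group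
      have e2 : f⁻¹ * (f * u * f⁻¹) * f⁻¹⁻¹ = u := by group
      rwa [e1, e2] at this
    have a2 : Cg p (g * (f * u * f⁻¹) * g⁻¹) (f * (f * u * f⁻¹) * f⁻¹) := by
      have b1 := (e.symm hpp).conj hcg
      have b2 := b1.trans hpp s2
      have b3 : Cg p (u * (g * u * g⁻¹)) (u * (f * u * f⁻¹)) := (Cg.refl p u).mul hpp hpu e
      exact (b2.trans hpp b3).trans hpp (s1.symm hpp)
    have a3 : Cg p (f⁻¹ * g * (f * u * f⁻¹) * (f⁻¹ * g)⁻¹) (f * u * f⁻¹) := by
      have := a2.conj hcf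
      have e1 : f⁻¹ * (g * (f * u * f⁻¹) * g⁻¹) * f⁻¹⁻¹ = f⁻¹ * g * (f * u * f⁻¹) * (f⁻¹ * g)⁻¹ := by group
      have e2 : f⁻¹ * (f * (f * u * f⁻¹) * f⁻¹) * f⁻¹⁻¹ = f * u * f⁻¹ := by group
      rwa [e1, e2] at this
    exact h.mem_Q_of_fix hp (mul_mem (inv_mem hf) hg) hu hu1 hw hw1 hwu a1 a3
  · right
    -- `g u = u * f u`
    have hfuw : Cg p (f * (u * (f * u * f⁻¹)) * f⁻¹) u := by
      have b1 := h.mul_conj hp hw (Cg.refl p (f * u * f⁻¹)) s1
      have e3 : (f * u * f⁻¹) * (u * (f * u * f⁻¹)) = u := by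
        rw [h.commU hp hw (mul_mem hu hw), mul_assoc, h.sqU p hp _ hw, mul_one]
      rwa [e3] at b1
    have a1 : Cg p (f * g * u * (f * g)⁻¹) u := by
      have := (e.conj hcp).trans hpp hfuw
      have e1 : f * (g * u * g⁻¹) * f⁻¹ = f * g * u * (f * g)⁻¹ := by group
      rwa [e1] at this
    -- `g (u * f u) = g (g u) = u * g u = f u`
    have a2 : Cg p (g * (u * (f * u * f⁻¹)) * g⁻¹) (f * u * f⁻¹) := by
      have b1 := (e.symm hpp).conj hcg
      have b2 := b1.trans hpp s2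
      have b3 : Cg p (u * (g * u * g⁻¹)) (u * (u * (f * u * f⁻¹))) := (Cg.refl p u).mul hpp hpu e
      have e3 : u * (u * (f * u * f⁻¹)) = f * u * f⁻¹ := by
        rw [← mul_assoc, h.sqU p hp u hu, one_mul]
      rw [e3] at b3
      exact b2.trans hpp b3
    -- `g (f u) = g u * g (u * f u) = (u * f u) * f u = u`
    have a3 : Cg p (g * (f * u * f⁻¹) * g⁻¹) u := by
      have b1 := h.mul_conj hp (mul_mem hu hw) e a2
      have e3 : u * (u * (f * u * f⁻¹)) = f * u * f⁻¹ := by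
        rw [← mul_assoc, h.sqU p hp u hu, one_mul]
      have e4 : u * (f * u * f⁻¹) * (f * u * f⁻¹) = u := by rw [mul_assoc, h.sqU p hp _ hw, mul_one]
      rwa [e3, e4] at b1
    have a4 : Cg p (f * g * (f * u * f⁻¹) * (f * g)⁻¹) (f * u * f⁻¹) := by
      have := a3.conj hcp
      have e1 : f * (g * (f * u * f⁻¹) * g⁻¹) * f⁻¹ = f * g * (f * u * f⁻¹) * (f * g)⁻¹ := by group
      rwa [e1] at this
    exact h.mem_Q_of_fix hp (mul_mem hf hg) hu hu1 hw hw1 hwu a1 a4

theorem Mov_conj (hp : Pt V p) {f c : G} (hc : c ∈ C p) (hm : Mov (U p) p f) :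
    Mov (U p) p (c * f * c⁻¹) := by
  intro u hu hu1 e
  have hcp := h.c_comm hp hc
  have hcp' : c⁻¹ * p = p * c⁻¹ := (show Commute c p from hcp).inv_left
  have hcC : c⁻¹ ∈ C p := inv_mem hc
  refine hm (c⁻¹ * u * c⁻¹⁻¹) (h.conj_memU hp hcC hu) (h.conj_notCg hp hcC hu1) ?_
  have h1 := e.conj hcp'
  have e1 : c⁻¹ * (c * f * c⁻¹ * u * (c * f * c⁻¹)⁻¹) * c⁻¹⁻¹ = f * (c⁻¹ * u * c⁻¹⁻¹) * f⁻¹ := by group
  rwa [e1] at h1

theorem cg_of_mem_V (hp : Pt V p) (hq : Pt V q) (hpq : p ≠ q) {v : G} (hv : v ∈ V) : Cg p v 1 ∨ Cg p v q := by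
  rcases h.mem_V hp hq hpq hv with e | e | e | e
  · left; left; exact e
  · left; right; rw [e, mul_one]
  · right; left; exact e
  · right; right; exact e

/-- a moving element moves `V ∖ ⟨p⟩` out of `V` -/
theorem conj_notMem_V (hp : Pt V p) (hq : Pt V q) (hpq : p ≠ q) {f v : G} (hf : f ∈ C p)
    (hm : Mov (U p) p f) (hv : v ∈ V) (hv1 : ¬ Cg p v 1) : f * v * f⁻¹ ∉ V := by
  intro e
  have hpp := h.pp hp
  have h1 := (h.cg_of_mem_V hp hq hpq hv).resolve_left hv1
  rcases h.cg_of_mem_V hp hq hpq e with h2 | h2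
  · exact h.conj_notCg hp hf hv1 h2
  · exact hm v (h.V_le p hp hv) hv1 (h2.trans hpp (h1.symm hpp))

/-- `t ∈ U_q ∖ V` inverts the moving elements modulo `Q_p` -/
theorem inv_pair (hp : Pt V p) (hq : Pt V q) (hpq : p ≠ q) {f t : G} (hf : f ∈ C p)
    (hm : Mov (U p) p f) (ht : t ∈ U q) (htV : t ∉ V) : t * f * t⁻¹ * f ∈ Q U C p := by
  have hpp := h.pp hp
  have htC := h.U_le_C hp hq ht
  have htQ := h.notMem_Q hp hq hpq ht htV
  have hqU := h.p_mem hq hp
  have hq1 := h.not_cg hq hpq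
  rcases h.mov_pair hp (mul_mem (mul_mem htC hf) (inv_mem htC)) (h.Mov_conj hp htC hm) hf hm hqU hq1 with e | e
  · exfalso
    have hfC : f⁻¹ ∈ C p := inv_mem hf
    have htC' : t⁻¹ ∈ C p := inv_mem htC
    set c := (t * f * t⁻¹)⁻¹ * f with hc
    have hw := h.conj_memU hp hfC hqU
    have hw1 := h.conj_notCg hp hfC hq1
    have hwq : ¬ Cg p (f⁻¹ * q * f⁻¹⁻¹) q := by
      intro e1
      refine hm q hqU hq1 ?_
      have h1 := (e1.conj (h.c_comm hp hf)).symm hpp
      have e2 : f * (f⁻¹ * q * f⁻¹⁻¹) * f⁻¹ = q := by group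
      rwa [e2] at h1
    have htq : t⁻¹ * q * t⁻¹⁻¹ = q := by
      rw [h.commU hq (inv_mem ht) (h.p_mem hq hq), mul_inv_cancel_right]
    -- `t⁻¹ c` fixes `w`
    have h1 : Cg p (t⁻¹ * (f⁻¹ * q * f⁻¹⁻¹) * t⁻¹⁻¹) (f⁻¹ * q * f⁻¹⁻¹) := by
      have h2 := (((h.mem_Q_iff' hp).mp e).2 _ hw).conj (h.c_comm hp htC')
      have e3 : t⁻¹ * (c * (f⁻¹ * q * f⁻¹⁻¹) * c⁻¹) * t⁻¹⁻¹ = f⁻¹ * (t⁻¹ * q * t⁻¹⁻¹) * f⁻¹⁻¹ := by
        rw [hc]; group
      rw [e3, htq] at h2
      exact h2.symm hpp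
    have h2 := h.mem_Q_of_fix hp htC' hqU hq1 hw hw1 hwq (Or.inl htq) h1
    exact htQ (by simpa using inv_mem h2)
  · exact e

/-- every element of `C p` is, modulo powers of a moving element, in `N_G(V)` -/
theorem exists_pow (hp : Pt V p) (hq : Pt V q) (hpq : p ≠ q) {f : G} (hf : f ∈ C p)
    (hm : Mov (U p) p f) {c : G} (hc : c ∈ C p) : ∃ i : ℕ, i < 3 ∧ Cg p (f ^ i * c * q * (f ^ i * c)⁻¹) q := by
  have hpp := h.pp hp
  have hcp := h.c_comm hp hf
  have hqU := h.p_mem hq hp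
  have hq1 := h.not_cg hq hpq
  have hw := h.conj_memU hp hf hqU
  have hw1 := h.conj_notCg hp hf hq1
  have hwq := hm q hqU hq1
  have hf3 := ((h.mem_Q_iff' hp).mp (h.mov_cube hp hf hm)).2 q hqU
  have e3 : f ^ 3 * q * (f ^ 3)⁻¹ = f * (f * (f * q * f⁻¹) * f⁻¹) * f⁻¹ := by
    rw [pow_succ, pow_two]; group
  rw [e3] at hf3
  rcases h.four hp hqU hq1 hw hw1 hwq (h.conj_memU hp hc hqU) with e | e | e | e
  · exact absurd e (h.conj_notCg hp hc hq1)
  · refine ⟨0, by norm_num, ?_⟩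
    rw [pow_zero, one_mul]; exact e
  · refine ⟨2, by norm_num, ?_⟩
    have h1 := ((e.conj hcp).conj hcp).trans hpp hf3
    have e4 : f * (f * (c * q * c⁻¹) * f⁻¹) * f⁻¹ = f ^ 2 * c * q * (f ^ 2 * c)⁻¹ := by
      rw [pow_two]; group
    rwa [e4] at h1
  · refine ⟨1, by norm_num, ?_⟩
    have h1 := ((e.trans hpp ((h.mov_sq hp hf hm hqU hq1).symm hpp)).conj hcp).trans hpp hf3
    have e4 : f * (c * q * c⁻¹) * f⁻¹ = f ^ 1 * c * q * (f ^ 1 * c)⁻¹ := by
      rw [pow_one]; group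
    rwa [e4] at h1

/-- fixing the class of `q` means normalising `V` -/
theorem mem_normalizer_V (hp : Pt V p) (hq : Pt V q) (hpq : p ≠ q) {c : G} (hc : c ∈ C p)
    (e : Cg p (c * q * c⁻¹) q) : c ∈ normalizer (V : Set G) := by
  have hpp := h.pp hp
  have key : ∀ d : G, d ∈ C p → Cg p (d * q * d⁻¹) q → ∀ v ∈ V, d * v * d⁻¹ ∈ V := by
    intro d hd e v hv
    have hdp := h.c_comm hp hd
    have h1 : ∀ x y : G, Cg p x y → y ∈ V → x ∈ V := by
      rintro x y (rfl | rfl) hy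
      · exact hy
      · exact mul_mem hp.1 hy
    rcases h.cg_of_mem_V hp hq hpq hv with h2 | h2
    · refine h1 _ _ (h2.conj hdp) ?_
      rw [mul_one, mul_inv_cancel]; exact one_mem V
    · exact h1 _ _ ((h2.conj hdp).trans hpp e) hq.1
  refine mem_normalizer_of (key c hc e) (fun v hv => ?_)
  have hc' : c⁻¹ ∈ C p := inv_mem hc
  have h2 : Cg p (c⁻¹ * q * c⁻¹⁻¹) q := by
    have h3 := (e.conj (h.c_comm hp hc')).symm hpp
    have e4 : c⁻¹ * (c * q * c⁻¹) * c⁻¹⁻¹ = q := by group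
    rwa [e4] at h3
  have := key c⁻¹ hc' h2 v hv
  rwa [inv_inv] at this

theorem Q_le_normV (hp : Pt V p) (hq : Pt V q) (hpq : p ≠ q) : Q U C p ≤ normalizer (V : Set G) :=
  fun _ hc => h.mem_normalizer_V hp hq hpq ((h.mem_Q_iff' hp).mp hc).1
    (((h.mem_Q_iff' hp).mp hc).2 q (h.p_mem hq hp))

/-- another point of `V` -/
theorem exists_other (hp : Pt V p) : ∃ q, Pt V q ∧ p ≠ q := by
  by_contra hcon
  push Not at hcon
  have h1 : V ≤ zpowers p := by
    intro v hv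
    by_cases hv1 : v = 1
    · rw [hv1]; exact one_mem _
    · rw [← hcon v ⟨hv, hv1⟩]; exact mem_zpowers p
  have hfin : Finite (zpowers p) := (finite_zpowers (a := p)).mpr
    (isOfFinOrder_iff_pow_eq_one.mpr ⟨2, by norm_num, by rw [pow_two]; exact h.pp hp⟩)
  have h2 := Subgroup.card_le_of_le h1
  rw [h.cardV] at h2
  have h3 : Nat.card (zpowers p) ≤ 2 := by
    rw [Nat.card_zpowers]
    exact orderOf_le_of_pow_eq_one (by norm_num) (by rw [pow_two]; exact h.pp hp)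
  omega

/-- squares of elements of `Q p` -/
theorem sq_mem_K (hp : Pt V p) {g : G} (hg : g ∈ Q U C p) : g * g ∈ K U p := by
  refine mem_centralizer_iff.mpr fun u hu => ?_
  have h2 := ((h.mem_Q_iff hp).mp hg).2
  have hc := h.c_comm hp hg.1
  have h3 : g * g * u * (g * g)⁻¹ = u := by
    have e : g * g * u * (g * g)⁻¹ = g * (g * u * g⁻¹) * g⁻¹ := by group
    rw [e]
    rcases h2 u hu with h4 | h4
    · rw [h4, h4]
    · rw [h4]
      calc g * (p * u) * g⁻¹ = (g * p) * g⁻¹ * (g * u * g⁻¹) := by group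
        _ = p * (p * u) := by rw [hc, mul_inv_cancel_right, h4]
        _ = u := by rw [← mul_assoc, h.pp hp, one_mul]
  rw [mul_inv_eq_iff_eq_mul] at h3
  exact h3.symm

/-- squares of elements of `C_G(V)` -/
theorem sq_mem_K' (hp : Pt V p) {g : G} (hg : g ∈ centralizer (V : Set G)) : g * g ∈ K U p := by
  refine mem_centralizer_iff.mpr fun u hu => ?_
  have h1 := h.D_act hp hg hu
  have h2 := mem_centralizer_iff.mp hg _ h1
  set v := g * u * g⁻¹ * u⁻¹ with hv
  have h3 : g * u * g⁻¹ = v * u := by rw [hv]; group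
  have h4 : g * g * u * (g * g)⁻¹ = u := by
    calc g * g * u * (g * g)⁻¹ = g * (g * u * g⁻¹) * g⁻¹ := by group
      _ = g * (v * u) * g⁻¹ := by rw [h3]
      _ = (g * v) * g⁻¹ * (g * u * g⁻¹) := by group
      _ = (v * g) * g⁻¹ * (v * u) := by rw [← h2, h3]
      _ = (v * v) * u := by group
      _ = u := by rw [h.sqV v h1, one_mul]
  rw [mul_inv_eq_iff_eq_mul] at h4
  exact h4.symm

theorem oddGen_eq (hp : Pt V p) : oddGen (centralizer (V : Set G)) = oddGen (K U p) := by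
  apply le_antisymm
  · rw [oddGen_def, closure_le]
    rintro g ⟨hg, ho⟩
    exact mem_oddGen (mem_of_sq_odd ho (h.sq_mem_K' hp hg)) ho
  · exact Cfsg.Agent.MinSimple.VModule.oddGen_mono (h.K_le_centV hp)

theorem C_le_normO (hp : Pt V p) :
    C p ≤ normalizer (oddGen (centralizer (V : Set G)) : Set G) := by
  rw [h.oddGen_eq hp]
  exact (h.C_le_normK hp).trans (Cfsg.Agent.MinSimple.VModule.normalizer_le_normalizer_oddGen _)

theorem exists_odd (hp : Pt V p) : ∃ f ∈ C p, Odd (orderOf f) ∧ Mov (U p) p f := by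
  obtain ⟨f, hf, ⟨n, hn⟩, hfQ⟩ := h.three p hp
  have ho : Odd (orderOf f) := Odd.of_dvd_nat (Odd.pow (by decide)) (orderOf_dvd_of_pow_eq_one hn)
  exact ⟨f, hf, ho, h.mov_of_odd hp hf ho hfQ⟩

end Act2

section Fin

variable [Finite G]

include h

theorem oddGen_centV (hp : Pt V p) : oddGen (centralizer (V : Set G)) = ⊥ := by
  set O := oddGen (centralizer (V : Set G)) with hO
  have hOC : O ≤ C p := (oddGen_le _).trans (h.centV_le hp)
  have hcj : ∀ c ∈ normalizer (O : Set G), c ∈ normalizer (o2 O : Set G) := by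
    intro c hc
    rw [mem_normalizer_iff_cj, cj_o2, mem_normalizer_iff_cj.mp hc]
  have hNV : normalizer (V : Set G) ≤ normalizer (centralizer (V : Set G) : Set G) := by
    intro n hn
    rw [mem_normalizer_iff]
    intro c
    have key : ∀ n ∈ normalizer (V : Set G), ∀ c ∈ centralizer (V : Set G), n * c * n⁻¹ ∈ centralizer (V : Set G) := by
      intro n hn c hc
      refine mem_centralizer_iff.mpr fun v hv => ?_
      have h1 : n⁻¹ * v * n ∈ V := by
        have := (mem_normalizer_iff.mp (inv_mem hn) v).mp hv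
        rwa [inv_inv] at this
      have h2 := mem_centralizer_iff.mp hc _ h1
      calc v * (n * c * n⁻¹) = n * ((n⁻¹ * v * n) * c) * n⁻¹ := by group
        _ = n * (c * (n⁻¹ * v * n)) * n⁻¹ := by rw [h2]
        _ = n * c * n⁻¹ * v := by group
    constructor
    · exact key n hn c
    · intro hc
      have := key n⁻¹ (inv_mem hn) _ hc
      have e : n⁻¹ * (n * c * n⁻¹) * n⁻¹⁻¹ = c := by group
      rwa [e] at this
  have h1 : o2 O = ⊥ := h.core p hp (o2 O) (o2_isPGroup O)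
    (fun c hc => hcj _ (Cfsg.Agent.MinSimple.VModule.normalizer_le_normalizer_oddGen _ (hNV hc)))
    (fun c hc => hcj _ (h.C_le_normO hp hc))
  have h2 : O ≤ centralizer (o2 (C p) : Set G) := by
    intro o ho
    refine mem_centralizer_iff.mpr fun w hw => ?_
    have h3 : O ⊓ o2 (C p) ≤ o2 O := by
      refine Block.le_o2 ((o2_isPGroup (C p)).to_le inf_le_right) inf_le_left
        (le_normalizer_of_forall fun l hl m hm => inf_mk (mul_mem (mul_mem hl hm.1) (inv_mem hl))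
          (o2_conj (hOC hl) hm.2))
    have h4 : o * w * o⁻¹ * w⁻¹ ∈ O ⊓ o2 (C p) := by
      refine inf_mk ?_ (mul_mem (o2_conj (hOC ho) hw) (inv_mem hw))
      have e : o * w * o⁻¹ * w⁻¹ = o * (w * o⁻¹ * w⁻¹) := by group
      rw [e]
      exact mul_mem ho (conj_mem_of_normalizer (h.C_le_normO hp) (Block.o2_le _ hw) (inv_mem ho))
    have h5 := h3 h4
    rw [h1, mem_bot, mul_inv_eq_one, mul_inv_eq_iff_eq_mul] at h5
    exact h5.symm
  have h3 : O ≤ o2 (C p) := fun o ho => h.char2 p hp ⟨hOC ho, h2 ho⟩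
  have h4 : IsPGroup 2 O := (o2_isPGroup (C p)).to_le h3
  rw [hO, oddGen_def, closure_eq_bot_iff]
  rintro x ⟨hx, ho⟩
  have hxO : x ∈ O := mem_oddGen hx ho
  obtain ⟨k, hk⟩ := h4 ⟨x, hxO⟩
  have hk' : x ^ 2 ^ k = 1 := congrArg Subtype.val hk
  have h5 := orderOf_dvd_of_pow_eq_one hk'
  have h6 : orderOf x = 1 := Nat.Coprime.eq_one_of_dvd
    (Nat.Coprime.pow_right k (Nat.coprime_two_right.mpr ho)) h5
  exact orderOf_eq_one_iff.mp h6

/-- (A7) -/
theorem isPGroup_centV' (hp : Pt V p) : IsPGroup 2 ↥(centralizer (V : Set G)) := by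
  rintro ⟨g, hg⟩
  obtain ⟨a, m, hm, ham⟩ := Nat.exists_eq_two_pow_mul_odd (n := orderOf g) (orderOf_pos g).ne'
  refine ⟨a, Subtype.ext ?_⟩
  change g ^ 2 ^ a = 1
  have h1 : orderOf (g ^ 2 ^ a) = m := by
    rw [orderOf_pow' g (by positivity), ham, Nat.gcd_eq_right (Dvd.intro m rfl),
      Nat.mul_div_cancel_left m (by positivity)]
  have h2 : g ^ 2 ^ a ∈ oddGen (centralizer (V : Set G)) :=
    mem_oddGen (pow_mem hg _) (by rw [h1]; exact hm)
  rw [h.oddGen_centV hp] at h2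
  exact mem_bot.mp h2

theorem isPGroup_K (hp : Pt V p) : IsPGroup 2 ↥(K U p) :=
  (h.isPGroup_centV' hp).to_le (h.K_le_centV hp)

theorem isPGroup_Q (hp : Pt V p) : IsPGroup 2 ↥(Q U C p) := by
  rintro ⟨g, hg⟩
  obtain ⟨k, hk⟩ := h.isPGroup_K hp ⟨g * g, h.sq_mem_K hp hg⟩
  refine ⟨k + 1, Subtype.ext ?_⟩
  have hk' : (g * g) ^ 2 ^ k = 1 := congrArg Subtype.val hk
  change g ^ 2 ^ (k + 1) = 1
  rw [pow_succ', pow_mul, pow_two, hk']

end Fin

end NTri

end Cfsg.Agent.OddCyclic.EO.NTri
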