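import Mathlib
import Cfsg.Agent.OddCyclic.EO.NW

/-!
# The natural block: the element of order 3 of `N_G(V)`, `C_G(W) = V`, `C_G(V) = W C(g)`

Blueprint `P21-NatBlock-helper789.md`; here the field `soc` of `NTri` is used.
-/

set_option autoImplicit false
set_option linter.unusedSectionVars false

namespace Cfsg.Agent.OddCyclic.EO.NTri

open Subgroup Cfsg Cfsg.Agent.ZN Cfsg.Agent.MinSimple.Geo
open scoped Pointwise
open Cfsg.Agent.Classification.TitsFin.Tri (Pt kst cj_kst K Q)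
open Cfsg.Agent.ZN.Block (conj_mem_of_normalizer conj_mem_of_normalizer' le_normalizer_of_forall
  mem_normalizer_of card_sup_mul_card_inf card_mul_relIndex' mul_mem_of_relIndex_two o2_le o2_conj o2_isPGroup
  le_o2 le_normalizer_o2)

universe u

variable {G : Type u} [Group G]

/-- a frame: `g` of order 3 with `p → q → r → p` and `[C_G(V), g] ≤ W`, `a ∈ U_p ∖ V` -/
structure Fr (V : Subgroup G) (U C : G → Subgroup G) (p q r g a : G) : Prop extends NTri V U C where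
  t : Tr V p q r
  gN : g ∈ normalizer (V : Set G)
  g3 : g ^ 3 = 1
  gp : g * p * g⁻¹ = q
  gq : g * q * g⁻¹ = r
  gW : ∀ d ∈ centralizer (V : Set G), d * g * d⁻¹ * g⁻¹ ∈ WW V U
  ha : a ∈ U p
  haV : a ∉ V

theorem eq_one_of_odd {g : G} (ho : Odd (orderOf g)) {n : ℕ} (hn : g ^ 2 ^ n = 1) : g = 1 := by
  have h5 := orderOf_dvd_of_pow_eq_one hn
  have h6 : orderOf g = 1 := Nat.Coprime.eq_one_of_dvd
    (Nat.Coprime.pow_right n (Nat.coprime_two_right.mpr ho)) h5
  exact orderOf_eq_one_iff.mp h6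

namespace NTri

variable {V : Subgroup G} {U C : G → Subgroup G}

variable (h : NTri V U C) {p q r : G}

include h

theorem exists_frame [Finite G] (t : Tr V p q r) {a : G} (ha : a ∈ U p) (haV : a ∉ V) :
    ∃ g, Fr V U C p q r g a := by
  obtain ⟨x, hx, -, hxp, hxq, hxr, -⟩ := h.exists_h t
  obtain ⟨y, hy, -, hyq, hyp, hyr, -⟩ := h.exists_h (h.swp t)
  -- `y` fixes `q`, swaps `p`, `r`
  set g0 := x * y with hg0
  have hg0N : g0 ∈ NW V (WW V U) h.norm_W := mul_mem hx hy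
  have e1 : g0 * p * g0⁻¹ = q := by
    have : g0 * p * g0⁻¹ = x * (y * p * y⁻¹) * x⁻¹ := by rw [hg0]; group
    rw [this, hyp, hxr]
  have e2 : g0 * q * g0⁻¹ = r := by
    have : g0 * q * g0⁻¹ = x * (y * q * y⁻¹) * x⁻¹ := by rw [hg0]; group
    rw [this, hyq, hxq]
  have e3 : g0 * r * g0⁻¹ = p := by
    have : g0 * r * g0⁻¹ = x * (y * r * y⁻¹) * x⁻¹ := by rw [hg0]; group
    rw [this, hyr, hxp]
  have hc : g0 ^ 3 ∈ centralizer (V : Set G) := by
    have key : ∀ v : G, g0 ^ 3 * v * (g0 ^ 3)⁻¹ = g0 * (g0 * (g0 * v * g0⁻¹) * g0⁻¹) * g0⁻¹ := by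
      intro v; rw [pow_succ, pow_two]; group
    refine mem_centralizer_iff.mpr fun v hv => ?_
    have h1 : g0 ^ 3 * v * (g0 ^ 3)⁻¹ = v := by
      rcases h.mem_V' t hv with rfl | rfl | rfl | rfl
      · rw [mul_one, mul_inv_cancel]
      · rw [key, e1, e2, e3]
      · rw [key, e2, e3, e1]
      · rw [key, e3, e1, e2]
    exact (mul_inv_eq_iff_eq_mul.mp h1).symm
  obtain ⟨α, m, hm, ham⟩ := Nat.exists_eq_two_pow_mul_odd (n := orderOf g0) (orderOf_pos g0).ne'
  -- `4 ^ α = 3 k + 1`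
  obtain ⟨k, hk⟩ : ∃ k, 4 ^ α = 3 * k + 1 := by
    have h1 : 4 ^ α % 3 = 1 := by
      rw [Nat.pow_mod]; norm_num
    exact ⟨4 ^ α / 3, by omega⟩
  set g := g0 ^ 4 ^ α with hg
  have hgd : g = g0 * (g0 ^ 3) ^ k := by
    rw [hg, hk, pow_succ', pow_mul]
  have hgN : g ∈ NW V (WW V U) h.norm_W := pow_mem hg0N _
  have hd : (g0 ^ 3) ^ k ∈ centralizer (V : Set G) := pow_mem hc k
  have act : ∀ v ∈ V, g * v * g⁻¹ = g0 * v * g0⁻¹ := by
    intro v hv
    have h1 := h.fix_of_centV hd hv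
    calc g * v * g⁻¹ = g0 * ((g0 ^ 3) ^ k * v * ((g0 ^ 3) ^ k)⁻¹) * g0⁻¹ := by rw [hgd]; group
      _ = g0 * v * g0⁻¹ := by rw [h1]
  have ho : Odd (orderOf g) := by
    have h1 : orderOf g ∣ m := by
      apply orderOf_dvd_of_pow_eq_one
      have h4 : (4 : ℕ) ^ α = 2 ^ α * 2 ^ α := by rw [← mul_pow]; norm_num
      rw [hg, ← pow_mul, h4]
      have : 2 ^ α * 2 ^ α * m = orderOf g0 * 2 ^ α := by rw [ham]; ring
      rw [this, pow_mul, pow_orderOf_eq_one, one_pow]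
    exact Odd.of_dvd_nat hm h1
  have hg3c : g ^ 3 ∈ centralizer (V : Set G) := by
    have : g ^ 3 = (g0 ^ 3) ^ 4 ^ α := by rw [hg, ← pow_mul, ← pow_mul, mul_comm]
    rw [this]; exact pow_mem hc _
  obtain ⟨n, hn⟩ := h.isPGroup_centV' t.hp ⟨g ^ 3, hg3c⟩
  have hn' : (g ^ 3) ^ 2 ^ n = 1 := congrArg Subtype.val hn
  have hg3 : g ^ 3 = 1 := by
    refine eq_one_of_odd ?_ hn'
    exact Odd.of_dvd_nat ho (orderOf_dvd_of_pow_eq_one (by rw [← pow_mul, mul_comm, pow_mul, pow_orderOf_eq_one, one_pow]))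
  exact ⟨g, { toNTri := h, t := t, gN := hgN.1, g3 := hg3, gp := by rw [act p t.hp.1, e1]
              gq := by rw [act q t.hq.1, e2], gW := hgN.2, ha := ha, haV := haV }⟩

end NTri

namespace Fr

variable {V : Subgroup G} {U C : G → Subgroup G} {p q r g a : G} (h : Fr V U C p q r g a)

include h

theorem gr : g * r * g⁻¹ = p := by
  have e : g * r * g⁻¹ = (g * p * g⁻¹) * (g * q * g⁻¹) := by rw [← h.t.eq]; group
  rw [e, h.gp, h.gq, (h.rot h.t).eq]

theorem g_inv : g⁻¹ = g * g := by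
  have h1 : g * (g * g) = 1 := by rw [← pow_two, ← pow_succ', h.g3]
  exact inv_eq_of_mul_eq_one_right h1

theorem ggg : g * g * g = 1 := by rw [← pow_two, ← pow_succ, h.g3]

theorem hb : g * a * g⁻¹ ∈ U q := by
  have h1 := h.conj_U h.gN h.t.hp h.ha
  rwa [h.gp] at h1

theorem hbV : g * a * g⁻¹ ∉ V := h.conj_notV h.gN h.haV

theorem hc : g * (g * a * g⁻¹) * g⁻¹ ∈ U r := by
  have h1 := h.conj_U h.gN h.t.hq h.hb
  rwa [h.gq] at h1

theorem hcV : g * (g * a * g⁻¹) * g⁻¹ ∉ V := h.conj_notV h.gN h.hbV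

theorem g3a (x : G) : g * (g * (g * x * g⁻¹) * g⁻¹) * g⁻¹ = x := by
  have h1 := h.ggg
  have e : g * (g * (g * x * g⁻¹) * g⁻¹) * g⁻¹ = (g * g * g) * x * (g * g * g)⁻¹ := by group
  rw [e, h1, one_mul, inv_one, mul_one]

/-- no nontrivial element of `V` commutes with `g` -/
theorem V_fix {v : G} (hv : v ∈ V) (hc : g * v * g⁻¹ = v) : v = 1 := by
  rcases h.mem_V' h.t hv with e | e | e | e
  · exact e
  · rw [e, h.gp] at hc; exact absurd hc h.t.npq.symm
  · rw [e, h.gq] at hc; exact absurd hc h.t.nqr.symm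
  · rw [e, h.gr] at hc; exact absurd hc h.t.npr

theorem ga_W {x : G} (hx : x ∈ WW V U) : g * x * g⁻¹ ∈ WW V U := conj_mem_of_normalizer h.norm_W h.gN hx

theorem g_ne : g ≠ 1 := by
  intro e
  have h1 := h.gp
  rw [e, one_mul, inv_one, mul_one] at h1
  exact h.t.npq h1

theorem mem_zpowers_g {y : G} (hy : y ∈ zpowers g) : y = 1 ∨ y = g ∨ y = g * g := by
  obtain ⟨k, rfl⟩ := mem_zpowers_iff.mp hy
  have h1 : g ^ k = g ^ (k % 3) := by
    conv_lhs => rw [← Int.mul_ediv_add_emod k 3, zpow_add, zpow_mul]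
    have : g ^ (3 : ℤ) = 1 := by exact_mod_cast h.g3
    rw [this, one_zpow, one_mul]
  have h2 : 0 ≤ k % 3 := Int.emod_nonneg _ (by norm_num)
  have h3 : k % 3 < 3 := Int.emod_lt_of_pos _ (by norm_num)
  rw [h1]
  interval_cases (k % 3)
  · left; exact zpow_zero g
  · right; left; exact zpow_one g
  · right; right; exact zpow_two g

theorem orderOf_g : orderOf g = 3 := orderOf_eq_prime h.g3 h.g_ne

theorem centV_norm : normalizer (V : Set G) ≤ normalizer (centralizer (V : Set G) : Set G) := by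
  refine le_normalizer_of_forall fun n hn d hd => mem_centralizer_iff.mpr fun v hv => ?_
  have h1 : n⁻¹ * v * n ∈ V := conj_mem_of_normalizer' (le_refl _) hn hv
  have h2 := h.vcomm h1 hd
  calc v * (n * d * n⁻¹) = n * ((n⁻¹ * v * n) * d) * n⁻¹ := by group
    _ = n * (d * (n⁻¹ * v * n)) * n⁻¹ := by rw [h2]
    _ = n * d * n⁻¹ * v := by group

/-- elements of `N_G(V)` fixing `p` and `q` -/
theorem mem_centV_of_fix {n : G} (hn : n ∈ normalizer (V : Set G)) (h1 : n * p * n⁻¹ = p)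
    (h2 : n * q * n⁻¹ = q) : n ∈ centralizer (V : Set G) := by
  rcases h.fix_or_swap h.t hn h1 with h3 | h3
  · exact h3.1
  · exfalso
    rw [h2] at h3
    exact h.t.nqr h3.1

section Fin

variable [Finite G]

/-- an element of `N_G(V) ∩ C_G(p)` inverting `g` -/
theorem exists_s0 : ∃ s ∈ normalizer (V : Set G), s * p * s⁻¹ = p ∧ s * q * s⁻¹ = r ∧ s * r * s⁻¹ = q ∧
    s * g * s⁻¹ = g⁻¹ := by
  obtain ⟨x, hx, -, hxp, hxq, hxr, -⟩ := h.exists_h h.t
  have hxN := hx.1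
  have hA : zpowers g ≤ normalizer (centralizer (V : Set G) : Set G) := by
    rw [zpowers_le]; exact h.centV_norm h.gN
  obtain ⟨n, hn⟩ := (IsPGroup.iff_card (p := 2)).mp (h.isPGroup_centV' h.t.hp)
  have hcop : (Nat.card (zpowers g)).Coprime (Nat.card (centralizer (V : Set G))) := by
    rw [Nat.card_zpowers, h.orderOf_g, hn]
    exact Nat.Coprime.pow_right n (by norm_num)
  have hxp' : x⁻¹ * p * x = p := by
    calc x⁻¹ * p * x = x⁻¹ * (x * p * x⁻¹) * x := by rw [hxp]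
      _ = p := by group
  have hxq' : x⁻¹ * q * x = r := by
    calc x⁻¹ * q * x = x⁻¹ * (x * r * x⁻¹) * x := by rw [hxr]
      _ = r := by group
  have hmem : x * g * x⁻¹ * g ∈ centralizer (V : Set G) := by
    refine h.mem_centV_of_fix (mul_mem (mul_mem (mul_mem hxN h.gN) (inv_mem hxN)) h.gN) ?_ ?_
    · have e : x * g * x⁻¹ * g * p * (x * g * x⁻¹ * g)⁻¹ = x * (g * (x⁻¹ * (g * p * g⁻¹) * x) * g⁻¹) * x⁻¹ := by
        group
      rw [e, h.gp, hxq', h.gr, hxp]
    · have e : x * g * x⁻¹ * g * q * (x * g * x⁻¹ * g)⁻¹ = x * (g * (x⁻¹ * (g * q * g⁻¹) * x) * g⁻¹) * x⁻¹ := by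
        group
      have hxr' : x⁻¹ * r * x = q := by
        calc x⁻¹ * r * x = x⁻¹ * (x * q * x⁻¹) * x := by rw [hxq]
          _ = q := by group
      rw [e, h.gq, hxr', h.gq, hxr]
  have hB : zpowers (x * g * x⁻¹) ≤ zpowers g ⊔ centralizer (V : Set G) := by
    rw [zpowers_le]
    have e : x * g * x⁻¹ = (x * g * x⁻¹ * g) * g⁻¹ := by group
    rw [e]
    exact mul_mem ((le_sup_right : _ ≤ zpowers g ⊔ centralizer (V : Set G)) hmem)
      ((le_sup_left : _ ≤ zpowers g ⊔ centralizer (V : Set G)) (inv_mem (mem_zpowers g)))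
  have hcard : Nat.card (zpowers (x * g * x⁻¹)) = Nat.card (zpowers g) := by
    rw [Nat.card_zpowers, Nat.card_zpowers]; exact (MulAut.conj x).orderOf_eq g
  have hsol : Group.IsSolvable (zpowers g) := Group.isSolvable_of_comm fun a b => IsMulCommutative.is_comm.comm a b
  obtain ⟨d, hd, hdc⟩ := Cfsg.Agent.Solvable.Glauberman.exists_conj_of_le_sup (zpowers g)
    (centralizer (V : Set G)) hA hcop (Or.inl hsol) _ hB hcard
  have h1 : x * g * x⁻¹ ∈ MulAut.conj d • zpowers g := by rw [hdc]; exact mem_zpowers _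
  obtain ⟨y, hy, hyx⟩ := (Subgroup.mem_smul_pointwise_iff_exists _ _ _).mp h1
  have hyx' : d * y * d⁻¹ = x * g * x⁻¹ := hyx
  have hdN := h.centV_le_norm hd
  have hsN : d⁻¹ * x ∈ normalizer (V : Set G) := mul_mem (inv_mem hdN) hxN
  have hdi : ∀ v ∈ V, d⁻¹ * v * d = v := by
    intro v hv
    have := h.fix_of_centV (inv_mem hd) hv
    rwa [inv_inv] at this
  have sact : ∀ v : G, d⁻¹ * x * v * (d⁻¹ * x)⁻¹ = d⁻¹ * (x * v * x⁻¹) * d := fun v => by group
  have hsg : d⁻¹ * x * g * (d⁻¹ * x)⁻¹ = y := by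
    rw [sact, ← hyx']; group
  have sp : d⁻¹ * x * p * (d⁻¹ * x)⁻¹ = p := by rw [sact, hxp, hdi p h.t.hp.1]
  have sq : d⁻¹ * x * q * (d⁻¹ * x)⁻¹ = r := by rw [sact, hxq, hdi r h.t.hr.1]
  have sr : d⁻¹ * x * r * (d⁻¹ * x)⁻¹ = q := by rw [sact, hxr, hdi q h.t.hq.1]
  refine ⟨d⁻¹ * x, hsN, sp, sq, sr, ?_⟩
  rw [hsg]
  -- `y p y⁻¹ = r`
  have hyp : y * p * y⁻¹ = r := by
    have sp' : (d⁻¹ * x)⁻¹ * p * (d⁻¹ * x) = p := by
      calc (d⁻¹ * x)⁻¹ * p * (d⁻¹ * x) = (d⁻¹ * x)⁻¹ * (d⁻¹ * x * p * (d⁻¹ * x)⁻¹) * (d⁻¹ * x) := by rw [sp]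
        _ = p := by group
    calc y * p * y⁻¹ = (d⁻¹ * x) * (g * ((d⁻¹ * x)⁻¹ * p * (d⁻¹ * x)) * g⁻¹) * (d⁻¹ * x)⁻¹ := by
          rw [← hsg]; group
      _ = r := by rw [sp', h.gp, sq]
  rcases h.mem_zpowers_g hy with e | e | e
  · rw [e, one_mul, inv_one, mul_one] at hyp
    exact absurd hyp h.t.npr
  · rw [e, h.gp] at hyp
    exact absurd hyp h.t.nqr
  · rw [e, h.g_inv]

/-- `C_G(V) = W C(g)` -/
theorem exists_mul_cent {d : G} (hd : d ∈ centralizer (V : Set G)) : ∃ w ∈ WW V U,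
    ∃ c ∈ centralizer (V : Set G) ⊓ centralizer ({g} : Set G), d = w * c := by
  haveI : Fact (Nat.Prime 3) := ⟨by norm_num⟩
  obtain ⟨n, hn⟩ := (IsPGroup.iff_card (p := 2)).mp ((h.isPGroup_centV' h.t.hp).to_le h.W_le_centV)
  have hP : IsPGroup 3 (zpowers g) := IsPGroup.of_card (n := 1) (by rw [Nat.card_zpowers, h.orderOf_g, pow_one])
  obtain ⟨c, hc, hdc⟩ := Cfsg.Agent.Lib.CoprimeCommutator.exists_fixed_in_coset 3 (zpowers g) (WW V U) hP
    (by rw [zpowers_le]; exact h.norm_W h.gN) (by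
      rw [hn]
      intro h3
      have := Nat.Prime.dvd_of_dvd_pow (by norm_num) h3
      omega) d (by
      intro a ha
      have h1 : a ∈ NW V (WW V U) h.norm_W := by
        have : zpowers g ≤ NW V (WW V U) h.norm_W := by rw [zpowers_le]; exact ⟨h.gN, h.gW⟩
        exact this ha
      have h2 := h1.2 d⁻¹ (inv_mem hd)
      have e : d⁻¹ * (a * d * a⁻¹) = d⁻¹ * a * d⁻¹⁻¹ * a⁻¹ := by group
      rw [e]; exact h2)
  have hcg : c ∈ centralizer ({g} : Set G) :=
    mem_centralizer_singleton_iff.mpr (mem_centralizer_iff.mp hc g (mem_zpowers g)).symm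
  have hcD : c ∈ centralizer (V : Set G) := by
    have e : c = d * (d⁻¹ * c) := by group
    rw [e]; exact mul_mem hd (h.W_le_centV hdc)
  refine ⟨c * (d⁻¹ * c)⁻¹ * c⁻¹, conj_mem_of_normalizer h.norm_W (h.centV_le_norm hcD) (inv_mem hdc), c,
    ⟨hcD, hcg⟩, by group⟩

/-- (A12), by `soc` -/
theorem cent_W : centralizer (WW V U : Set G) = V := by
  apply le_antisymm
  swap
  · intro v hv
    exact mem_centralizer_iff.mpr fun w hw => (h.vcomm hv (h.W_le_centV hw)).symm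
  obtain ⟨s, hsN, hsp, hsq, hsr, hsg⟩ := h.exists_s0
  have hMD : centralizer (WW V U : Set G) ≤ centralizer (V : Set G) := centralizer_le (h.V_le_W h.t.hp)
  have hMN : normalizer (V : Set G) ≤ normalizer (centralizer (WW V U : Set G) : Set G) := by
    refine le_normalizer_of_forall fun n hn d hd => mem_centralizer_iff.mpr fun v hv => ?_
    have h1 : n⁻¹ * v * n ∈ WW V U := conj_mem_of_normalizer' h.norm_W hn hv
    have h2 := mem_centralizer_iff.mp hd _ h1
    calc v * (n * d * n⁻¹) = n * ((n⁻¹ * v * n) * d) * n⁻¹ := by group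
      _ = n * (d * (n⁻¹ * v * n)) * n⁻¹ := by rw [h2]
      _ = n * d * n⁻¹ * v := by group
  set R := centralizer (WW V U : Set G) ⊓ centralizer ({g} : Set G) with hR
  have hRbot : R = ⊥ := by
    by_contra hne
    have hRD : R ≤ centralizer (V : Set G) := inf_le_left.trans hMD
    have hDp : centralizer (V : Set G) ≤ centralizer ({p} : Set G) := fun d hd =>
      mem_centralizer_singleton_iff.mpr (h.vcomm h.t.hp.1 hd).symm
    have hs : ∀ y ∈ R, s * y * s⁻¹ ∈ R := by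
      intro y hy
      refine NTri.inf_mk (conj_mem_of_normalizer hMN hsN hy.1) (mem_centralizer_singleton_iff.mpr ?_)
      have h1 : y * g = g * y := mem_centralizer_singleton_iff.mp hy.2
      have h2 : (s * y * s⁻¹) * g⁻¹ = g⁻¹ * (s * y * s⁻¹) := by
        rw [← hsg]
        calc s * y * s⁻¹ * (s * g * s⁻¹) = s * (y * g) * s⁻¹ := by group
          _ = s * (g * y) * s⁻¹ := by rw [h1]
          _ = s * g * s⁻¹ * (s * y * s⁻¹) := by group
      have h3 : Commute (s * y * s⁻¹) g⁻¹ := h2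
      have h4 := h3.inv_right
      rw [inv_inv] at h4
      exact h4
    have hD : ∀ d ∈ centralizer (V : Set G), ∀ y ∈ R, d * y * d⁻¹ ∈ R := by
      intro d hd y hy
      refine NTri.inf_mk (conj_mem_of_normalizer hMN (h.centV_le_norm hd) hy.1) (mem_centralizer_singleton_iff.mpr ?_)
      obtain ⟨w, hw, c, hc, hcd⟩ := h.exists_mul_cent (inv_mem hd)
      have hd' : d = c⁻¹ * w⁻¹ := by rw [← mul_inv_rev, ← hcd, inv_inv]
      have h1 : y * g = g * y := mem_centralizer_singleton_iff.mp hy.2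
      have h2 : c * g = g * c := mem_centralizer_singleton_iff.mp hc.2
      have h3 : w⁻¹ * y = y * w⁻¹ := mem_centralizer_iff.mp hy.1 _ (inv_mem hw)
      have h5 : Commute (c⁻¹ * y * c) g := by
        have a1 : Commute c g := h2
        have a2 : Commute y g := h1
        exact (a1.inv_left.mul_left a2).mul_left a1
      have h6 : d * y * d⁻¹ = c⁻¹ * y * c := by
        rw [hd']
        calc c⁻¹ * w⁻¹ * y * (c⁻¹ * w⁻¹)⁻¹ = c⁻¹ * (w⁻¹ * y) * w * c := by group
          _ = c⁻¹ * (y * w⁻¹) * w * c := by rw [h3]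
          _ = c⁻¹ * y * c := by group
      rw [h6]
      exact h5
    have hpR : p ∈ R := by
      refine h.soc p h.t.hp R (le_inf (hRD.trans h.centV_le_norm) (hRD.trans hDp))
        ((h.isPGroup_centV' h.t.hp).to_le hRD) hne (le_normalizer_of_forall ?_)
      rintro n ⟨hnN, hnp⟩ y hy
      have hnp' : n * p * n⁻¹ = p := by
        rw [mem_centralizer_singleton_iff.mp hnp, mul_inv_cancel_right]
      rcases h.fix_or_swap h.t hnN hnp' with ⟨h1, -, -⟩ | ⟨h1, h2⟩
      · exact hD n h1 y hy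
      · have hsp' : s⁻¹ * p * s = p := by
          calc s⁻¹ * p * s = s⁻¹ * (s * p * s⁻¹) * s := by rw [hsp]
            _ = p := by group
        have hsq' : s⁻¹ * q * s = r := by
          calc s⁻¹ * q * s = s⁻¹ * (s * r * s⁻¹) * s := by rw [hsr]
            _ = r := by group
        have h3 : n * s⁻¹ ∈ centralizer (V : Set G) := by
          refine h.mem_centV_of_fix (mul_mem hnN (inv_mem hsN)) ?_ ?_
          · have e : n * s⁻¹ * p * (n * s⁻¹)⁻¹ = n * (s⁻¹ * p * s) * n⁻¹ := by group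
            rw [e, hsp', hnp']
          · have e : n * s⁻¹ * q * (n * s⁻¹)⁻¹ = n * (s⁻¹ * q * s) * n⁻¹ := by group
            rw [e, hsq', h2]
        have h4 := hD _ h3 _ (hs y hy)
        have e : n * s⁻¹ * (s * y * s⁻¹) * (n * s⁻¹)⁻¹ = n * y * n⁻¹ := by group
        rwa [e] at h4
    have h1 : p * g = g * p := mem_centralizer_singleton_iff.mp hpR.2
    have h2 := h.V_fix h.t.hp.1 (by rw [← h1, mul_inv_cancel_right])
    exact h.t.hp.2 h2
  intro m hm
  haveI : Fact (Nat.Prime 3) := ⟨by norm_num⟩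
  have hP : IsPGroup 3 (zpowers g) := IsPGroup.of_card (n := 1) (by rw [Nat.card_zpowers, h.orderOf_g, pow_one])
  obtain ⟨c, hc, hdc⟩ := Cfsg.Agent.Lib.CoprimeCommutator.exists_fixed_in_coset 3 (zpowers g) V hP
    (by rw [zpowers_le]; exact h.gN) (by rw [h.cardV]; norm_num) m (by
      intro a ha
      have h1 : a ∈ NW V (WW V U) h.norm_W := by
        have : zpowers g ≤ NW V (WW V U) h.norm_W := by rw [zpowers_le]; exact ⟨h.gN, h.gW⟩
        exact this ha
      have h2 := h1.2 m⁻¹ (inv_mem (hMD hm))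
      have e : m⁻¹ * (a * m * a⁻¹) = m⁻¹ * a * m⁻¹⁻¹ * a⁻¹ := by group
      have h3 : m⁻¹ * (a * m * a⁻¹) ∈ centralizer (WW V U : Set G) :=
        mul_mem (inv_mem hm) (conj_mem_of_normalizer hMN h1.1 hm)
      refine h.W_inf_cent h.t (by rw [e]; exact h2) fun y hy => ?_
      exact (mem_centralizer_iff.mp h3 y hy).symm)
  have hcg : c ∈ centralizer ({g} : Set G) :=
    mem_centralizer_singleton_iff.mpr (mem_centralizer_iff.mp hc g (mem_zpowers g)).symm
  have hcM : c ∈ centralizer (WW V U : Set G) := by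
    have e : c = m * (m⁻¹ * c) := by group
    rw [e]
    refine mul_mem hm (mem_centralizer_iff.mpr fun w hw => ?_)
    exact (h.vcomm hdc (h.W_le_centV hw)).symm
  have hc1 : c ∈ R := ⟨hcM, hcg⟩
  rw [hRbot, mem_bot] at hc1
  rw [hc1, mul_one] at hdc
  simpa using inv_mem hdc

end Fin

end Fr

end Cfsg.Agent.OddCyclic.EO.NTri
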