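import Mathlib
import Cfsg.Agent.OddCyclic.EO.NConf

/-!
# The natural block: `NTri` gives `Conf64` or `Conf128` with `P1 = N_G(V)`, `S = N_G(V) ∩ C_G(p)`
-/

set_option autoImplicit false
set_option linter.unusedSectionVars false

namespace Cfsg.Agent.OddCyclic.EO.NTri

open Subgroup Cfsg Cfsg.Agent.ZN Cfsg.Agent.MinSimple.Geo
open Cfsg.Agent.Classification.TitsFin.Tri (Pt kst cj_kst K Q)
open Cfsg.Agent.SectRankFour.C2.Defs (Conf64 Conf128)
open Cfsg.Agent.ZN.Block (conj_mem_of_normalizer conj_mem_of_normalizer' le_normalizer_of_forall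
  mem_normalizer_of card_sup_mul_card_inf card_mul_relIndex' mul_mem_of_relIndex_two o2_le o2_conj o2_isPGroup
  le_o2 le_normalizer_o2)

universe u

variable {G : Type u} [Group G] [Finite G]

namespace Fr

variable {V : Subgroup G} {U C : G → Subgroup G} {p q r g a : G} (h : Fr V U C p q r g a)

include h

/-- the standard generators -/
theorem exists_gens : ∃ s A B u : G, s ∈ normalizer (V : Set G) ∧ s * p * s⁻¹ = p ∧ s * r * s⁻¹ = q ∧
    s * s = 1 ∧ s * g * s⁻¹ = g⁻¹ ∧ A ∈ h.toNTri.W0 ∧ B ∈ h.toNTri.W0 ∧ dl A a = q ∧ dl B a = r ∧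
    g * A * g⁻¹ = B ∧ g * B * g⁻¹ = A⁻¹ * B⁻¹ ∧ s * A * s⁻¹ = B ∧ s * B * s⁻¹ = A ∧
    u = q * (a * bb g a * cc g a) ∧ s * u = u * s ∧
    (∀ f ∈ EE V g, dl f a = q → s * f * s⁻¹ = f * u) := by
  obtain ⟨s, hsN, sp, sq, sr, sg, ss⟩ := h.exists_s
  obtain ⟨y1, y2⟩ := h.ca_W0
  have hsa : s⁻¹ * a * s ∈ U p ∧ s⁻¹ * a * s ∉ V := by
    have hsN' : s⁻¹ ∈ normalizer (V : Set G) := inv_mem hsN
    have hsp' : s⁻¹ * p * s⁻¹⁻¹ = p := by
      calc s⁻¹ * p * s⁻¹⁻¹ = s⁻¹ * (s * p * s⁻¹) * s := by rw [sp, inv_inv]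
        _ = p := by group
    have e1 := h.conj_U hsN' h.t.hp h.ha
    have e2 := h.conj_notV hsN' h.haV
    rw [hsp'] at e1
    rw [inv_inv] at e1 e2
    exact ⟨e1, e2⟩
  -- values after conjugation with `s`
  have sval : ∀ d ∈ centralizer (V : Set G), dl (s * d * s⁻¹) a = s * dl d a * s⁻¹ := by
    intro d hd
    have e1 : a = s * (s⁻¹ * a * s) * s⁻¹ := by group
    conv_lhs => rw [e1]
    rw [dl_conj, h.dl_const h.t.hp hd h.ha h.haV hsa.1 hsa.2]
  set y := cc g a * a with hy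
  have hyD := h.W_le_centV y1.1
  have sy : s * y * s⁻¹ ∈ h.toNTri.W0 := conj_mem_of_normalizer h.norm_W0 hsN y1
  set A0 := y * (s * y * s⁻¹) with hA0
  have A0m : A0 ∈ h.toNTri.W0 := mul_mem y1 sy
  have sA0 : s * A0 * s⁻¹ = A0 := by
    calc s * A0 * s⁻¹ = (s * y * s⁻¹) * ((s * s) * y * (s * s)⁻¹) := by rw [hA0]; group
      _ = (s * y * s⁻¹) * y := by rw [ss]; group
      _ = A0 := by rw [hA0, h.W0_comm sy y1]
  have dA0 : dl A0 a = p := by
    rw [hA0, h.dmul_a hyD (h.W_le_centV sy.1), sval y hyD, y2, sq, h.mqr]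
  have A1m : g * A0 * g⁻¹ ∈ h.toNTri.W0 := conj_mem_of_normalizer h.norm_W0 h.gN A0m
  have A2m : g * (g * A0 * g⁻¹) * g⁻¹ ∈ h.toNTri.W0 := conj_mem_of_normalizer h.norm_W0 h.gN A1m
  have gval : ∀ x ∈ h.toNTri.W0, dl (g * x * g⁻¹) a = g * dl x a * g⁻¹ := by
    intro x hx
    have hx' : g * x * g⁻¹ ∈ h.toNTri.W0 := conj_mem_of_normalizer h.norm_W0 h.gN hx
    rw [← h.W0_val hx' h.t.hq h.Ub h.Vb]
    exact dl_conj g x a
  have dA1 : dl (g * A0 * g⁻¹) a = q := by rw [gval _ A0m, dA0, h.gp]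
  have dA2 : dl (g * (g * A0 * g⁻¹) * g⁻¹) a = r := by rw [gval _ A1m, dA1, h.gq]
  have sgi : s * g⁻¹ * s⁻¹ = g := by
    have : s * g⁻¹ * s⁻¹ = (s * g * s⁻¹)⁻¹ := by group
    rw [this, sg, inv_inv]
  have gkey : ∀ x : G, g⁻¹ * x * g⁻¹⁻¹ = g * (g * x * g⁻¹) * g⁻¹ := fun x => by
    have e : g * (g * x * g⁻¹) * g⁻¹ = (g * g) * x * (g * g)⁻¹ := by group
    rw [e, ← h.g_inv]
  have hprod : A0 * (g * A0 * g⁻¹) * (g * (g * A0 * g⁻¹) * g⁻¹) = 1 := by
    refine h.W0_inf_E (mul_mem (mul_mem A0m A1m) A2m) (mem_EE.mpr ⟨h.W_le_centV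
      (mul_mem (mul_mem A0m A1m) A2m : _ ∈ h.toNTri.W0).1, ?_⟩)
    have e1 : g * (A0 * (g * A0 * g⁻¹) * (g * (g * A0 * g⁻¹) * g⁻¹)) * g⁻¹ =
        A0 * (g * A0 * g⁻¹) * (g * (g * A0 * g⁻¹) * g⁻¹) := by
      calc g * (A0 * (g * A0 * g⁻¹) * (g * (g * A0 * g⁻¹) * g⁻¹)) * g⁻¹ =
            ((g * A0 * g⁻¹) * (g * (g * A0 * g⁻¹) * g⁻¹)) * (g * (g * (g * A0 * g⁻¹) * g⁻¹) * g⁻¹) := by group
        _ = ((g * A0 * g⁻¹) * (g * (g * A0 * g⁻¹) * g⁻¹)) * A0 := by rw [h.g3a A0]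
        _ = A0 * ((g * A0 * g⁻¹) * (g * (g * A0 * g⁻¹) * g⁻¹)) := h.W0_comm (mul_mem A1m A2m) A0m
        _ = A0 * (g * A0 * g⁻¹) * (g * (g * A0 * g⁻¹) * g⁻¹) := by group
    exact (mul_inv_eq_iff_eq_mul.mp e1).symm
  have hu := h.u_E
  have seE : ∀ e ∈ EE V g, s * e * s⁻¹ ∈ EE V g := by
    intro e he
    refine mem_EE.mpr ⟨conj_mem_of_normalizer h.centV_norm hsN (mem_EE.mp he).1, ?_⟩
    have h1 : Commute e g := (mem_EE.mp he).2
    have h2 := h1.inv_right
    have h3 : s * e * s⁻¹ * (s * g⁻¹ * s⁻¹) = s * g⁻¹ * s⁻¹ * (s * e * s⁻¹) := by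
      calc s * e * s⁻¹ * (s * g⁻¹ * s⁻¹) = s * (e * g⁻¹) * s⁻¹ := by group
        _ = s * (g⁻¹ * e) * s⁻¹ := by rw [h2.eq]
        _ = s * g⁻¹ * s⁻¹ * (s * e * s⁻¹) := by group
    rwa [sgi] at h3
  refine ⟨s, g * A0 * g⁻¹, g * (g * A0 * g⁻¹) * g⁻¹, _, hsN, sp, sr, ss, sg, A1m, A2m, dA1, dA2, rfl, ?_, ?_, ?_,
    rfl, ?_, ?_⟩
  · -- `g B g⁻¹ = A0 = A⁻¹ B⁻¹`
    rw [h.g3a A0]
    have e1 : A0 * ((g * A0 * g⁻¹) * (g * (g * A0 * g⁻¹) * g⁻¹)) = 1 := by rw [← mul_assoc]; exact hprod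
    calc A0 = ((g * A0 * g⁻¹) * (g * (g * A0 * g⁻¹) * g⁻¹))⁻¹ := eq_inv_of_mul_eq_one_left e1
      _ = ((g * (g * A0 * g⁻¹) * g⁻¹) * (g * A0 * g⁻¹))⁻¹ := by rw [h.W0_comm A1m A2m]
      _ = (g * A0 * g⁻¹)⁻¹ * (g * (g * A0 * g⁻¹) * g⁻¹)⁻¹ := mul_inv_rev _ _
  · calc s * (g * A0 * g⁻¹) * s⁻¹ = (s * g * s⁻¹) * (s * A0 * s⁻¹) * (s * g * s⁻¹)⁻¹ := by group
      _ = g⁻¹ * A0 * g⁻¹⁻¹ := by rw [sg, sA0]
      _ = g * (g * A0 * g⁻¹) * g⁻¹ := gkey A0
  · calc s * (g * (g * A0 * g⁻¹) * g⁻¹) * s⁻¹ = (s * g * s⁻¹) * ((s * g * s⁻¹) * (s * A0 * s⁻¹) *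
          (s * g * s⁻¹)⁻¹) * (s * g * s⁻¹)⁻¹ := by group
      _ = g⁻¹ * (g⁻¹ * A0 * g⁻¹⁻¹) * g⁻¹⁻¹ := by rw [sg, sA0]
      _ = g * (g * (g⁻¹ * A0 * g⁻¹⁻¹) * g⁻¹) * g⁻¹ := gkey _
      _ = g * A0 * g⁻¹ := by group
  · have e1 : s * (q * (a * bb g a * cc g a)) * s⁻¹ = q * (a * bb g a * cc g a) := by
      refine h.E_inj' (seE _ hu) hu ?_
      rw [sval _ (mem_EE.mp hu).1, h.u_dl.1, sp]
    exact mul_inv_eq_iff_eq_mul.mp e1
  · intro f hf hfq
    refine h.E_inj' (seE _ hf) (mul_mem hf hu) ?_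
    rw [sval _ (mem_EE.mp hf).1, hfq, sq, h.dmul_a (mem_EE.mp hf).1 (mem_EE.mp hu).1, hfq, h.u_dl.1, h.mqp]

/-- generation -/
theorem D_le_of {A B : G} (hA : A ∈ h.toNTri.W0) (hB : B ∈ h.toNTri.W0) (dA : dl A a = q) (dB : dl B a = r)
    {X : Subgroup G} (hAX : A ∈ X) (hBX : B ∈ X) (hE : EE V g ≤ X) : centralizer (V : Set G) ≤ X := by
  have hqX : q ∈ X := by rw [← dA, ← h.W0_sq hA]; exact mul_mem hAX hAX
  have hrX : r ∈ X := by rw [← dB, ← h.W0_sq hB]; exact mul_mem hBX hBX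
  have hVX : V ≤ X := by
    intro v hv
    rcases h.mem_V' h.t hv with rfl | rfl | rfl | rfl
    · exact one_mem X
    · rw [← h.mqr]; exact mul_mem hqX hrX
    · exact hqX
    · exact hrX
  have key : ∀ x ∈ h.toNTri.W0, ∀ y ∈ h.toNTri.W0, y ∈ X → dl x a = dl y a → x ∈ X := by
    intro x hx y hy hyX e
    obtain ⟨v, hv, rfl⟩ := h.exists_V_of_dl (h.W_le_centV hx.1) (h.W_le_centV hy.1) e
      (((h.W0_val hx h.t.hq h.Ub h.Vb).trans e).trans (h.W0_val hy h.t.hq h.Ub h.Vb).symm)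
      (((h.W0_val hx h.t.hr h.Uc h.Vc).trans e).trans (h.W0_val hy h.t.hr h.Uc h.Vc).symm)
    exact mul_mem (hVX hv) hyX
  intro d hd
  obtain ⟨w, hw, e, he, rfl⟩ := h.exists_W0_E hd
  refine mul_mem ?_ (hE he)
  rcases h.mem_V' h.t (h.dl_mem h.t.hp h.ha (h.W_le_centV hw.1)) with e1 | e1 | e1 | e1
  · exact key w hw 1 (one_mem _) (one_mem _) (by rw [e1, h.dl_one])
  · refine key w hw (A * B) (mul_mem hA hB) (mul_mem hAX hBX) ?_
    rw [h.dmul_a (h.W_le_centV hA.1) (h.W_le_centV hB.1), dA, dB, h.mqr, e1]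
  · exact key w hw A hA hAX (e1.trans dA.symm)
  · exact key w hw B hB hBX (e1.trans dB.symm)

theorem N_le_of {X : Subgroup G} (hS : normalizer (V : Set G) ⊓ centralizer ({p} : Set G) ≤ X) (hg : g ∈ X) :
    normalizer (V : Set G) ≤ X := by
  intro n hn
  have key : ∀ i : ℕ, (g ^ i * n) * p * (g ^ i * n)⁻¹ = p → n ∈ X := by
    intro i hi
    have h1 : g ^ i * n ∈ X := hS (mem_inf.mpr ⟨mul_mem (pow_mem h.gN i) hn,
      mem_centralizer_singleton_iff.mpr (mul_inv_eq_iff_eq_mul.mp hi)⟩)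
    have h2 := mul_mem (inv_mem (pow_mem hg i)) h1
    rwa [inv_mul_cancel_left] at h2
  rcases h.mem_V' h.t (h.conj_V hn h.t.hp.1) with e | e | e | e
  · exact absurd e (h.pt_conj hn h.t.hp).2
  · exact key 0 (by rw [pow_zero, one_mul, e])
  · refine key 2 ?_
    have : g ^ 2 * n * p * (g ^ 2 * n)⁻¹ = g * (g * (n * p * n⁻¹) * g⁻¹) * g⁻¹ := by rw [pow_two]; group
    rw [this, e, h.gq, h.gr]
  · refine key 1 ?_
    have : g ^ 1 * n * p * (g ^ 1 * n)⁻¹ = g * (n * p * n⁻¹) * g⁻¹ := by rw [pow_one]; group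
    rw [this, e, h.gr]

/-- **normal form** -/
theorem exists_conf : (∃ A B u s : G, Conf64 (normalizer (V : Set G) ⊓ centralizer ({p} : Set G))
      (normalizer (V : Set G)) A B u s g ∧ A ∈ h.toNTri.W0 ∧ dl A a = q ∧ dl u a = p) ∨
    ∃ A B u f s : G, Conf128 (normalizer (V : Set G) ⊓ centralizer ({p} : Set G))
      (normalizer (V : Set G)) A B u f s g ∧ A ∈ h.toNTri.W0 ∧ B ∈ h.toNTri.W0 ∧ dl A a = q ∧ dl B a = r ∧
      u = q * (a * bb g a * cc g a) ∧ f ∈ EE V g ∧ dl f a = q ∧ (∀ e ∈ EE V g, e = 1 ∨ e = u ∨ e = f ∨ e = f * u) ∧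
      Nat.card (EE V g) = 4 := by
  obtain ⟨s, A, B, u, hsN, sp, sr, ss, sg, hA, hB, dA, dB, gA, gB, sA, sB, hu, su, sf⟩ := h.exists_gens
  have hcS := h.card_S
  have uE : u ∈ EE V g := by rw [hu]; exact h.u_E
  have AA : A * A = q := by rw [h.W0_sq hA, dA]
  have BB : B * B = r := by rw [h.W0_sq hB, dB]
  have hsS : s ∈ normalizer (V : Set G) ⊓ centralizer ({p} : Set G) :=
    mem_inf.mpr ⟨hsN, mem_centralizer_singleton_iff.mpr (mul_inv_eq_iff_eq_mul.mp sp)⟩
  have hDS := h.D_le_S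
  have hAS := hDS (h.W_le_centV hA.1)
  have hBS := hDS (h.W_le_centV hB.1)
  have hES : EE V g ≤ normalizer (V : Set G) ⊓ centralizer ({p} : Set G) := inf_le_left.trans hDS
  have uA : u * A * u⁻¹ = A⁻¹ := by rw [hu]; exact h.W0_conj_u hA
  have uB : u * B * u⁻¹ = B⁻¹ := by rw [hu]; exact h.W0_conj_u hB
  have A4 : A ^ 4 = 1 := by
    have : A ^ 4 = (A * A) * (A * A) := by rw [← pow_two, ← pow_two, ← pow_mul]
    rw [this, AA, h.mqq]
  have B4 : B ^ 4 = 1 := by
    have : B ^ 4 = (B * B) * (B * B) := by rw [← pow_two, ← pow_two, ← pow_mul]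
    rw [this, BB, h.mrr]
  rcases h.card_E with h2 | h4
  · left
    have hE2 : ∀ e ∈ EE V g, e = 1 ∨ e = u := fun e he => by rw [hu]; exact h.E_two h2 he
    have hSle : normalizer (V : Set G) ⊓ centralizer ({p} : Set G) ≤ closure {A, B, u, s} := by
      have m : ∀ x ∈ ({A, B, u, s} : Set G), x ∈ closure {A, B, u, s} := fun x hx => subset_closure hx
      refine h.S_le hsN sp sr (h.D_le_of hA hB dA dB (m A (by simp)) (m B (by simp)) ?_) (m s (by simp))
      intro e he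
      rcases hE2 e he with rfl | rfl
      · exact one_mem _
      · exact m _ (by simp)
    refine ⟨A, B, u, s, ?_, hA, dA, by rw [hu]; exact h.u_dl.1⟩
    exact
      { card := by rw [hcS, h2]
        eqS := by
          refine le_antisymm hSle ((closure_le _).mpr ?_)
          rintro x (rfl | rfl | rfl | rfl)
          · exact hAS
          · exact hBS
          · exact hES uE
          · exact hsS
        eqP := by
          refine le_antisymm ?_ ((closure_le _).mpr ?_)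
          · refine h.N_le_of (hSle.trans (closure_mono ?_)) (subset_closure (by simp))
            rintro x (rfl | rfl | rfl | rfl) <;> simp
          · rintro x (rfl | rfl | rfl | rfl | rfl)
            · exact hAS.1
            · exact hBS.1
            · exact (hES uE).1
            · exact hsN
            · exact h.gN
        ab := h.W0_comm hA hB
        a4 := A4
        b4 := B4
        u2 := by rw [pow_two]; exact h.E_sq uE
        s2 := by rw [pow_two]; exact ss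
        x3 := h.g3
        ua := uA
        ub := uB
        sa := sA
        sb := sB
        su := su
        xa := gA
        xb := gB
        xu := (mem_EE.mp uE).2.symm
        sx := sg }
  · right
    obtain ⟨f, hf, hfq⟩ := h.E_four h4
    obtain ⟨fb, fc⟩ := (h.E_dl hf).2.2.1 hfq
    have hfD := (mem_EE.mp hf).1
    have hE4 : ∀ e ∈ EE V g, e = 1 ∨ e = u ∨ e = f ∨ e = f * u := fun e he => by
      rw [hu]; exact h.E_four' hf hfq he
    have hSle : normalizer (V : Set G) ⊓ centralizer ({p} : Set G) ≤ closure {A, B, u, f, s} := by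
      have m : ∀ x ∈ ({A, B, u, f, s} : Set G), x ∈ closure {A, B, u, f, s} := fun x hx => subset_closure hx
      refine h.S_le hsN sp sr (h.D_le_of hA hB dA dB (m A (by simp)) (m B (by simp)) ?_) (m s (by simp))
      intro e he
      rcases hE4 e he with rfl | rfl | rfl | rfl
      · exact one_mem _
      · exact m _ (by simp)
      · exact m _ (by simp)
      · exact mul_mem (m _ (by simp)) (m _ (by simp))
    have ff := h.E_sq hf
    have uu := h.E_sq uE
    have fu : f * u = u * f := by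
      have h1 := h.E_sq (mul_mem hf uE)
      calc f * u = (f * u) * (f * u) * (f * u)⁻¹ * 1 := by group
        _ = (f * u)⁻¹ := by rw [h1]; group
        _ = u⁻¹ * f⁻¹ := by group
        _ = u * f := by rw [inv_eq_self ff, inv_eq_self uu]
    -- the action of `f` on `A`, `B`
    have fA : f * A * f⁻¹ = r * A := by
      obtain ⟨v, hv, e⟩ := h.exists_V_of_dl (h.W_le_centV hA.1) (h.W_le_centV h.ca_W0.1.1)
        (dA.trans h.ca_W0.2.symm)
        (((h.W0_val hA h.t.hq h.Ub h.Vb).trans (dA.trans h.ca_W0.2.symm)).trans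
          (h.W0_val h.ca_W0.1 h.t.hq h.Ub h.Vb).symm)
        (((h.W0_val hA h.t.hr h.Uc h.Vc).trans (dA.trans h.ca_W0.2.symm)).trans
          (h.W0_val h.ca_W0.1 h.t.hr h.Uc h.Vc).symm)
      have hvf := h.fix_of_centV hfD hv
      have hrv := h.V_comm h.t.hr.1 hv
      have hqc := h.vcomm h.t.hq.1 h.Dc
      rw [e]
      calc f * (v * (cc g a * a)) * f⁻¹ = (f * v * f⁻¹) * ((f * cc g a * f⁻¹) * (f * a * f⁻¹)) := by group
        _ = v * ((p * cc g a) * (q * a)) := by rw [hvf, conj_eq_dl, conj_eq_dl, fc, hfq]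
        _ = v * (p * (cc g a * q) * a) := by group
        _ = v * (p * q) * (cc g a * a) := by rw [← hqc]; group
        _ = r * (v * (cc g a * a)) := by rw [h.mpq, ← hrv]; group
    have fB : f * B * f⁻¹ = p * B := by
      obtain ⟨v, hv, e⟩ := h.exists_V_of_dl (h.W_le_centV hB.1) (h.W_le_centV h.ab_W0.1.1)
        (dB.trans h.ab_W0.2.symm)
        (((h.W0_val hB h.t.hq h.Ub h.Vb).trans (dB.trans h.ab_W0.2.symm)).trans
          (h.W0_val h.ab_W0.1 h.t.hq h.Ub h.Vb).symm)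
        (((h.W0_val hB h.t.hr h.Uc h.Vc).trans (dB.trans h.ab_W0.2.symm)).trans
          (h.W0_val h.ab_W0.1 h.t.hr h.Uc h.Vc).symm)
      have hvf := h.fix_of_centV hfD hv
      have hpv := h.V_comm h.t.hp.1 hv
      have hra := h.vcomm h.t.hr.1 h.Da
      rw [e]
      calc f * (v * (a * bb g a)) * f⁻¹ = (f * v * f⁻¹) * ((f * a * f⁻¹) * (f * bb g a * f⁻¹)) := by group
        _ = v * ((q * a) * (r * bb g a)) := by rw [hvf, conj_eq_dl, conj_eq_dl, fb, hfq]
        _ = v * (q * (a * r) * bb g a) := by group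
        _ = v * (q * r) * (a * bb g a) := by rw [← hra]; group
        _ = p * (v * (a * bb g a)) := by rw [h.mqr, ← hpv]; group
    refine ⟨A, B, u, f, s, ?_, hA, hB, dA, dB, hu, hf, hfq, hE4, h4⟩
    exact
      { card := by rw [hcS, h4]
        eqS := by
          refine le_antisymm hSle ((closure_le _).mpr ?_)
          rintro x (rfl | rfl | rfl | rfl | rfl)
          · exact hAS
          · exact hBS
          · exact hES uE
          · exact hES hf
          · exact hsS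
        eqP := by
          refine le_antisymm ?_ ((closure_le _).mpr ?_)
          · refine h.N_le_of (hSle.trans (closure_mono ?_)) (subset_closure (by simp))
            rintro x (rfl | rfl | rfl | rfl | rfl) <;> simp
          · rintro x (rfl | rfl | rfl | rfl | rfl | rfl)
            · exact hAS.1
            · exact hBS.1
            · exact (hES uE).1
            · exact (hES hf).1
            · exact hsN
            · exact h.gN
        ab := h.W0_comm hA hB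
        a4 := A4
        b4 := B4
        u2 := by rw [pow_two]; exact uu
        s2 := by rw [pow_two]; exact ss
        f2 := by rw [pow_two]; exact ff
        x3 := h.g3
        ua := uA
        ub := uB
        fa := by
          rw [fA, pow_two, BB]
          exact h.vcomm h.t.hr.1 (h.W_le_centV hA.1)
        fb := by
          have hBi : B⁻¹ = r * B := by
            have : (r * B) * B = 1 := by rw [mul_assoc, BB, h.mrr]
            exact (eq_inv_of_mul_eq_one_left this).symm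
          rw [fB, pow_two, AA, hBi, ← mul_assoc, h.mqr]
        sa := sA
        sb := sB
        su := su
        fu := fu
        sf := sf f hf hfq
        xa := gA
        xb := gB
        xu := (mem_EE.mp uE).2.symm
        xf := (mem_EE.mp hf).2.symm
        sx := sg }

end Fr

end Cfsg.Agent.OddCyclic.EO.NTri
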