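import Mathlib
import Cfsg.Agent.OddCyclic.EO.NEnd
import Cfsg.Agent.SectRankFour.C2.Fin64
import Cfsg.Agent.SectRankFour.C2.FinAut

/-!
# The natural block does not occur in a simple group of characteristic 2 type (no solvability of 2-locals)
-/

set_option autoImplicit false
set_option linter.unusedSectionVars false

namespace Cfsg.Agent.OddCyclic.EO.NTri

open Subgroup Cfsg Cfsg.Agent.ZN Cfsg.Agent.MinSimple.Geo
open Cfsg.Agent.Classification.TitsFin.Tri (Pt kst cj_kst K Q)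
open Cfsg.Agent.SectRankFour.C2.Defs (Conf64 Conf128)
open Cfsg.Agent.ZN.Block (conj_mem_of_normalizer conj_mem_of_normalizer' le_normalizer_of_forall
  mem_normalizer_of card_sup_mul_card_inf card_mul_relIndex' mul_mem_of_relIndex_two o2_le o2_conj o2_isPGroup
  le_o2 le_normalizer_o2)

universe u

variable {G : Type u} [Group G] [Finite G]

namespace Fr

variable {V : Subgroup G} {U C : G → Subgroup G} {p q r g a : G} (h : Fr V U C p q r g a)

include h

/-- the action of an element `f` of `E` with value `q` on `W0` -/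
theorem f_conj_q {f w : G} (hf : f ∈ EE V g) (hfq : dl f a = q) (hw : w ∈ h.toNTri.W0) (dw : dl w a = q) :
    f * w * f⁻¹ = r * w := by
  obtain ⟨fb, fc⟩ := (h.E_dl hf).2.2.1 hfq
  have hfD := (mem_EE.mp hf).1
  obtain ⟨v, hv, e⟩ := h.exists_V_of_dl (h.W_le_centV hw.1) (h.W_le_centV h.ca_W0.1.1)
    (dw.trans h.ca_W0.2.symm)
    (((h.W0_val hw h.t.hq h.Ub h.Vb).trans (dw.trans h.ca_W0.2.symm)).trans
      (h.W0_val h.ca_W0.1 h.t.hq h.Ub h.Vb).symm)
    (((h.W0_val hw h.t.hr h.Uc h.Vc).trans (dw.trans h.ca_W0.2.symm)).trans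
      (h.W0_val h.ca_W0.1 h.t.hr h.Uc h.Vc).symm)
  have hvf := h.fix_of_centV hfD hv
  have hrv := h.V_comm h.t.hr.1 hv
  have hqc := h.vcomm h.t.hq.1 h.Dc
  rw [e]
  calc f * (v * (cc g a * a)) * f⁻¹ = (f * v * f⁻¹) * ((f * cc g a * f⁻¹) * (f * a * f⁻¹)) := by group
    _ = v * ((p * cc g a) * (q * a)) := by rw [hvf, conj_eq_dl, conj_eq_dl, fc, hfq]
    _ = v * (p * (cc g a * q) * a) := by group
    _ = v * (p * q) * (cc g a * a) := by rw [← hqc]; group
    _ = r * (v * (cc g a * a)) := by rw [h.mpq, ← hrv]; group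

theorem f_conj_r {f w : G} (hf : f ∈ EE V g) (hfq : dl f a = q) (hw : w ∈ h.toNTri.W0) (dw : dl w a = r) :
    f * w * f⁻¹ = p * w := by
  obtain ⟨fb, fc⟩ := (h.E_dl hf).2.2.1 hfq
  have hfD := (mem_EE.mp hf).1
  obtain ⟨v, hv, e⟩ := h.exists_V_of_dl (h.W_le_centV hw.1) (h.W_le_centV h.ab_W0.1.1)
    (dw.trans h.ab_W0.2.symm)
    (((h.W0_val hw h.t.hq h.Ub h.Vb).trans (dw.trans h.ab_W0.2.symm)).trans
      (h.W0_val h.ab_W0.1 h.t.hq h.Ub h.Vb).symm)
    (((h.W0_val hw h.t.hr h.Uc h.Vc).trans (dw.trans h.ab_W0.2.symm)).trans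
      (h.W0_val h.ab_W0.1 h.t.hr h.Uc h.Vc).symm)
  have hvf := h.fix_of_centV hfD hv
  have hpv := h.V_comm h.t.hp.1 hv
  have hra := h.vcomm h.t.hr.1 h.Da
  rw [e]
  calc f * (v * (a * bb g a)) * f⁻¹ = (f * v * f⁻¹) * ((f * a * f⁻¹) * (f * bb g a * f⁻¹)) := by group
    _ = v * ((q * a) * (r * bb g a)) := by rw [hvf, conj_eq_dl, conj_eq_dl, fb, hfq]
    _ = v * (q * (a * r) * bb g a) := by group
    _ = v * (q * r) * (a * bb g a) := by rw [← hra]; group
    _ = p * (v * (a * bb g a)) := by rw [h.mqr, ← hpv]; group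

theorem f_conj_p {f w : G} (hf : f ∈ EE V g) (hfq : dl f a = q) (hw : w ∈ h.toNTri.W0) (dw : dl w a = p) :
    f * w * f⁻¹ = q * w := by
  have hx := h.ca_W0
  set x := cc g a * a with hxdef
  have hxD := h.W_le_centV hx.1.1
  have hwD := h.W_le_centV hw.1
  have hy : x⁻¹ * w ∈ h.toNTri.W0 := mul_mem (inv_mem hx.1) hw
  have hdx : dl x⁻¹ a = q := by
    have h1 := h.dmul_a (inv_mem hxD) hxD
    rw [inv_mul_cancel, h.dl_one, hx.2] at h1
    rw [eq_comm, mul_eq_one_iff_eq_inv] at h1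
    rw [h1, inv_eq_self h.mqq]
  have hdy : dl (x⁻¹ * w) a = r := by rw [h.dmul_a (inv_mem hxD) hwD, hdx, dw, h.mqp]
  have e1 := h.f_conj_q hf hfq hx.1 hx.2
  have e2 := h.f_conj_r hf hfq hy hdy
  have hxp := h.vcomm h.t.hp.1 hxD
  calc f * w * f⁻¹ = (f * x * f⁻¹) * (f * (x⁻¹ * w) * f⁻¹) := by group
    _ = r * x * (p * (x⁻¹ * w)) := by rw [e1, e2]
    _ = r * (x * p) * x⁻¹ * w := by group
    _ = r * p * w := by rw [← hxp]; group
    _ = q * w := by rw [h.mrp]

/-- an element `w` of `W0` with a given value -/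
theorem exists_val {v : G} (hv : v ∈ V) : ∃ w ∈ h.toNTri.W0, dl w a = v := by
  rcases h.mem_V' h.t hv with rfl | rfl | rfl | rfl
  · exact ⟨1, one_mem _, h.dl_one a⟩
  · exact ⟨_, mul_mem h.ca_W0.1 h.ab_W0.1, by
      rw [h.dmul_a (h.W_le_centV h.ca_W0.1.1) (h.W_le_centV h.ab_W0.1.1), h.ca_W0.2, h.ab_W0.2, h.mqr]⟩
  · exact ⟨_, h.ca_W0⟩
  · exact ⟨_, h.ab_W0⟩

theorem conj_of_mul {e w v : G} (hw : w ∈ h.toNTri.W0) (hv : v ∈ V) (h1 : e * w * e⁻¹ = v * w) :
    w⁻¹ * e * w = v * e := by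
  have hvw := h.vcomm hv (h.W_le_centV hw.1)
  have h2 : e * w = v * w * e := by rw [← h1]; group
  calc w⁻¹ * e * w = w⁻¹ * (e * w) := by group
    _ = w⁻¹ * (v * w * e) := by rw [h2]
    _ = v * e := by rw [hvw]; group

theorem u_conj {w : G} (hw : w ∈ h.toNTri.W0) :
    (q * (a * bb g a * cc g a)) * w * (q * (a * bb g a * cc g a))⁻¹ = dl w a * w := by
  rw [h.W0_conj_u hw]
  have hxx := h.W0_sq hw
  have hvd := h.dl_mem h.t.hp h.ha (h.W_le_centV hw.1)
  have h4 : (dl w a * w) * w = 1 := by rw [mul_assoc, hxx, h.sqV _ hvd]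
  exact (eq_inv_of_mul_eq_one_left h4).symm

/-- `v e` is conjugate to `e` for `v ∈ V`, `e ∈ E`, `e ≠ 1` -/
theorem exists_conj_VE {f e v : G} (hf : f ∈ EE V g) (hfq : dl f a = q) (he : e ∈ EE V g) (he1 : e ≠ 1)
    (hv : v ∈ V) : ∃ w : G, w⁻¹ * e * w = v * e := by
  rcases h.E_four' hf hfq he with rfl | rfl | rfl | rfl
  · exact absurd rfl he1
  · obtain ⟨w, hw, dw⟩ := h.exists_val hv
    refine ⟨w, h.conj_of_mul hw hv ?_⟩
    rw [h.u_conj hw, dw]
  · rcases h.mem_V' h.t hv with rfl | rfl | rfl | rfl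
    · exact ⟨1, by group⟩
    · obtain ⟨w, hw, dw⟩ := h.exists_val h.t.hr.1
      exact ⟨w, h.conj_of_mul hw hv (h.f_conj_r hf hfq hw dw)⟩
    · obtain ⟨w, hw, dw⟩ := h.exists_val h.t.hp.1
      exact ⟨w, h.conj_of_mul hw hv (h.f_conj_p hf hfq hw dw)⟩
    · obtain ⟨w, hw, dw⟩ := h.exists_val h.t.hq.1
      exact ⟨w, h.conj_of_mul hw hv (h.f_conj_q hf hfq hw dw)⟩
  · have key : ∀ w ∈ h.toNTri.W0, ∀ v', v' ∈ V → f * w * f⁻¹ = v' * w →
        (f * (q * (a * bb g a * cc g a))) * w * (f * (q * (a * bb g a * cc g a)))⁻¹ = (dl w a * v') * w := by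
      intro w hw v' hv' h1
      have hd := h.dl_mem h.t.hp h.ha (h.W_le_centV hw.1)
      have h2 := h.u_conj hw
      have hdf := h.fix_of_centV (mem_EE.mp hf).1 hd
      calc (f * (q * (a * bb g a * cc g a))) * w * (f * (q * (a * bb g a * cc g a)))⁻¹ =
            f * ((q * (a * bb g a * cc g a)) * w * (q * (a * bb g a * cc g a))⁻¹) * f⁻¹ := by group
        _ = f * (dl w a * w) * f⁻¹ := by rw [h2]
        _ = (f * dl w a * f⁻¹) * (f * w * f⁻¹) := by group
        _ = dl w a * (v' * w) := by rw [hdf, h1]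
        _ = (dl w a * v') * w := by group
    rcases h.mem_V' h.t hv with rfl | rfl | rfl | rfl
    · exact ⟨1, by group⟩
    · obtain ⟨w, hw, dw⟩ := h.exists_val h.t.hq.1
      have h1 := key w hw _ h.t.hr.1 (h.f_conj_q hf hfq hw dw)
      rw [dw, h.mqr] at h1
      exact ⟨w, h.conj_of_mul hw hv h1⟩
    · obtain ⟨w, hw, dw⟩ := h.exists_val h.t.hr.1
      have h1 := key w hw _ h.t.hp.1 (h.f_conj_r hf hfq hw dw)
      rw [dw, h.mrp] at h1
      exact ⟨w, h.conj_of_mul hw hv h1⟩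
    · obtain ⟨w, hw, dw⟩ := h.exists_val h.t.hp.1
      have h1 := key w hw _ h.t.hq.1 (h.f_conj_p hf hfq hw dw)
      rw [dw, h.mpq] at h1
      exact ⟨w, h.conj_of_mul hw hv h1⟩

/-- (C1) the involutions of `K_p` lie in `U_p` -/
theorem mem_U_of_K {f d : G} (hf : f ∈ EE V g) (hfq : dl f a = q) (hd : d ∈ K U p) (hdd : d * d = 1) :
    d ∈ U p := by
  have hdD := h.K_le_centV h.t.hp hd
  have hda : dl d a = 1 := h.dl_eq_one.mpr (h.K_comm hd h.ha)
  obtain ⟨w, hw, e, he, rfl⟩ := h.exists_W0_E hdD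
  have hwD := h.W_le_centV hw.1
  have heD := (mem_EE.mp he).1
  have h1 := h.dmul_a hwD heD
  rw [hda] at h1
  have hww := h.W0_sq hw
  rcases h.E_four' hf hfq he with rfl | rfl | rfl | rfl
  · rw [h.dl_one, mul_one] at h1
    rw [mul_one]
    exact h.V_le p h.t.hp (h.mem_V_of_dl hwD h1.symm ((h.W0_val hw h.t.hq h.Ub h.Vb).trans h1.symm)
      ((h.W0_val hw h.t.hr h.Uc h.Vc).trans h1.symm))
  · rw [h.u_dl.1] at h1
    have h2 : dl w a = p := by
      rw [eq_comm, mul_eq_one_iff_eq_inv] at h1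
      rw [h1, h.invp h.t.hp]
    obtain ⟨v, hv, e2⟩ := h.exists_V_of_dl hdD h.Da (by rw [hda, h.dl_self])
      (by rw [h.dmul_b hwD heD, h.u_dl.2.1, h.W0_val hw h.t.hq h.Ub h.Vb, h2, h.mpq, h.ab])
      (by rw [h.dmul_c hwD heD, h.u_dl.2.2, h.W0_val hw h.t.hr h.Uc h.Vc, h2, h.mpr, h.ac])
    rw [e2]
    exact mul_mem (h.V_le p h.t.hp hv) h.ha
  · exfalso
    rw [hfq] at h1
    have h2 : dl w a = q := by
      rw [eq_comm, mul_eq_one_iff_eq_inv] at h1
      rw [h1, h.invp h.t.hq]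
    have h3 := h.f_conj_q hf hfq hw h2
    have hff := h.E_sq hf
    have hrw := h.vcomm h.t.hr.1 hwD
    apply h.t.hp.2
    have : w * e * (w * e) = r * q := by
      calc w * e * (w * e) = w * (e * w * e⁻¹) * (e * e) := by group
        _ = (w * r) * w := by rw [h3, hff]; group
        _ = r * (w * w) := by rw [← hrw]; group
        _ = r * q := by rw [hww, h2]
    rw [hdd, h.mrq] at this
    exact this.symm
  · exfalso
    have hu := h.u_E
    rw [h.dmul_a (mem_EE.mp hf).1 (mem_EE.mp hu).1, hfq, h.u_dl.1, h.mqp] at h1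
    have h2 : dl w a = r := by
      rw [eq_comm, mul_eq_one_iff_eq_inv] at h1
      rw [h1, h.invp h.t.hr]
    have h3 := h.f_conj_r hf hfq hw h2
    have h4 := h.u_conj hw
    rw [h2] at h4
    have hff := h.E_sq he
    have hrf := h.fix_of_centV (mem_EE.mp hf).1 h.t.hr.1
    have hqw := h.vcomm h.t.hq.1 hwD
    have h5 : (f * (q * (a * bb g a * cc g a))) * w * (f * (q * (a * bb g a * cc g a)))⁻¹ = q * w := by
      calc (f * (q * (a * bb g a * cc g a))) * w * (f * (q * (a * bb g a * cc g a)))⁻¹ =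
            f * ((q * (a * bb g a * cc g a)) * w * (q * (a * bb g a * cc g a))⁻¹) * f⁻¹ := by group
        _ = f * (r * w) * f⁻¹ := by rw [h4]
        _ = (f * r * f⁻¹) * (f * w * f⁻¹) := by group
        _ = r * (p * w) := by rw [hrf, h3]
        _ = q * w := by rw [← mul_assoc, h.mrp]
    apply h.t.hp.2
    set y := f * (q * (a * bb g a * cc g a)) with hy
    have : w * y * (w * y) = q * r := by
      calc w * y * (w * y) = w * (y * w * y⁻¹) * (y * y) := by group
        _ = (w * q) * w := by rw [h5, hff]; group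
        _ = q * (w * w) := by rw [← hqw]; group
        _ = q * r := by rw [hww, h2]
    rw [hdd, h.mqr] at this
    exact this.symm

/-- an involution of `C_G(p)` commuting with an element of order 3 of `C_G(p)` lies in `{1, p}` -/
theorem eq_of_comm {f c y : G} (hf : f ∈ EE V g) (hfq : dl f a = q) (hy : y ∈ C p) (hy3 : y ^ 3 = 1) (hy1 : y ≠ 1)
    (hc : c ∈ C p) (hcc : c * c = 1) (hcy : c * y = y * c) : c = 1 ∨ c = p := by
  have hp := h.t.hp
  have hq := h.t.hq
  have hpq := h.t.npq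
  have hpp := h.mpp
  have hyo : Odd (orderOf y) := Odd.of_dvd_nat (by decide : Odd 3) (orderOf_dvd_of_pow_eq_one hy3)
  have hyQ : y ∉ Q U C p := by
    intro hc'
    obtain ⟨n, hn⟩ := h.isPGroup_Q hp ⟨y, hc'⟩
    exact hy1 (eq_one_of_odd hyo (congrArg Subtype.val hn))
  have hm := h.mov_of_odd hp hy hyo hyQ
  have hqU := h.p_mem hq hp
  have hq1 : ¬ Cg p q 1 := h.not_cg hq hpq
  have hyp := h.c_comm hp hy
  -- `c ∈ Q`
  have hcQ : c ∈ Q U C p := by
    obtain ⟨i, -, hi⟩ := h.exists_pow hp hq hpq hy hm hc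
    have hyi : y ^ i * c * y = y * (y ^ i * c) := by
      calc y ^ i * c * y = y ^ i * (c * y) := by group
        _ = y ^ i * (y * c) := by rw [hcy]
        _ = y * (y ^ i * c) := by rw [← mul_assoc, ← pow_succ, pow_succ']; group
    have hd : y ^ i * c ∈ Q U C p := by
      have hcd : y ^ i * c ∈ C p := mul_mem (pow_mem hy i) hc
      refine h.mem_Q_of_fix hp hcd hqU hq1 (h.conj_memU hp hy hqU) (h.conj_notCg hp hy hq1) (hm q hqU hq1) hi ?_
      have e1 : y ^ i * c * (y * q * y⁻¹) * (y ^ i * c)⁻¹ = y * (y ^ i * c * q * (y ^ i * c)⁻¹) * y⁻¹ := by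
        calc y ^ i * c * (y * q * y⁻¹) * (y ^ i * c)⁻¹ = (y ^ i * c * y) * q * (y ^ i * c * y)⁻¹ := by group
          _ = y * (y ^ i * c * q * (y ^ i * c)⁻¹) * y⁻¹ := by rw [hyi]; group
      rw [e1]
      exact hi.conj hyp
    have hcyi : c * y ^ i = y ^ i * c := (show Commute c y from hcy).pow_right i
    have h2 : y ^ i * y ^ i ∈ Q U C p := by
      have : y ^ i * y ^ i = (y ^ i * c) * (y ^ i * c) := by
        calc y ^ i * y ^ i = y ^ i * (y ^ i) * (c * c) := by rw [hcc, mul_one]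
          _ = y ^ i * (y ^ i * c) * c := by group
          _ = y ^ i * (c * y ^ i) * c := by rw [hcyi]
          _ = (y ^ i * c) * (y ^ i * c) := by group
      rw [this]
      exact mul_mem hd hd
    have h3 : y ^ i ∈ Q U C p := NTri.mem_of_sq_odd (Odd.of_dvd_nat hyo (orderOf_pow_dvd i)) h2
    have h4 := mul_mem (inv_mem h3) hd
    rwa [inv_mul_cancel_left] at h4
  -- `c ∈ K`
  set w := y * q * y⁻¹ with hw
  set x := y * w * y⁻¹ with hx
  have hwU : w ∈ U p := h.conj_memU hp hy hqU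
  have hxU : x ∈ U p := h.conj_memU hp hy hwU
  have hw1 : ¬ Cg p w 1 := h.conj_notCg hp hy hq1
  have hwq : ¬ Cg p w q := hm q hqU hq1
  have step : ∀ z : G, c * (y * z * y⁻¹) * c⁻¹ = y * (c * z * c⁻¹) * y⁻¹ := by
    intro z
    calc c * (y * z * y⁻¹) * c⁻¹ = (c * y) * z * (c * y)⁻¹ := by group
      _ = y * (c * z * c⁻¹) * y⁻¹ := by rw [hcy]; group
  have hypy : y * p * y⁻¹ = p := by rw [hyp, mul_inv_cancel_right]
  have hcq : c * q * c⁻¹ = q := by
    rcases ((h.mem_Q_iff' hp).mp hcQ).2 q hqU with e | e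
    · exact e
    · exfalso
      have e2 : c * w * c⁻¹ = p * w := by
        rw [hw, step, e]
        calc y * (p * q) * y⁻¹ = (y * p * y⁻¹) * (y * q * y⁻¹) := by group
          _ = p * (y * q * y⁻¹) := by rw [hypy]
      have e3 : c * x * c⁻¹ = p * x := by
        rw [hx, step, e2]
        calc y * (p * w) * y⁻¹ = (y * p * y⁻¹) * (y * w * y⁻¹) := by group
          _ = p * (y * w * y⁻¹) := by rw [hypy]
      have hcp : c * p * c⁻¹ = p := by rw [h.c_comm hp hc, mul_inv_cancel_right]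
      have hqw : c * (q * w) * c⁻¹ = q * w := by
        calc c * (q * w) * c⁻¹ = (c * q * c⁻¹) * (c * w * c⁻¹) := by group
          _ = (p * q) * (p * w) := by rw [e, e2]
          _ = p * (q * p) * w := by group
          _ = p * (p * q) * w := by rw [h.commU hp hqU (h.p_mem hp hp)]
          _ = (p * p) * (q * w) := by group
          _ = q * w := by rw [hpp, one_mul]
      rcases h.mov_sq hp hy hm hqU hq1 with e4 | e4
      · rw [← hw, ← hx] at e4
        rw [e4, hqw] at e3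
        exact hp.2 (mul_eq_right.mp e3.symm)
      · rw [← hw, ← hx] at e4
        have e5 : c * (p * (q * w)) * c⁻¹ = p * (q * w) := by
          calc c * (p * (q * w)) * c⁻¹ = (c * p * c⁻¹) * (c * (q * w) * c⁻¹) := by group
            _ = p * (q * w) := by rw [hcp, hqw]
        rw [e4, e5] at e3
        exact hp.2 (mul_eq_right.mp e3.symm)
  have hcw : c * w * c⁻¹ = w := by rw [hw, step, hcq]
  have hcK : c ∈ K U p := by
    refine mem_centralizer_iff.mpr fun z hz => ?_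
    have hcp := h.c_comm hp hc
    have k1 : c * q = q * c := mul_inv_eq_iff_eq_mul.mp hcq
    have k2 : c * w = w * c := mul_inv_eq_iff_eq_mul.mp hcw
    have k3 : c * (q * w) = (q * w) * c := by
      calc c * (q * w) = (c * q) * w := (mul_assoc _ _ _).symm
        _ = q * (c * w) := by rw [k1]; exact mul_assoc _ _ _
        _ = (q * w) * c := by rw [k2]; exact (mul_assoc _ _ _).symm
    have fin : ∀ z', c * z' = z' * c → Cg p z z' → z * c = c * z := by
      intro z' hz' e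
      rcases e with rfl | rfl
      · exact hz'.symm
      · rw [mul_assoc, ← hz', ← mul_assoc, ← hcp, mul_assoc]
    rcases h.four hp hqU hq1 hwU hw1 hwq hz with e | e | e | e
    · exact fin 1 (by rw [mul_one, one_mul]) e
    · exact fin _ k1 e
    · exact fin _ k2 e
    · exact fin _ k3 e
  have hcU := h.mem_U_of_K hf hfq hcK hcc
  by_contra hcon
  push Not at hcon
  have hc1 : ¬ Cg p c 1 := by
    rintro (e | e)
    · exact hcon.1 e
    · exact hcon.2 (by rw [e, mul_one])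
  apply hm c hcU hc1
  left
  rw [← hcy, mul_inv_cancel_right]

/-- (C2) no involution of `E` is conjugate to `p` -/
theorem not_conj {f e x : G} (hC : C p = centralizer ({p} : Set G)) (hf : f ∈ EE V g) (hfq : dl f a = q)
    (he : e ∈ EE V g) (hx : x * p * x⁻¹ = e) : False := by
  have hu := h.u_E
  have hg3 := h.g3
  have hg1 := h.g_ne
  have key : ∀ e' ∈ EE V g, e' = 1 ∨ e' = e := by
    intro e' he'
    have mem : ∀ c : G, c * e = e * c → x⁻¹ * c * x ∈ C p := by
      intro c hc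
      rw [hC, mem_centralizer_singleton_iff]
      have hp' : p = x⁻¹ * e * x := by rw [← hx]; group
      rw [hp']
      calc x⁻¹ * c * x * (x⁻¹ * e * x) = x⁻¹ * (c * e) * x := by group
        _ = x⁻¹ * (e * c) * x := by rw [hc]
        _ = x⁻¹ * e * x * (x⁻¹ * c * x) := by group
    have hee : e' * e = e * e' := by
      have h1 := h.E_sq (mul_mem he' he)
      have h2 := h.E_sq he
      have h3 := h.E_sq he'
      calc e' * e = (e' * e)⁻¹ := (inv_eq_self h1).symm
        _ = e⁻¹ * e'⁻¹ := by group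
        _ = e * e' := by rw [inv_eq_self h2, inv_eq_self h3]
    have h1 := h.eq_of_comm hf hfq (y := x⁻¹ * g * x) (c := x⁻¹ * e' * x) (mem g (mem_EE.mp he).2.symm) ?_ ?_
      (mem e' hee) ?_ ?_
    · rcases h1 with h1 | h1
      · left
        calc e' = x * (x⁻¹ * e' * x) * x⁻¹ := by group
          _ = 1 := by rw [h1]; group
      · right
        calc e' = x * (x⁻¹ * e' * x) * x⁻¹ := by group
          _ = e := by rw [h1, hx]
    · have e1 : (x⁻¹ * g * x) ^ 3 = x⁻¹ * g ^ 3 * x := by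
        have := conj_pow (i := 3) (a := x⁻¹) (b := g)
        rwa [inv_inv] at this
      rw [e1, hg3]; group
    · intro e1
      apply hg1
      calc g = x * (x⁻¹ * g * x) * x⁻¹ := by group
        _ = 1 := by rw [e1]; group
    · calc x⁻¹ * e' * x * (x⁻¹ * e' * x) = x⁻¹ * (e' * e') * x := by group
        _ = 1 := by rw [h.E_sq he']; group
    · have e1 := (mem_EE.mp he').2
      calc x⁻¹ * e' * x * (x⁻¹ * g * x) = x⁻¹ * (e' * g) * x := by group
        _ = x⁻¹ * (g * e') * x := by rw [e1]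
        _ = x⁻¹ * g * x * (x⁻¹ * e' * x) := by group
  have f1 : f ≠ 1 := by
    intro e1
    rw [e1, h.dl_one] at hfq
    exact h.t.hq.2 hfq.symm
  have h1 := (key f hf).resolve_left f1
  have h2 := (key _ hu).resolve_left h.u_ne
  have h3 := h.u_dl.1
  rw [h2, ← h1, hfq] at h3
  exact h.t.npq h3.symm

open Cfsg.Agent.ClassificationK.GTwoModel Cfsg.Agent.ClassificationK.GTwoModel.T in
/-- the configuration of order 64 -/
theorem false64 [IsSimpleGroup G] (hc : IsCharacteristicTwoType G) (hC : C p = centralizer ({p} : Set G))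
    (P : Sylow 2 G) (hP : (P : Subgroup G) = normalizer (V : Set G) ⊓ centralizer ({p} : Set G))
    {A B u s : G} (h1 : Conf64 (normalizer (V : Set G) ⊓ centralizer ({p} : Set G))
      (normalizer (V : Set G)) A B u s g) (hA : A ∈ h.toNTri.W0) (dA : dl A a = q) (du : dl u a = p) : False := by
  rw [← hP] at h1
  obtain ⟨f, hinj, hrange, hfa, hfb, hfu, -⟩ := Cfsg.Agent.SectRankFour.C2.Fin64Iso.exists_hom h1
  have hzz : f (z 2) * f (z 2) = 1 := by
    rw [← map_mul, show z 2 * z 2 = (1 : T (2 * 2)) from by decide, map_one]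
  have hz1 : f (z 2) ≠ 1 := fun h => absurd (hinj (h.trans (map_one f).symm)) (by decide)
  have D : Cfsg.Agent.SectRankFour.C2.Fin64Core.Cen P f :=
    ⟨hinj, hrange, Cfsg.Agent.MinSimple.Basic.char2_centralizer hc (by rw [pow_two, hzz]) hz1⟩
  obtain ⟨c, hcz, hct, -⟩ := Cfsg.Agent.SectRankFour.C2.Fin64One.exists_c
    (Cfsg.Agent.SectRankFour.C2.Fin64Pat.one_class hc hinj hrange) D
  have AA : A * A = q := by rw [h.W0_sq hA, dA]
  have BB : B * B = r := by
    rw [← h1.xa, ← h.gq, ← AA]; group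
  have hfa' : f (a' 2) = q := by
    rw [show (a' 2 : T (2 * 2)) = ⟨1, 0, false, false⟩ * ⟨1, 0, false, false⟩ from by decide, map_mul, hfa, AA]
  have hfz : f (z 2) = p := by
    rw [show (z 2 : T (2 * 2)) = (⟨1, 0, false, false⟩ * ⟨1, 0, false, false⟩) *
      (⟨0, 1, false, false⟩ * ⟨0, 1, false, false⟩) from by decide, map_mul, map_mul, map_mul, hfa, hfb, AA, BB, h.mqr]
  rw [hfz] at hcz
  rw [hfu, hfa'] at hct
  have hcC : c ∈ C p := by rw [hC]; exact mem_centralizer_singleton_iff.mpr hcz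
  have h2 := h.conj_memU' h.t.hp hcC (h.p_mem h.t.hq h.t.hp)
  have e : c⁻¹ * q * c = u := by rw [← hct]; group
  rw [e] at h2
  apply h.t.hp.2
  rw [← du]
  exact h.dl_eq_one.mpr (h.commU h.t.hp h2 h.ha)

open Cfsg.Agent.SectRankFour.C2.FinAut in
/-- the configuration of order 128 -/
theorem false128 (hsimple : IsSimpleGroup G) (hC : C p = centralizer ({p} : Set G))
    (P : Sylow 2 G) (hP : (P : Subgroup G) = normalizer (V : Set G) ⊓ centralizer ({p} : Set G))
    {A B u f s : G} (h1 : Conf128 (normalizer (V : Set G) ⊓ centralizer ({p} : Set G))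
      (normalizer (V : Set G)) A B u f s g) (hA : A ∈ h.toNTri.W0) (hB : B ∈ h.toNTri.W0) (dA : dl A a = q)
    (dB : dl B a = r) (hu : u = q * (a * bb g a * cc g a)) (hf : f ∈ EE V g) (hfq : dl f a = q) : False := by
  have hf2 : Fact (Nat.Prime 2) := ⟨Nat.prime_two⟩
  have uE : u ∈ EE V g := by rw [hu]; exact h.u_E
  have hhom : ∀ φ : G →* ℤˣ, φ f = 1 := by
    intro φ
    rcases (MonoidHom.normal_ker φ).eq_bot_or_eq_top with h1' | h1'
    · exfalso
      have h2 : Nat.card G ≤ Nat.card ℤˣ :=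
        Nat.card_le_card_of_injective φ ((MonoidHom.ker_eq_bot_iff φ).mp h1')
      have h3 : Nat.card ℤˣ = 2 := by rw [Nat.card_eq_fintype_card]; rfl
      have h4 := card_le_card_group (normalizer (V : Set G) ⊓ centralizer ({p} : Set G))
      rw [h1.card] at h4
      omega
    · have h2 : f ∈ φ.ker := by rw [h1']; exact mem_top f
      exact h2
  set E := subE h1 with hE
  have hEp : IsPGroup 2 E := IsPGroup.of_card (n := 4) (by rw [hE, Cfsg.Agent.SectRankFour.C2.FinAut.card_E h1]; norm_num)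
  obtain ⟨k, hk1, hk2⟩ := SylowSp4.ExtTransfer.exists_extremal P (subM h1) (by rw [hP]; exact M_le h1)
    (by rw [hP]; exact relIndex_M h1) f (by rw [← pow_two]; exact h1.f2) hhom E hEp
    (fun r hr => E_comm h1 r hr f (f_mem_E h1))
  have hkE : E.map (MulAut.conj k).toMonoidHom = E := by
    refine eq_E h1 ?_ ?_ ?_ ?_
    · rintro _ ⟨e, he, rfl⟩
      have h1 : k * e * k⁻¹ ∈ (P : Subgroup G) := hk2 e he
      rwa [hP] at h1
    · rintro _ ⟨e, he, rfl⟩ _ ⟨e', he', rfl⟩
      rw [← map_mul, ← map_mul, E_comm h1 e he e' he']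
    · rintro _ ⟨e, he, rfl⟩
      rw [← map_mul, Cfsg.Agent.SectRankFour.C2.FinAut.E_sq h1 e he, map_one]
    · rw [card_map_of_injective (MulAut.conj k).injective, hE, Cfsg.Agent.SectRankFour.C2.FinAut.card_E h1]
  have hkN : ∀ y ∈ E, k * y * k⁻¹ ∈ E := by
    intro y hy
    have : (MulAut.conj k).toMonoidHom y ∈ E.map (MulAut.conj k).toMonoidHom := ⟨y, hy, rfl⟩
    rwa [hkE] at this
  have AA : A * A = q := by rw [h.W0_sq hA, dA]
  have BB : B * B = r := by rw [h.W0_sq hB, dB]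
  have A2 : A ^ 2 = q := by rw [pow_two, AA]
  have B2 : B ^ 2 = r := by rw [pow_two, BB]
  -- the elements of `E`
  have formE : ∀ y ∈ E, ∃ v ∈ V, ∃ e ∈ EE V g, y = v * e := by
    rintro _ ⟨n, hn, hn1, rfl⟩
    simp only [isE, Bool.and_eq_true, beq_iff_eq] at hn1
    obtain ⟨⟨h1', h2⟩, h3⟩ := hn1
    have e1 : n % 4 = 2 * (n % 4 / 2) := by omega
    have e2 : n / 4 % 4 = 2 * (n / 4 % 4 / 2) := by omega
    have e3 : Cfsg.Agent.SectRankFour.C2.FinAut.psi A B u f s n = A ^ (n % 4) * B ^ (n / 4 % 4) * u ^ (n / 16 % 2) *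
        f ^ (n / 32 % 2) := by
      simp only [Cfsg.Agent.SectRankFour.C2.FinAut.psi, Cfsg.Agent.SectRankFour.C2.FinAut.phi, dec, h3, pow_zero,
        mul_one]
    refine ⟨A ^ (n % 4) * B ^ (n / 4 % 4), ?_, u ^ (n / 16 % 2) * f ^ (n / 32 % 2),
      mul_mem (pow_mem uE _) (pow_mem hf _), by rw [e3, mul_assoc _ (u ^ _)]⟩
    rw [e1, e2, pow_mul, pow_mul, A2, B2]
    exact mul_mem (pow_mem h.t.hq.1 _) (pow_mem h.t.hr.1 _)
  have hVE : V ≤ E := by
    intro v hv
    have hq' : q ∈ E := by rw [← A2]; exact aa_mem h1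
    have hr' : r ∈ E := by rw [← B2]; exact bb_mem h1
    rcases h.mem_V' h.t hv with rfl | rfl | rfl | rfl
    · exact one_mem _
    · rw [← h.mqr]; exact mul_mem hq' hr'
    · exact hq'
    · exact hr'
  -- the points are conjugate to `p`
  have hpt : ∀ v ∈ V, v ≠ 1 → ∃ n : G, n * p * n⁻¹ = v := by
    intro v hv hv1
    rcases h.mem_V' h.t hv with rfl | rfl | rfl | rfl
    · exact absurd rfl hv1
    · exact ⟨1, by group⟩
    · exact ⟨g, h.gp⟩
    · exact ⟨g * g, by
        have e : g * g * p * (g * g)⁻¹ = g * (g * p * g⁻¹) * g⁻¹ := by group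
        rw [e, h.gp, h.gq]⟩
  have hkV : ∀ v ∈ V, k * v * k⁻¹ ∈ V := by
    intro v hv
    by_cases hv1 : v = 1
    · rw [hv1]
      have : k * 1 * k⁻¹ = 1 := by group
      rw [this]; exact one_mem V
    obtain ⟨n, hn⟩ := hpt v hv hv1
    obtain ⟨v', hv', e, he, h2⟩ := formE _ (hkN v (hVE hv))
    by_cases he1 : e = 1
    · rw [h2, he1, mul_one]; exact hv'
    exfalso
    obtain ⟨w, hw⟩ := h.exists_conj_VE hf hfq he he1 hv'
    refine h.not_conj (x := w * k * n) hC hf hfq he ?_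
    calc w * k * n * p * (w * k * n)⁻¹ = w * (k * (n * p * n⁻¹) * k⁻¹) * w⁻¹ := by group
      _ = w * (v' * e) * w⁻¹ := by rw [hn, h2]
      _ = e := by rw [← hw]; group
  have hkNV : k ∈ normalizer (V : Set G) := by
    refine mem_normalizer_of hkV fun v hv => ?_
    have hfin : Finite V := inferInstance
    have hmap : V.map (MulAut.conj k).toMonoidHom = V := by
      refine Subgroup.eq_of_le_of_card_ge ?_ ?_
      · rintro _ ⟨y, hy, rfl⟩
        exact hkV y hy
      · rw [card_map_of_injective (MulAut.conj k).injective]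
    rw [← hmap] at hv
    obtain ⟨y, hy, rfl⟩ := hv
    have e : k⁻¹ * (MulAut.conj k).toMonoidHom y * k = y := by
      show k⁻¹ * (k * y * k⁻¹) * k = y
      group
    rw [e]; exact hy
  -- conclusion
  have hfW : k * f * k⁻¹ ∈ WW V U := by
    have h2 : k * f * k⁻¹ ∈ subWu h1 := invQ_le h1 (inf_le_invQ h1 ⟨hkN f (f_mem_E h1), hk1⟩)
    obtain ⟨n, hn, hn1, h3⟩ := h2
    simp only [isWu, Bool.and_eq_true, beq_iff_eq] at hn1
    have e3 : Cfsg.Agent.SectRankFour.C2.FinAut.psi A B u f s n =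
        A ^ (n % 4) * B ^ (n / 4 % 4) * u ^ (n / 16 % 2) := by
      simp only [Cfsg.Agent.SectRankFour.C2.FinAut.psi, Cfsg.Agent.SectRankFour.C2.FinAut.phi, dec, hn1.1, hn1.2,
        pow_zero, mul_one]
    rw [← h3, e3]
    exact mul_mem (mul_mem (pow_mem hA.1 _) (pow_mem hB.1 _)) (pow_mem (by rw [hu]; exact h.u_mem) _)
  have hfW' : f ∈ WW V U := by
    have h2 := conj_mem_of_normalizer' h.norm_W hkNV hfW
    have e : k⁻¹ * (k * f * k⁻¹) * k = f := by group
    rwa [e] at h2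
  rcases h.W_cases hfW' with h2 | h2
  · have h3 := h.W0_inf_E h2 hf
    rw [h3, h.dl_one] at hfq
    exact h.t.hq.2 hfq.symm
  · have h3 := h.W0_inf_E h2 (mul_mem hf h.u_E)
    have h4 := h.dmul_a (mem_EE.mp hf).1 (mem_EE.mp h.u_E).1
    rw [h3, h.dl_one, hfq, h.u_dl.1, h.mqp] at h4
    exact h.t.hr.2 h4.symm

end Fr

/-- **The natural block is impossible.** -/
theorem false_of_NTri [IsSimpleGroup G] (hc : IsCharacteristicTwoType G) {V : Subgroup G} {U C : G → Subgroup G}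
    (h : NTri V U C) {p : G} (hp : Pt V p) (hC : C p = centralizer ({p} : Set G))
    (P : Sylow 2 G) (hP : (P : Subgroup G) = normalizer (V : Set G) ⊓ centralizer ({p} : Set G)) : False := by
  obtain ⟨q, hq, hpq⟩ := h.exists_other hp
  have t := h.tr hp hq hpq
  obtain ⟨a, ha, haV⟩ := h.exists_notMem hp
  obtain ⟨g, fr⟩ := h.exists_frame t ha haV
  rcases fr.exists_conf with ⟨A, B, u, s, h1, h2, h3, h4⟩ | ⟨A, B, u, f, s, h1, h2, h3, h4, h5, h6, h7, h8, -, -⟩
  · exact fr.false64 hc hC P hP h1 h2 h3 h4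
  · exact fr.false128 inferInstance hC P hP h1 h2 h3 h4 h5 h6 h7 h8

end Cfsg.Agent.OddCyclic.EO.NTri
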