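import Cfsg.Agent.OddCyclic.EO.OneOf

/-!
# `n = 1`: the trichotomy
-/

set_option autoImplicit false
set_option linter.unusedSectionVars false
set_option linter.style.haveILetI false

namespace Cfsg.Agent.OddCyclic.EO.Tri

open Subgroup Cfsg Cfsg.Agent.ZN Cfsg.Agent.MinSimple.Geo Cfsg.Agent.OddCyclic.GeoC Cfsg.Agent.OddCyclic.BTwoA
  Cfsg.Agent.OddCyclic.EO.Line Cfsg.Agent.OddCyclic.EO.Base Cfsg.Agent.OddCyclic.EO.RepM
  Cfsg.Agent.OddCyclic.EO.Fit Cfsg.Agent.OddCyclic.EO.FitB Cfsg.Agent.OddCyclic.EO.FitC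
  Cfsg.Agent.OddCyclic.EO.Sit Cfsg.Agent.OddCyclic.EO.Two Cfsg.Agent.OddCyclic.EO.One
  Cfsg.Agent.OddCyclic.EO.OneOf
open Cfsg.Agent.ZN.Block (conj_mem_of_normalizer conj_mem_of_normalizer' le_normalizer_of_forall
  mem_normalizer_of)

universe u

variable {G : Type u} [Group G] [Finite G] {T V : Subgroup G} {z x y : G}

/-- each point of `V` is as good as `z` -/
theorem One.point (h : One T V z) {p : G} (hp : p ∈ V) (hp1 : p ≠ 1) : ∃ T' : Subgroup G, One T' V p := by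
  obtain ⟨g, hg, rfl, h1⟩ := h.toGeoC.point hp hp1
  have h2 := h.conj g
  rw [cj_eq_of_mem_normalizer hg] at h2
  exact ⟨_, h2⟩

variable {M X : Type u} [AddCommGroup M] [Group X] [DistribMulAction X M]

/-- the situation at `z` with respect to the point `y ∈ V` and `b ∈ V_y ∖ K_z` -/
structure St (h : One T V z) (R : Rep V z M X) (y b : G) (F A : Subgroup X) (N0 : AddSubgroup M) : Prop where
  amb : Amb M F A
  good : Good F A (⊤ : AddSubgroup M) (R.pi y)
  cent : centralizer (F : Set X) ≤ F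
  mem : R.rho b ∈ A
  ne : R.rho b ≠ 1
  hN : ∀ m : M, m ∈ N0 ↔ ∃ w ∈ ws V z, w ∈ kq V y ∧ R.pi w = m
  card : Nat.card M = Nat.card N0 * 2
  act : ∀ n ∈ N0, R.rho b • n = n ∨ R.rho b • n = n + R.pi y

theorem exists_st (h : One T V z) (R : Rep V z M X) (hy : y ∈ V) (hy1 : y ≠ 1) (hyz : y ≠ z) {b : G}
    (hb : b ∈ ws V y) (hbk : b ∉ kq V z) : ∃ (F A : Subgroup X) (N0 : AddSubgroup M), St h R y b F A N0 := by
  have hcol : Col V z y := Base.col_of_mem h.toGeoC h.z_mem hy h.z_ne hy1 (Ne.symm hyz)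
  have hyp : Pt z y := hcol.pt h.toGeoC
  haveI : Finite M := R.finite_left
  haveI : Finite X := R.finite_right
  obtain ⟨F, hFn, hFc, hFo, hFcent, horb⟩ := exists_F h.toOdd R
  have hle : ws V y ≤ centralizer ({z} : Set G) := ws_le_cent h.toOdd hcol
  set A := R.img (ws V y) with hA
  have hsq : ∀ a ∈ A, a * a = 1 := by
    intro a ha
    obtain ⟨b, hb, rfl⟩ := (R.mem_img hle).mp ha
    rw [← R.rho_mul b (hle hb) b (hle hb), Base.ws_sq h.toOdd hyp hb, R.rho_one]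
  have hab : ∀ a ∈ A, ∀ b ∈ A, a * b = b * a := by
    intro a ha b hb
    obtain ⟨c, hc, rfl⟩ := (R.mem_img hle).mp ha
    obtain ⟨d, hd, rfl⟩ := (R.mem_img hle).mp hb
    rw [← R.rho_mul c (hle hc) d (hle hd), ← R.rho_mul d (hle hd) c (hle hc), Base.ws_comm h.toOdd hyp hc hd]
  have hcfix : ∀ b ∈ ws V y, ∀ w ∈ ws V z, w ∈ ws V y → R.rho b • R.pi w = R.pi w := by
    intro b hb w hw hwy
    rw [R.smul_pi b (hle hb) w hw, Base.ws_comm h.toOdd hyp hb hwy, mul_inv_cancel_right]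
  have hfix : ∀ a ∈ A, a • R.pi y = R.pi y := by
    intro a ha
    obtain ⟨b, hb, rfl⟩ := (R.mem_img hle).mp ha
    exact hcfix b hb y hcol.mem_ws (self_mem_ws h.toGeoC hyp)
  obtain ⟨hamb, hgood⟩ := amb_good h.toOdd R hFn hFc hFo horb hy hy1 hyz hab hsq hfix
  have hU : ws V z ⊓ kq V y ≤ ws V z := inf_le_left
  have hzU : z ∈ ws V z ⊓ kq V y := ⟨h.V_le_ws h.z_mem, ws_le_kq h.toOdd hyp hcol.symm.mem_ws⟩
  have hcN := card_push h.toOdd (Pt.refl z) R hU hzU
  have hcM := card_M h.toOdd (Pt.refl z) R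
  have hrel : (kq V y).relIndex (ws V z) * Nat.card ↥(ws V z ⊓ kq V y) = Nat.card (ws V z) := by
    have h4 := Subgroup.index_mul_card ((kq V y).subgroupOf (ws V z))
    rw [← h4]
    congr 1
    refine Nat.card_congr
      { toFun := fun a => ⟨⟨a, a.2.1⟩, a.2.2⟩
        invFun := fun a => ⟨((a : ws V z) : G), (a : ws V z).2, a.2⟩
        left_inv := fun _ => rfl
        right_inv := fun _ => rfl }
  rw [h.k1 y z hyp hcol.symm] at hrel
  refine ⟨F, A, push R (ws V z ⊓ kq V y) hU, ⟨hamb, hgood, hFcent, R.rho_mem_img hle hb, ?_, ?_, ?_, ?_⟩⟩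
  · rw [Ne, Rep.rho_eq_one R (hle hb)]; exact hbk
  · intro m
    constructor
    · rintro ⟨w, hw, e⟩; exact ⟨w, hw.1, hw.2, e⟩
    · rintro ⟨w, hw, hw2, e⟩; exact ⟨w, ⟨hw, hw2⟩, e⟩
  · omega
  · rintro _ ⟨w, hw, rfl⟩
    have two := Rep.two h.toOdd (Pt.refl z) R
    have toTv : ∀ {n m : M}, R.rho b • m + m = n → R.rho b • m = m + n := by
      intro n m e
      rw [← e, add_comm (R.rho b • m) m, ← add_assoc, two, zero_add]
    rcases h.smul_add_of_mem R hcol hb hw.1 hw.2 with e | e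
    · left
      rw [toTv e, add_zero]
    · right
      exact toTv e

end Cfsg.Agent.OddCyclic.EO.Tri
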