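import Mathlib
import Cfsg.Agent.OddCyclic.EO.NFalse
import Cfsg.Agent.OddCyclic.EO.Tri
import Cfsg.Agent.OddCyclic.BTwoEndC
import Cfsg.Agent.MinSimple.Basic

/-!
# `n = 1`, `|V_z| = 8`: contradiction
-/

set_option autoImplicit false
set_option linter.unusedSectionVars false
set_option linter.style.haveILetI false

namespace Cfsg.Agent.OddCyclic.EO.NOf

open Subgroup Cfsg Cfsg.Agent.ZN Cfsg.Agent.MinSimple.Geo Cfsg.Agent.OddCyclic.GeoC Cfsg.Agent.OddCyclic.BTwoA
  Cfsg.Agent.OddCyclic.EO.Line Cfsg.Agent.OddCyclic.EO.Base Cfsg.Agent.OddCyclic.EO.RepM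
  Cfsg.Agent.OddCyclic.EO.Fit Cfsg.Agent.OddCyclic.EO.FitB Cfsg.Agent.OddCyclic.EO.FitC
  Cfsg.Agent.OddCyclic.EO.Sit Cfsg.Agent.OddCyclic.EO.Two Cfsg.Agent.OddCyclic.EO.One
  Cfsg.Agent.OddCyclic.EO.OneOf Cfsg.Agent.OddCyclic.EO.Tri
open Cfsg.Agent.ZN.Block (conj_mem_of_normalizer conj_mem_of_normalizer' le_normalizer_of_forall
  mem_normalizer_of card_mul_relIndex')
open Cfsg.Agent.Classification.TitsFin.Tri (kst)

universe u

variable {G : Type u} [Group G] [Finite G] {T V : Subgroup G} {z x y : G}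

/-- `Tri.Pt` -/
abbrev PtV (V : Subgroup G) (p : G) : Prop := Cfsg.Agent.Classification.TitsFin.Tri.Pt V p

theorem exists_swap2 (h : Odd T V z) {p q : G} (hp : p ∈ V) (hq : q ∈ V) (hp1 : p ≠ 1) (hq1 : q ≠ 1)
    (hpq : p ≠ q) : ∃ n ∈ normalizer (V : Set G), n * p * n⁻¹ = q ∧ n * q * n⁻¹ = p := by
  obtain ⟨w, hw, h1, h2⟩ := h.exists_move hp hq hp1 hq1 hpq
  refine ⟨w, ?_, h1, h2⟩
  have hpq1 : p * q ≠ 1 := fun e => hpq (by
    have := mul_eq_one_iff_eq_inv.mp e
    rwa [h.inv_eq hq] at this)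
  obtain ⟨T', h'⟩ := h.point (mul_mem hp hq) hpq1
  exact kq_le_normalizer h'.toGeoC hw

theorem sym (h : Odd T V z) {p q p' q' : G} (hp : PtV V p) (hq : PtV V q) (hpq : p ≠ q) (hp' : PtV V p')
    (hq' : PtV V q') (hpq' : p' ≠ q') : ∃ n ∈ normalizer (V : Set G), n * p * n⁻¹ = p' ∧ n * q * n⁻¹ = q' := by
  obtain ⟨n1, hn1, h1⟩ : ∃ n1 ∈ normalizer (V : Set G), n1 * p * n1⁻¹ = p' := by
    by_cases e : p = p'
    · exact ⟨1, one_mem _, by rw [e]; group⟩
    · obtain ⟨n, hn, h1, -⟩ := exists_swap2 h hp.1 hp'.1 hp.2 hp'.2 e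
      exact ⟨n, hn, h1⟩
  obtain ⟨q1, hq1⟩ : ∃ q1, q1 = n1 * q * n1⁻¹ := ⟨_, rfl⟩
  have hq1V : q1 ∈ V := by rw [hq1]; exact (mem_normalizer_iff.mp hn1 q).mp hq.1
  have hq11 : q1 ≠ 1 := by
    rw [hq1]; intro e
    apply hq.2
    have : q = n1⁻¹ * (n1 * q * n1⁻¹) * n1 := by group
    rw [this, e]; group
  have hq1p : q1 ≠ p' := by
    rw [hq1, ← h1]; intro e
    apply hpq
    have e1 : p = n1⁻¹ * (n1 * p * n1⁻¹) * n1 := by group
    have e2 : q = n1⁻¹ * (n1 * q * n1⁻¹) * n1 := by group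
    rw [e1, e2, e]
  by_cases e : q1 = q'
  · exact ⟨n1, hn1, h1, by rw [← hq1, e]⟩
  · obtain ⟨n2, hn2, h2, h3⟩ := exists_swap2 h hq1V hq'.1 hq11 hq'.2 e
    have h4 : p' = q1 * q' := by
      rcases h.four hq1V hq'.1 hq11 hq'.2 e hp'.1 with e1 | e1 | e1 | e1
      · exact absurd e1 hp'.2
      · exact absurd e1.symm hq1p
      · exact absurd e1 hpq'
      · exact e1
    refine ⟨n2 * n1, mul_mem hn2 hn1, ?_, ?_⟩
    · calc n2 * n1 * p * (n2 * n1)⁻¹ = n2 * (n1 * p * n1⁻¹) * n2⁻¹ := by group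
        _ = n2 * (q1 * q') * n2⁻¹ := by rw [h1, h4]
        _ = (n2 * q1 * n2⁻¹) * (n2 * q' * n2⁻¹) := by group
        _ = q' * q1 := by rw [h2, h3]
        _ = p' := by rw [h4, h.comm hq1V hq'.1]
    · calc n2 * n1 * q * (n2 * n1)⁻¹ = n2 * (n1 * q * n1⁻¹) * n2⁻¹ := by group
        _ = q' := by rw [← hq1, h2]

/-- the other point -/
theorem col_of_points (h : Odd T V z) {p q : G} (hp : PtV V p) (hq : PtV V q) (hpq : p ≠ q) : Col V p q :=
  Base.col_of_mem h.toGeoC hp.1 hq.1 hp.2 hq.2 hpq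

theorem nc (h : One T V z) {p q : G} (hp : PtV V p) (hq : PtV V q) (hpq : p ≠ q) :
    ∃ a ∈ ws V p, ∃ b ∈ ws V q, a * b ≠ b * a := by
  have hc := col_of_points h.toOdd hp hq hpq
  obtain ⟨b, hb, hbk⟩ := h.exists_not_mem hc
  by_contra hcon
  push Not at hcon
  apply hbk
  refine ⟨ws_le_cent h.toOdd hc hb, fun w hw => ?_, fun w hw => ?_⟩
  · have : b * w * b⁻¹ * w⁻¹ = 1 := by rw [← hcon w hw b hb]; group
    rw [this]; exact one_mem _
  · have : b⁻¹ * w * b * w⁻¹ = 1 := by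
      calc b⁻¹ * w * b * w⁻¹ = b⁻¹ * (w * b) * w⁻¹ := by group
        _ = 1 := by rw [hcon w hw b hb]; group
    rw [this]; exact one_mem _

/-- the 3-element at `z` -/
theorem exists_three (h : One T V z) (h8 : Nat.card (ws V z) = 8) :
    ∃ c ∈ centralizer ({z} : Set G), (∃ n : ℕ, c ^ 3 ^ n = 1) ∧ c ∉ kq V z := by
  obtain ⟨y, hy, hy1, hyz⟩ := h.exists_y
  have hcol : Col V z y := Base.col_of_mem h.toGeoC h.z_mem hy h.z_ne hy1 (Ne.symm hyz)
  obtain ⟨M, X, _, _, _, ⟨R⟩⟩ := exists_rep h.toOdd (Pt.refl z)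
  haveI : Finite M := R.finite_left
  haveI : Finite X := R.finite_right
  obtain ⟨b, hb, hbk⟩ := h.exists_not_mem hcol
  obtain ⟨F, A, N0, st⟩ := exists_st h R hy hy1 hyz hb hbk
  have hM : Nat.card M = 4 := by
    have := card_M h.toOdd (Pt.refl z) R
    omega
  rcases tri st.amb st.good R.faithful st.mem st.ne st.card.le st.act with ⟨g, -, -, hg3, -, -⟩ | ⟨h16, -⟩
  · obtain ⟨c, hc, hcg, k, hk⟩ := R.exists_lift Nat.prime_three (g := g) (k := 1)
      (by rw [pow_one]; rw [← hg3]; exact pow_orderOf_eq_one g)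
    refine ⟨c, hc, ⟨k, hk⟩, fun hck => ?_⟩
    rw [← Rep.rho_eq_one R hc, hcg] at hck
    rw [hck, orderOf_one] at hg3
    omega
  · omega

/-- **from the geometry to `NTri`** -/
theorem ntri (h : One T V z) (h8 : Nat.card (ws V z) = 8) :
    NTri.NTri V (ws V) (fun p => centralizer ({p} : Set G)) where
  cardV := h.card_V
  sqV := h.sq
  cardU := by
    intro p hp
    exact TwoEight.card8 h.toOdd h8 (Base.pt_of_mem h.toGeoC hp.1 hp.2)
  sqU := by
    intro p hp u hu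
    obtain ⟨T', h'⟩ := h.toOdd.point hp.1 hp.2
    exact h'.ws_sq hu
  V_le := by
    intro p hp
    obtain ⟨T', h'⟩ := h.toOdd.point hp.1 hp.2
    exact h'.V_le_ws
  C_le := fun p _ => le_rfl
  C_norm := fun p _ => Cfsg.Agent.MinSimple.Geo.centralizer_le_normalizer_ws V p
  le_C := fun p _ => inf_le_right
  sym := fun p q p' q' hp hq hpq hp' hq' hpq' => sym h.toOdd hp hq hpq hp' hq' hpq'
  conjU := by
    intro n hn p _
    rw [cj_ws]
  conjC := by
    intro n hn p _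
    rw [cj_centralizer_singleton]
  three := by
    intro p hp
    obtain ⟨T', h'⟩ := One.point h hp.1 hp.2
    have h8' : Nat.card (ws V p) = 8 := by
      exact TwoEight.card8 h.toOdd h8 (Base.pt_of_mem h.toGeoC hp.1 hp.2)
    obtain ⟨c, hc, hk, hck⟩ := exists_three h' h8'
    exact ⟨c, hc, hk, fun e => hck ⟨e.1, e.2.2.1, e.2.2.2⟩⟩
  nc := fun p q hp hq hpq => nc h hp hq hpq
  core := by
    intro p hp R hR hN hC
    obtain ⟨T', h'⟩ := h.toOdd.point hp.1 hp.2
    exact h'.core R hR hN hC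
  char2 := by
    intro p hp
    obtain ⟨T', h'⟩ := h.toOdd.point hp.1 hp.2
    exact Cfsg.Agent.MinSimple.Basic.char2_centralizer h.charTwo (by rw [pow_two]; exact h'.zz) h'.z_ne
  soc := by
    intro p hp X hX hX2 hX1 hXn
    obtain ⟨T', h'⟩ := h.toOdd.point hp.1 hp.2
    have hT'P : T' ≤ normalizer (V : Set G) ⊓ centralizer ({p} : Set G) := le_inf h'.T_norm h'.T_le
    have hT's : ¬ 2 ∣ T'.relIndex (normalizer (V : Set G) ⊓ centralizer ({p} : Set G)) := by
      intro hd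
      apply h'.T_syl
      rw [← relIndex_mul_relIndex _ _ _ hT'P (inf_le_right)]
      exact Dvd.dvd.mul_right hd _
    exact BTwoB.z_mem_of_le h'.toGeoC ((Cfsg.Agent.MinSimple.VModule.le_o2 hX hX2 hXn).trans
      (Cfsg.Agent.MinSimple.VModule.o2_le_of_sylow h'.two hT's)) (hT'P.trans hXn) hX1

/-- a 2-group `N_G(V) ∩ C_G(z)` is a Sylow 2-subgroup -/
theorem exists_sylow (h : GeoC T V z)
    (hS : IsPGroup 2 (normalizer (V : Set G) ⊓ centralizer ({z} : Set G) : Subgroup G)) :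
    ∃ P : Sylow 2 G, (P : Subgroup G) = normalizer (V : Set G) ⊓ centralizer ({z} : Set G) := by
  haveI : Fact (Nat.Prime 2) := ⟨Nat.prime_two⟩
  obtain ⟨P, hP⟩ := BTwoEndC.exists_sylow h
  have h1 : T ≤ normalizer (V : Set G) ⊓ centralizer ({z} : Set G) := le_inf h.T_norm h.T_le
  exact ⟨P, (P.is_maximal' hS (by rw [hP]; exact h1)).symm⟩

/-- **`|V_z| = 8` is impossible for `n = 1`.** -/
theorem false_of_eight [IsSimpleGroup G] (h : One T V z) (h8 : Nat.card (ws V z) = 8) : False := by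
  have hN := ntri h h8
  have hz : PtV V z := ⟨h.z_mem, h.z_ne⟩
  have hS : IsPGroup 2 (normalizer (V : Set G) ⊓ centralizer ({z} : Set G) : Subgroup G) := by
    have h1 := hN.isPGroup_centV' hz
    -- squares of elements of `N_G(V) ∩ C_G(z)` centralize `V`
    rintro ⟨g, hg⟩
    have hgg : g * g ∈ centralizer (V : Set G) := by
      have hgz : g * z * g⁻¹ = z := by rw [mem_centralizer_singleton_iff.mp hg.2, mul_inv_cancel_right]
      obtain ⟨y, hy, hy1, hyz⟩ := h.exists_y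
      have hgy : g * (g * y * g⁻¹) * g⁻¹ = y := by
        have hm : g * y * g⁻¹ ∈ V := conj_mem_of_normalizer le_rfl hg.1 hy
        have hne1 : g * y * g⁻¹ ≠ 1 := by
          intro e; apply hy1
          calc y = g⁻¹ * (g * y * g⁻¹) * g := by group
            _ = 1 := by rw [e]; group
        have hnez : g * y * g⁻¹ ≠ z := by
          intro e; apply hyz
          calc y = g⁻¹ * (g * y * g⁻¹) * g := by group
            _ = g⁻¹ * (g * z * g⁻¹) * g := by rw [e, hgz]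
            _ = z := by group
        rcases h.four h.z_mem hy h.z_ne hy1 (Ne.symm hyz) hm with e | e | e | e
        · exact absurd e hne1
        · exact absurd e hnez
        · rw [e, e]
        · rw [e]
          calc g * (z * y) * g⁻¹ = (g * z * g⁻¹) * (g * y * g⁻¹) := by group
            _ = z * (z * y) := by rw [hgz, e]
            _ = y := by rw [← mul_assoc, h.zz, one_mul]
      have hggz : g * g * z = z * (g * g) := by
        have := mem_centralizer_singleton_iff.mp hg.2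
        rw [mul_assoc, this, ← mul_assoc, this, mul_assoc]
      have hggy : g * g * y = y * (g * g) := by
        calc g * g * y = (g * (g * y * g⁻¹) * g⁻¹) * (g * g) := by group
          _ = y * (g * g) := by rw [hgy]
      refine mem_centralizer_iff.mpr fun v hv => ?_
      rcases h.four h.z_mem hy h.z_ne hy1 (Ne.symm hyz) hv with e | e | e | e
      · rw [e, one_mul, mul_one]
      · rw [e]; exact hggz.symm
      · rw [e]; exact hggy.symm
      · rw [e, mul_assoc, ← hggy, ← mul_assoc, ← hggz, mul_assoc]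
    obtain ⟨n, hn⟩ := h1 ⟨g * g, hgg⟩
    refine ⟨n + 1, Subtype.ext ?_⟩
    have hn' : (g * g) ^ 2 ^ n = 1 := congrArg Subtype.val hn
    show g ^ 2 ^ (n + 1) = 1
    rw [pow_succ', pow_mul, pow_two, hn']
  obtain ⟨P, hP⟩ := exists_sylow h.toGeoC hS
  exact NTri.false_of_NTri h.charTwo hN hz rfl P hP

end Cfsg.Agent.OddCyclic.EO.NOf
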