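import Mathlib
import Cfsg.Agent.OddCyclic.EO.Line

/-!
# (E1) with `|V| = 4` and `b` odd: distance, critical pairs

* `Pt z x`: `x` is a point; `Col V x y`: distinct collinear points; `Walk V n x y`: distance at most `n`;
* `OddN T V z n`: `n` is the least distance of points `x`, `y` with `[ws V x, ws V y] ≠ 1`;
* `exists_n`; `Crit V z n x y`: critical pairs; `tt V j r`: generated by the `ws V w`, `w` at distance at most `j`
  from `r` (`(T)` of helper424's row 3049).
-/

set_option autoImplicit false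
set_option linter.unusedSectionVars false

namespace Cfsg.Agent.OddCyclic.EO.Base

open Subgroup Cfsg Cfsg.Agent.ZN Cfsg.Agent.MinSimple.Geo Cfsg.Agent.OddCyclic.GeoC Cfsg.Agent.OddCyclic.BTwoA
  Cfsg.Agent.OddCyclic.EO.Line
open Cfsg.Agent.ZN.Block (conj_mem_of_normalizer conj_mem_of_normalizer' le_normalizer_of_forall
  mem_normalizer_of)

universe u

variable {G : Type u} [Group G]

/-! ### points, collinearity, distance -/

/-- the points: conjugates of `z` -/
def Pt (z x : G) : Prop := ∃ g : G, x = g * z * g⁻¹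

/-- `x` and `y` are distinct collinear points -/
def Col (V : Subgroup G) (x y : G) : Prop := x ≠ 1 ∧ y ≠ 1 ∧ x ≠ y ∧ ∃ L ∈ lines V x, y ∈ L

/-- the distance of `x` and `y` is at most `n` -/
def Walk (V : Subgroup G) : ℕ → G → G → Prop
  | 0, x, y => x = y
  | n + 1, x, y => ∃ w, Walk V n x w ∧ (w = y ∨ Col V w y)

theorem conj_ne_one {g x : G} (hx : x ≠ 1) : g * x * g⁻¹ ≠ 1 := fun e => hx (by
  have : x = g⁻¹ * (g * x * g⁻¹) * g := by group
  rw [this, e]; group)

theorem conj_inj {g x y : G} (h : g * x * g⁻¹ = g * y * g⁻¹) : x = y := by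
  have : x = g⁻¹ * (g * x * g⁻¹) * g := by group
  rw [this, h]; group

theorem Pt.conj {z x : G} (h : Pt z x) (g : G) : Pt z (g * x * g⁻¹) := by
  obtain ⟨k, rfl⟩ := h
  exact ⟨g * k, by group⟩

theorem Pt.refl (z : G) : Pt z z := ⟨1, by group⟩

theorem Pt.trans {z x y : G} (h : Pt z x) (h' : Pt x y) : Pt z y := by
  obtain ⟨g, rfl⟩ := h'
  exact h.conj g

theorem Pt.symm {z x : G} (h : Pt z x) : Pt x z := by
  obtain ⟨g, rfl⟩ := h
  exact ⟨g⁻¹, by group⟩

theorem mem_kq' {V : Subgroup G} {x c : G} : c ∈ kq V x ↔ c ∈ centralizer ({x} : Set G) ∧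
    (∀ w ∈ ws V x, c * w * c⁻¹ * w⁻¹ ∈ zpowers x) ∧ ∀ w ∈ ws V x, c⁻¹ * w * c * w⁻¹ ∈ zpowers x :=
  Iff.rfl

theorem kq_cj_left (V : Subgroup G) (g x : G) : kq (cj g V) x = kq V x := by
  ext c
  rw [mem_kq', mem_kq', ws_cj]

theorem cj_kq (V : Subgroup G) (g x : G) : cj g (kq V x) = kq V (g * x * g⁻¹) := by
  have key : ∀ (g x : G), cj g (kq V x) ≤ kq V (g * x * g⁻¹) := by
    intro g x c hc
    rw [mem_cj] at hc
    obtain ⟨h1, h2, h3⟩ := hc
    have hz : ∀ y ∈ zpowers x, g * y * g⁻¹ ∈ zpowers (g * x * g⁻¹) := by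
      rintro y ⟨n, rfl⟩
      refine ⟨n, ?_⟩
      simp only [conj_zpow]
    refine ⟨?_, fun w hw => ?_, fun w hw => ?_⟩
    · rw [mem_centralizer_singleton_iff] at h1 ⊢
      calc c * (g * x * g⁻¹) = g * (g⁻¹ * c * g * x) * g⁻¹ := by group
        _ = g * (x * (g⁻¹ * c * g)) * g⁻¹ := by rw [h1]
        _ = g * x * g⁻¹ * c := by group
    · rw [← cj_ws, mem_cj] at hw
      have := hz _ (h2 _ hw)
      have e : g * (g⁻¹ * c * g * (g⁻¹ * w * g) * (g⁻¹ * c * g)⁻¹ * (g⁻¹ * w * g)⁻¹) * g⁻¹ =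
          c * w * c⁻¹ * w⁻¹ := by group
      rwa [e] at this
    · rw [← cj_ws, mem_cj] at hw
      have := hz _ (h3 _ hw)
      have e : g * ((g⁻¹ * c * g)⁻¹ * (g⁻¹ * w * g) * (g⁻¹ * c * g) * (g⁻¹ * w * g)⁻¹) * g⁻¹ =
          c⁻¹ * w * c * w⁻¹ := by group
      rwa [e] at this
  refine le_antisymm (key g x) ?_
  have h := key g⁻¹ (g * x * g⁻¹)
  have e : g⁻¹ * (g * x * g⁻¹) * g⁻¹⁻¹ = x := by group
  rw [e, cj_le_iff, inv_inv] at h
  exact h

theorem Col.symm {V : Subgroup G} {x y : G} (h : Col V x y) : Col V y x := by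
  obtain ⟨h1, h2, h3, L, ⟨hL, hx⟩, hy⟩ := h
  exact ⟨h2, h1, h3.symm, L, ⟨hL, hy⟩, hx⟩

theorem Col.conj {V : Subgroup G} {x y : G} (h : Col V x y) (g : G) :
    Col V (g * x * g⁻¹) (g * y * g⁻¹) := by
  obtain ⟨h1, h2, h3, L, hL, hy⟩ := h
  exact ⟨conj_ne_one h1, conj_ne_one h2, fun e => h3 (conj_inj e), cj g L, mem_lines_cj hL, conj_mem_cj hy⟩

theorem Col.mem_ws {V : Subgroup G} {x y : G} (h : Col V x y) : y ∈ ws V x := by
  obtain ⟨_, _, _, L, hL, hy⟩ := h
  exact le_ws hL hy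

theorem col_cj_left {V : Subgroup G} {g x y : G} : Col (cj g V) x y ↔ Col V x y := by
  unfold Col; rw [lines_cj]

theorem Walk.conj {V : Subgroup G} {n : ℕ} {x y : G} (h : Walk V n x y) (g : G) :
    Walk V n (g * x * g⁻¹) (g * y * g⁻¹) := by
  induction n generalizing y with
  | zero => exact congrArg (fun t => g * t * g⁻¹) (h : x = y)
  | succ n ih =>
    obtain ⟨w, hw, h1⟩ := h
    refine ⟨g * w * g⁻¹, ih hw, ?_⟩
    rcases h1 with rfl | h1
    · exact Or.inl rfl
    · exact Or.inr (h1.conj g)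

theorem Walk.refl (V : Subgroup G) (n : ℕ) (x : G) : Walk V n x x := by
  induction n with
  | zero => exact rfl
  | succ n ih => exact ⟨x, ih, Or.inl rfl⟩

theorem Walk.succ {V : Subgroup G} {n : ℕ} {x y : G} (h : Walk V n x y) : Walk V (n + 1) x y :=
  ⟨y, h, Or.inl rfl⟩

theorem Walk.mono {V : Subgroup G} {m n : ℕ} (hmn : m ≤ n) {x y : G} (h : Walk V m x y) :
    Walk V n x y := by
  induction n, hmn using Nat.le_induction with
  | base => exact h
  | succ n _ ih => exact ih.succ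

theorem Walk.step {V : Subgroup G} {n : ℕ} {x y w : G} (h : Walk V n x y) (h' : Col V y w) :
    Walk V (n + 1) x w := ⟨y, h, Or.inr h'⟩

theorem Walk.trans {V : Subgroup G} {m n : ℕ} {x y w : G} (h : Walk V m x y) (h' : Walk V n y w) :
    Walk V (m + n) x w := by
  induction n generalizing w with
  | zero =>
    have e : y = w := h'
    rw [← e]; exact h
  | succ n ih =>
    obtain ⟨v, hv, h1⟩ := h'
    exact ⟨v, ih hv, h1⟩

theorem walk_one {V : Subgroup G} {x y : G} : Walk V 1 x y ↔ x = y ∨ Col V x y := by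
  constructor
  · rintro ⟨w, hw, h⟩
    have e : x = w := hw
    rw [e]; exact h
  · intro h
    exact ⟨x, rfl, h⟩

theorem Col.walk {V : Subgroup G} {x y : G} (h : Col V x y) : Walk V 1 x y := walk_one.mpr (Or.inr h)

theorem Walk.symm {V : Subgroup G} {n : ℕ} {x y : G} (h : Walk V n x y) : Walk V n y x := by
  induction n generalizing y with
  | zero => exact Eq.symm (h : x = y)
  | succ n ih =>
    obtain ⟨w, hw, h1⟩ := h
    rcases h1 with rfl | h1
    · exact (ih hw).succ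
    · have := h1.symm.walk.trans (ih hw)
      rwa [Nat.add_comm] at this

/-- the first step of a walk -/
theorem Walk.head {V : Subgroup G} {n : ℕ} {x y : G} (h : Walk V (n + 1) x y) :
    ∃ w, (x = w ∨ Col V x w) ∧ Walk V n w y := by
  obtain ⟨w, hw, h1⟩ := h.symm
  refine ⟨w, ?_, hw.symm⟩
  rcases h1 with rfl | h1
  · exact Or.inl rfl
  · exact Or.inr h1.symm

theorem walk_cj_left {V : Subgroup G} {g : G} {n : ℕ} {x y : G} : Walk (cj g V) n x y ↔ Walk V n x y := by
  induction n generalizing y with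
  | zero => exact Iff.rfl
  | succ n ih =>
    constructor
    · rintro ⟨w, hw, h1⟩
      exact ⟨w, ih.mp hw, h1.imp id col_cj_left.mp⟩
    · rintro ⟨w, hw, h1⟩
      exact ⟨w, ih.mpr hw, h1.imp id col_cj_left.mpr⟩

section Geo

variable {T V : Subgroup G} {z : G}

theorem pt_of_mem_line (h : GeoC T V z) {L : Subgroup G} {x y : G} (hL : L ∈ lines V x) (hy : y ∈ L)
    (hy1 : y ≠ 1) : Pt z y := by
  obtain ⟨⟨g, rfl⟩, _⟩ := hL
  rw [mem_cj] at hy
  obtain ⟨k, _, hk⟩ := h.trans _ hy (fun e => hy1 (by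
    have : y = g * (g⁻¹ * y * g) * g⁻¹ := by group
    rw [this, e]; group))
  refine ⟨g * k, ?_⟩
  have : y = g * (g⁻¹ * y * g) * g⁻¹ := by group
  rw [this, ← hk]; group

theorem Col.pt (h : GeoC T V z) {x y : G} (hc : Col V x y) : Pt z y := by
  obtain ⟨_, h2, _, L, hL, hy⟩ := hc
  exact pt_of_mem_line h hL hy h2

theorem Col.pt_left (h : GeoC T V z) {x y : G} (hc : Col V x y) : Pt z x := hc.symm.pt h

theorem pt_of_mem (h : GeoC T V z) {p : G} (hp : p ∈ V) (hp1 : p ≠ 1) : Pt z p := by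
  obtain ⟨k, _, hk⟩ := h.trans p hp hp1
  exact ⟨k, hk.symm⟩

theorem Pt.ne_one (h : GeoC T V z) {x : G} (hx : Pt z x) : x ≠ 1 := by
  obtain ⟨g, rfl⟩ := hx
  exact conj_ne_one h.z_ne

theorem Pt.sq (h : GeoC T V z) {x : G} (hx : Pt z x) : x * x = 1 := by
  obtain ⟨g, rfl⟩ := hx
  calc g * z * g⁻¹ * (g * z * g⁻¹) = g * (z * z) * g⁻¹ := by group
    _ = 1 := by rw [h.zz]; group

theorem col_of_mem (_ : GeoC T V z) {p q : G} (hp : p ∈ V) (hq : q ∈ V) (hp1 : p ≠ 1) (hq1 : q ≠ 1)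
    (hpq : p ≠ q) : Col V p q :=
  ⟨hp1, hq1, hpq, V, ⟨⟨1, (cj_one V).symm⟩, hp⟩, hq⟩

theorem Walk.pt (h : GeoC T V z) {n : ℕ} {x y : G} (hx : Pt z x) (hw : Walk V n x y) : Pt z y := by
  induction n generalizing y with
  | zero =>
    have e : x = y := hw
    rwa [← e]
  | succ n ih =>
    obtain ⟨w, hw, h1⟩ := hw
    rcases h1 with rfl | h1
    · exact ih hw
    · exact h1.pt h

/-- collinear points form flags conjugate to `(z, V)` -/
theorem exists_geo (h : GeoC T V z) {x y : G} (hc : Col V x y) :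
    ∃ g : G, x = g * z * g⁻¹ ∧ y ∈ cj g V ∧ GeoC (cj g T) (cj g V) x := by
  obtain ⟨h1, h2, h3, L, ⟨⟨g, rfl⟩, hx⟩, hy⟩ := hc
  rw [mem_cj] at hx
  obtain ⟨k, hk, hk2⟩ := h.trans _ hx (fun e => h1 (by
    have : x = g * (g⁻¹ * x * g) * g⁻¹ := by group
    rw [this, e]; group))
  have e : x = g * k * z * (g * k)⁻¹ := by
    have : x = g * (g⁻¹ * x * g) * g⁻¹ := by group
    rw [this, ← hk2]; group
  have e2 : cj (g * k) V = cj g V := by rw [← cj_cj, cj_eq_of_mem_normalizer hk]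
  refine ⟨g * k, e, ?_, ?_⟩
  · rw [e2]; exact hy
  · have := h.conj (g * k)
    rwa [← e] at this

end Geo

/-! ### facts for all points -/

section Odd

variable {T V : Subgroup G} {z : G}

/-- every point is the point of a flag conjugate to `(z, V)` -/
theorem exists_odd (h : Odd T V z) {x : G} (hx : Pt z x) : ∃ g : G, x = g * z * g⁻¹ ∧ Odd (cj g T) (cj g V) x := by
  obtain ⟨g, rfl⟩ := hx
  exact ⟨g, rfl, h.conj g⟩

/-- collinear points: a flag conjugate to `(z, V)` -/
theorem exists_odd_col (h : Odd T V z) {x y : G} (hc : Col V x y) :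
    ∃ g : G, x = g * z * g⁻¹ ∧ y ∈ cj g V ∧ Odd (cj g T) (cj g V) x := by
  obtain ⟨g, hg, hy, h1⟩ := exists_geo h.toGeoC hc
  refine ⟨g, hg, hy, ?_⟩
  have := h.conj g
  rwa [← hg] at this

theorem ws_comm (h : Odd T V z) {x : G} (hx : Pt z x) {a b : G} (ha : a ∈ ws V x) (hb : b ∈ ws V x) :
    a * b = b * a := by
  obtain ⟨g, _, h1⟩ := exists_odd h hx
  rw [← ws_cj V g] at ha hb
  exact h1.ab a ha b hb

theorem cj_ws_eq {x g : G} (hg : g * x = x * g) : cj g (ws V x) = ws V x := by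
  rw [cj_ws, hg, mul_inv_cancel_right]

theorem self_mem_ws (h : GeoC T V z) {x : G} (hx : Pt z x) : x ∈ ws V x := by
  obtain ⟨g, rfl⟩ := hx
  exact le_ws ⟨⟨g, rfl⟩, conj_mem_cj h.z_mem⟩ (conj_mem_cj h.z_mem)

theorem lines_le_ws {L : Subgroup G} {x y : G} (hL : L ∈ lines V x) (hy : y ∈ L) : L ≤ ws V y :=
  le_ws ⟨hL.1, hy⟩

theorem Col.mul_comm (h : Odd T V z) {x y : G} (hc : Col V x y) : x * y = y * x :=
  ws_comm h (hc.pt_left h.toGeoC) (self_mem_ws h.toGeoC (hc.pt_left h.toGeoC)) hc.mem_ws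

variable [Finite G]

theorem ws_sq (h : Odd T V z) {x : G} (hx : Pt z x) {a : G} (ha : a ∈ ws V x) : a * a = 1 := by
  obtain ⟨g, _, h1⟩ := exists_odd h hx
  rw [← ws_cj V g] at ha
  exact h1.ws_sq ha

theorem ws_inv (h : Odd T V z) {x : G} (hx : Pt z x) {a : G} (ha : a ∈ ws V x) : a⁻¹ = a :=
  inv_eq_self (ws_sq h hx ha)

theorem ws_isPGroup (h : Odd T V z) {x : G} (hx : Pt z x) : IsPGroup 2 (ws V x) := by
  rintro ⟨a, ha⟩
  refine ⟨1, ?_⟩
  ext
  change a ^ 2 ^ 1 = 1
  rw [pow_one, pow_two]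
  exact ws_sq h hx ha

theorem ws_le_centralizer_ws (h : Odd T V z) {x : G} (hx : Pt z x) :
    ws V x ≤ centralizer (ws V x : Set G) := fun _ ha =>
  mem_centralizer_iff.mpr fun _ hb => ws_comm h hx hb ha

theorem ws_le_o2 (h : Odd T V z) {x : G} (hx : Pt z x) : ws V x ≤ o2 (centralizer ({x} : Set G)) := by
  obtain ⟨g, hg, h1⟩ := exists_odd h hx
  have := h1.toGeoC.ws_le_o2
  rwa [ws_cj] at this

end Odd

/-! ### the critical distance -/

/-- `n` is the least distance of two points `x`, `y` with `[ws V x, ws V y] ≠ 1` -/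
structure OddN (T V : Subgroup G) (z : G) (n : ℕ) : Prop extends Odd T V z where
  lt : ∀ x y m, m < n → Pt z x → Walk V m x y → ∀ a ∈ ws V x, ∀ b ∈ ws V y, a * b = b * a
  crit : ∃ x y, Pt z x ∧ Walk V n x y ∧ ∃ a ∈ ws V x, ∃ b ∈ ws V y, a * b ≠ b * a

/-- `x`, `y` is a critical pair: distance `n` and `[ws V x, ws V y] ≠ 1` -/
def Crit (V : Subgroup G) (z : G) (n : ℕ) (x y : G) : Prop :=
  Pt z x ∧ Walk V n x y ∧ ∃ a ∈ ws V x, ∃ b ∈ ws V y, a * b ≠ b * a

section Crit

variable {T V : Subgroup G} {z : G} {n : ℕ}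

theorem OddN.pos (h : OddN T V z n) : 0 < n := by
  obtain ⟨x, y, hx, hw, a, ha, b, hb, hab⟩ := h.crit
  rcases Nat.eq_zero_or_pos n with rfl | h1
  · exfalso
    have e : x = y := hw
    rw [← e] at hb
    exact hab (ws_comm h.toOdd hx ha hb)
  · exact h1

theorem OddN.conj (h : OddN T V z n) (g : G) : OddN (cj g T) (cj g V) (g * z * g⁻¹) n where
  toOdd := h.toOdd.conj g
  lt := by
    intro x y m hm hx hw a ha b hb
    rw [ws_cj] at ha hb
    exact h.lt x y m hm ((Pt.symm ⟨g, rfl⟩ : Pt (g * z * g⁻¹) z).symm.trans hx) (walk_cj_left.mp hw) a ha b hb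
  crit := by
    obtain ⟨x, y, hx, hw, a, ha, b, hb, hab⟩ := h.crit
    refine ⟨x, y, (Pt.symm (z := z) ⟨g, rfl⟩ : Pt (g * z * g⁻¹) z).trans hx, walk_cj_left.mpr hw, a, ?_, b, ?_, hab⟩
    · rw [ws_cj]; exact ha
    · rw [ws_cj]; exact hb

theorem Crit.symm (h : Odd T V z) {x y : G} (hc : Crit V z n x y) : Crit V z n y x := by
  obtain ⟨hx, hw, a, ha, b, hb, hab⟩ := hc
  exact ⟨Walk.pt h.toGeoC hx hw, hw.symm, b, hb, a, ha, fun e => hab e.symm⟩

theorem Crit.conj {x y : G} (hc : Crit V z n x y) (g : G) : Crit V z n (g * x * g⁻¹) (g * y * g⁻¹) := by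
  obtain ⟨hx, hw, a, ha, b, hb, hab⟩ := hc
  refine ⟨hx.conj g, hw.conj g, g * a * g⁻¹, ?_, g * b * g⁻¹, ?_, fun e => hab ?_⟩
  · rw [← cj_ws]; exact conj_mem_cj ha
  · rw [← cj_ws]; exact conj_mem_cj hb
  · calc a * b = g⁻¹ * (g * a * g⁻¹ * (g * b * g⁻¹)) * g := by group
      _ = g⁻¹ * (g * b * g⁻¹ * (g * a * g⁻¹)) * g := by rw [e]
      _ = b * a := by group

theorem Crit.pt {x y : G} (hc : Crit V z n x y) : Pt z x := hc.1

theorem Crit.pt' (h : GeoC T V z) {x y : G} (hc : Crit V z n x y) : Pt z y := Walk.pt h hc.1 hc.2.1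

/-- there is no shorter walk between the points of a critical pair -/
theorem Crit.not_walk (h : OddN T V z n) {x y : G} (hc : Crit V z n x y) {m : ℕ} (hm : m < n) :
    ¬ Walk V m x y := by
  intro hw
  obtain ⟨hx, _, a, ha, b, hb, hab⟩ := hc
  exact hab (h.lt x y m hm hx hw a ha b hb)

/-- the first step of a critical path -/
theorem Crit.head (h : OddN T V z n) {x y : G} (hc : Crit V z n x y) :
    ∃ w, Col V x w ∧ Walk V (n - 1) w y := by
  obtain ⟨m, rfl⟩ : ∃ m, n = m + 1 := ⟨n - 1, (Nat.sub_add_cancel h.pos).symm⟩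
  obtain ⟨w, h1, h2⟩ := hc.2.1.head
  refine ⟨w, ?_, h2⟩
  rcases h1 with rfl | h1
  · exact absurd h2 (hc.not_walk h (Nat.lt_succ_self m))
  · exact h1

/-- `ws V y` centralizes `ws V w` for all `w` at distance `< n` -/
theorem comm_of_walk (h : OddN T V z n) {w y : G} (hw : Pt z w) {m : ℕ} (hm : m < n)
    (hwy : Walk V m w y) : ws V y ≤ centralizer (ws V w : Set G) := fun _ hb =>
  mem_centralizer_iff.mpr fun a ha => h.lt w y m hm hw hwy a ha _ hb

section path

variable {x y w : G}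

/-- for a critical pair `x, y` and the neighbour `w` of `x` on a path: `ws V y` centralizes `ws V w` -/
theorem Crit.ws_comm_head (h : OddN T V z n) (hxw : Col V x w) (hwy : Walk V (n - 1) w y) :
    ws V y ≤ centralizer (ws V w : Set G) :=
  comm_of_walk h (hxw.pt h.toGeoC) (Nat.sub_lt h.pos Nat.one_pos) hwy

theorem Crit.ws_le_centralizer_line (h : OddN T V z n) (hwy : Walk V (n - 1) w y)
    {L : Subgroup G} (hL : L ∈ lines V x) (hwL : w ∈ L) (hw1 : w ≠ 1) :
    ws V y ≤ centralizer (L : Set G) := by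
  have hw : Pt z w := pt_of_mem_line h.toGeoC hL hwL hw1
  refine (comm_of_walk h hw (Nat.sub_lt h.pos Nat.one_pos) hwy).trans ?_
  exact centralizer_le (lines_le_ws hL hwL)

theorem Crit.ws_le_centralizer (h : OddN T V z n) (hc : Crit V z n x y) :
    ws V y ≤ centralizer ({x} : Set G) := by
  obtain ⟨w, h1, h2⟩ := hc.head h
  refine (Crit.ws_comm_head h h1 h2).trans (centralizer_le ?_)
  rintro _ rfl
  exact h1.symm.mem_ws

theorem Crit.ws_le_normalizer (h : OddN T V z n) (hc : Crit V z n x y) :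
    ws V y ≤ normalizer ((ws V x : Subgroup G) : Set G) :=
  (hc.ws_le_centralizer h).trans (Cfsg.Agent.MinSimple.Geo.centralizer_le_normalizer_ws V x)

theorem Crit.comm_mem (h : OddN T V z n) (hc : Crit V z n x y) {a b : G} (ha : a ∈ ws V x)
    (hb : b ∈ ws V y) : a * b * a⁻¹ * b⁻¹ ∈ ws V x ⊓ ws V y := by
  refine ⟨?_, ?_⟩
  · have ha' : a⁻¹ ∈ ws V x := inv_mem ha
    have h1 := conj_mem_of_normalizer (hc.ws_le_normalizer h) hb ha'
    have e : a * b * a⁻¹ * b⁻¹ = a * (b * a⁻¹ * b⁻¹) := by group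
    rw [e]
    exact mul_mem ha h1
  · have h1 := conj_mem_of_normalizer ((hc.symm h.toOdd).ws_le_normalizer h) ha hb
    have hb' : b⁻¹ ∈ ws V y := inv_mem hb
    exact mul_mem h1 hb'

end path

/-! ### `(T)` -/

/-- the subgroup generated by the `ws V w`, `w` at distance at most `j` from `r` -/
def tt (V : Subgroup G) (j : ℕ) (r : G) : Subgroup G := sSup {U | ∃ w, Walk V j r w ∧ U = ws V w}

theorem ws_le_tt {j : ℕ} {r w : G} (hw : Walk V j r w) : ws V w ≤ tt V j r := le_sSup ⟨w, hw, rfl⟩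

theorem tt_le {j : ℕ} {r : G} {U : Subgroup G} (hU : ∀ w, Walk V j r w → ws V w ≤ U) : tt V j r ≤ U :=
  sSup_le (by rintro _ ⟨w, hw, rfl⟩; exact hU w hw)

theorem tt_mono {i j : ℕ} (hij : i ≤ j) (r : G) : tt V i r ≤ tt V j r :=
  tt_le fun _ hw => ws_le_tt (hw.mono hij)

theorem tt_le_centralizer_ws (h : OddN T V z n) {j : ℕ} (hj : j < n) {r : G} (hr : Pt z r) :
    tt V j r ≤ centralizer (ws V r : Set G) :=
  tt_le fun _ hw => comm_of_walk h hr hj hw

theorem cj_tt (j : ℕ) (r g : G) : cj g (tt V j r) = tt V j (g * r * g⁻¹) := by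
  have key : ∀ (g r : G), cj g (tt V j r) ≤ tt V j (g * r * g⁻¹) := by
    intro g r
    rw [cj_le_iff]
    refine tt_le fun w hw => ?_
    rw [← cj_le_iff, cj_ws]
    exact ws_le_tt (hw.conj g)
  refine le_antisymm (key g r) ?_
  have h := key g⁻¹ (g * r * g⁻¹)
  have e : g⁻¹ * (g * r * g⁻¹) * g⁻¹⁻¹ = r := by group
  rw [e, cj_le_iff, inv_inv] at h
  exact h

theorem centralizer_le_normalizer_tt (j : ℕ) (r : G) :
    centralizer ({r} : Set G) ≤ normalizer ((tt V j r : Subgroup G) : Set G) := by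
  intro g hg
  rw [mem_normalizer_iff_cj, cj_tt]
  have : g * r * g⁻¹ = r := by
    rw [mem_centralizer_singleton_iff.mp hg]; group
  rw [this]

variable [Finite G]

/-- `tt V j r` is a 2-group for `j < n` -/
theorem tt_isPGroup (h : OddN T V z n) {j : ℕ} (hj : j < n) {r : G} (hr : Pt z r) :
    IsPGroup 2 (tt V j r) := by
  induction j generalizing r with
  | zero =>
    have e : tt V 0 r ≤ ws V r := tt_le fun w hw => by
      have e : r = w := hw
      rw [e]
    exact (ws_isPGroup h.toOdd hr).to_le e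
  | succ j ih =>
    have hle : tt V (j + 1) r ≤ o2 (tt V (j + 1) r) := by
      refine tt_le fun w hw => ?_
      obtain ⟨p, h1, h2⟩ := hw.head
      have hp : Pt z p := by
        rcases h1 with rfl | h1
        · exact hr
        · exact h1.pt h.toGeoC
      have hpr : p ∈ ws V r := by
        rcases h1 with rfl | h1
        · exact self_mem_ws h.toGeoC hr
        · exact h1.mem_ws
      have hle : tt V j p ≤ tt V (j + 1) r := tt_le fun v hv => by
        refine ws_le_tt ?_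
        have h3 : Walk V 1 r p := walk_one.mpr h1
        have := h3.trans hv
        rwa [Nat.add_comm] at this
      have hn : tt V (j + 1) r ≤ normalizer ((tt V j p : Subgroup G) : Set G) := by
        refine (tt_le_centralizer_ws h hj hr).trans (le_trans (centralizer_le ?_)
          (centralizer_le_normalizer_tt j p))
        rintro _ rfl
        exact hpr
      exact (ws_le_tt h2).trans (le_o2 hle (ih (Nat.lt_of_succ_lt hj) hp) hn)
    exact (isPGroup_o2 _).to_le hle

/-- `tt V j r ≤ O₂(C_G(r))` for `j < n` -/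
theorem tt_le_o2 (h : OddN T V z n) {j : ℕ} (hj : j < n) {r : G} (hr : Pt z r) :
    tt V j r ≤ o2 (centralizer ({r} : Set G)) := by
  refine le_o2 ?_ (tt_isPGroup h hj hr) (centralizer_le_normalizer_tt j r)
  refine (tt_le_centralizer_ws h hj hr).trans (centralizer_le ?_)
  rintro _ rfl
  exact self_mem_ws h.toGeoC hr

end Crit

/-! ### existence of the critical distance -/

section exists_n

variable {T V : Subgroup G} {z : G} [Finite G]

theorem walk_of_mem_normalizer (h : GeoC T V z) {g : G} (hg : g ∈ normalizer (V : Set G)) :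
    Walk V 1 z (g * z * g⁻¹) := by
  rw [walk_one]
  by_cases e : z = g * z * g⁻¹
  · exact Or.inl e
  · exact Or.inr (col_of_mem h h.z_mem ((mem_normalizer_iff.mp hg z).mp h.z_mem) h.z_ne
      (conj_ne_one h.z_ne) e)

/-- there is a critical distance -/
theorem exists_n (h : Odd T V z) : ∃ n, OddN T V z n := by
  classical
  by_cases hex : ∃ m, ∃ x y, Pt z x ∧ Walk V m x y ∧ ∃ a ∈ ws V x, ∃ b ∈ ws V y, a * b ≠ b * a
  · refine ⟨Nat.find hex, h, ?_, Nat.find_spec hex⟩
    intro x y m hm hx hw a ha b hb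
    by_contra hab
    exact Nat.find_min hex hm ⟨x, y, hx, hw, a, ha, b, hb, hab⟩
  · exfalso
    push Not at hex
    -- the group generated by all `ws V w`, `w` connected with `z`
    let S : Set (Subgroup G) := {U | ∃ m w, Walk V m z w ∧ U = ws V w}
    let U : Subgroup G := sSup S
    have hle : ∀ {m w}, Walk V m z w → ws V w ≤ U := fun {m w} hw => le_sSup ⟨m, w, hw, rfl⟩
    have hUle : ∀ {K : Subgroup G}, (∀ m w, Walk V m z w → ws V w ≤ K) → U ≤ K := fun {K} hK =>
      sSup_le (by rintro _ ⟨m, w, hw, rfl⟩; exact hK m w hw)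
    have hpt : ∀ {m w}, Walk V m z w → Pt z w := fun {m w} hw => Walk.pt h.toGeoC (Pt.refl z) hw
    have hcomm1 : ∀ {m w}, Walk V m z w → U ≤ centralizer (ws V w : Set G) := by
      intro m w hw
      refine hUle fun m' w' hw' => fun b hb => mem_centralizer_iff.mpr fun a ha => ?_
      exact hex (m + m') w w' (hpt hw) (hw.symm.trans hw') a ha b hb
    have hcomm : U ≤ centralizer (U : Set G) := by
      rw [Subgroup.le_centralizer_iff]
      exact hUle fun m w hw => by
        rw [Subgroup.le_centralizer_iff]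
        exact hcomm1 hw
    have hUU : ∀ a ∈ U, ∀ b ∈ U, a * b = b * a := fun a ha b hb =>
      (mem_centralizer_iff.mp (hcomm hb)) a ha
    let A : Subgroup G :=
      { carrier := {w | w ∈ U ∧ w * w = 1}
        mul_mem' := by
          rintro a b ⟨ha, ha1⟩ ⟨hb, hb1⟩
          refine ⟨mul_mem ha hb, ?_⟩
          calc a * b * (a * b) = a * (b * a) * b := by group
            _ = (a * a) * (b * b) := by rw [hUU b hb a ha]; group
            _ = 1 := by rw [ha1, hb1, one_mul]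
        one_mem' := ⟨one_mem _, one_mul 1⟩
        inv_mem' := by
          rintro a ⟨ha, ha1⟩
          refine ⟨inv_mem ha, ?_⟩
          have : a⁻¹ * a⁻¹ = (a * a)⁻¹ := by group
          rw [this, ha1, inv_one] }
    have hUA : U ≤ A := hUle fun m w hw => fun a ha => ⟨hle hw ha, ws_sq h (hpt hw) ha⟩
    have h2 : IsPGroup 2 U := by
      rintro ⟨a, ha⟩
      refine ⟨1, ?_⟩
      ext
      change a ^ 2 ^ 1 = 1
      rw [pow_one, pow_two]
      exact (hUA ha).2
    have hnorm : ∀ g : G, Walk V 1 z (g * z * g⁻¹) → ∀ u ∈ U, g * u * g⁻¹ ∈ U := by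
      intro g hg u hu
      have : U ≤ cj g⁻¹ U := hUle fun m w hw => by
        rw [← cj_le_iff, cj_ws]
        exact hle (hg.trans (hw.conj g))
      have h3 := this hu
      rw [mem_cj, inv_inv] at h3
      exact h3
    have hbot := h.core U h2 (le_normalizer_of_forall fun g hg u hu =>
      hnorm g (walk_of_mem_normalizer h.toGeoC hg) u hu) (le_normalizer_of_forall fun g hg u hu =>
      hnorm g (by
        have : g * z * g⁻¹ = z := by rw [mem_centralizer_singleton_iff.mp hg]; group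
        rw [this]; exact Walk.refl V 1 z) u hu)
    have hzU : z ∈ U := hle (Walk.refl V 0 z) (self_mem_ws h.toGeoC (Pt.refl z))
    rw [hbot, mem_bot] at hzU
    exact h.z_ne hzU

end exists_n

end Cfsg.Agent.OddCyclic.EO.Base
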