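import Cfsg.Agent.OddCyclic.EO.Sit
import Cfsg.Agent.OddCyclic.EO.Count
import Cfsg.Agent.OddCyclic.EO.Small
import Cfsg.Agent.ZN.ChoiceBase

/-!
# `n ≥ 2` and `[V, J(T)] ≠ 1` imply `|V_z| = 8`
-/

set_option autoImplicit false
set_option linter.unusedSectionVars false
set_option linter.style.haveILetI false

namespace Cfsg.Agent.OddCyclic.EO.Two

open Subgroup Cfsg Cfsg.Agent.ZN Cfsg.Agent.MinSimple.Geo Cfsg.Agent.OddCyclic.GeoC Cfsg.Agent.OddCyclic.BTwoA
  Cfsg.Agent.OddCyclic.EO.Line Cfsg.Agent.OddCyclic.EO.Base Cfsg.Agent.OddCyclic.EO.RepM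
  Cfsg.Agent.OddCyclic.EO.Fit Cfsg.Agent.OddCyclic.EO.FitB Cfsg.Agent.OddCyclic.EO.Sit Cfsg.Agent.OddCyclic.EO.Count
open Cfsg.Agent.ZN.Block (conj_mem_of_normalizer conj_mem_of_normalizer' le_normalizer_of_forall
  mem_normalizer_of)

universe u

variable {G : Type u} [Group G] [Finite G] {T V : Subgroup G} {z x : G} {M X : Type u} [AddCommGroup M] [Group X]
  [DistribMulAction X M]

/-! ### cardinalities -/

theorem card_of_surj {A B : Type*} [Group A] [Group B] [Finite A] (f : A →* B) (hf : Function.Surjective f) :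
    Nat.card A = Nat.card B * Nat.card f.ker := by
  rw [Subgroup.card_eq_card_quotient_mul_card_subgroup f.ker,
    Nat.card_congr (QuotientGroup.quotientKerEquivOfSurjective f hf).toEquiv]

/-- `|H| = |H̄| |H ∩ K|` -/
theorem card_img (R : Rep V x M X) {H : Subgroup G} (hH : H ≤ centralizer ({x} : Set G)) :
    Nat.card H = Nat.card (R.img H) * Nat.card ↥(H ⊓ kq V x) := by
  let f : H →* R.img H :=
    { toFun := fun a => ⟨R.rho a, R.rho_mem_img hH a.2⟩
      map_one' := Subtype.ext R.rho_one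
      map_mul' := fun a b => Subtype.ext (R.rho_mul a (hH a.2) b (hH b.2)) }
  have hf : Function.Surjective f := by
    rintro ⟨y, hy⟩
    obtain ⟨a, ha, rfl⟩ := (R.mem_img hH).mp hy
    exact ⟨⟨a, ha⟩, rfl⟩
  rw [card_of_surj f hf]
  congr 1
  refine Nat.card_congr
    { toFun := fun a => ⟨((a : H) : G), (a : H).2, (Rep.rho_eq_one R (hH (a : H).2)).mp (congrArg Subtype.val a.2)⟩
      invFun := fun a => ⟨⟨a, a.2.1⟩, Subtype.ext ((Rep.rho_eq_one R (hH a.2.1)).mpr a.2.2)⟩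
      left_inv := fun _ => rfl
      right_inv := fun _ => rfl }

/-- the image of `U` in `M` -/
def push (R : Rep V x M X) (U : Subgroup G) (hU : U ≤ ws V x) : AddSubgroup M where
  carrier := {m | ∃ u ∈ U, R.pi u = m}
  add_mem' := by
    rintro _ _ ⟨a, ha, rfl⟩ ⟨b, hb, rfl⟩
    exact ⟨a * b, mul_mem ha hb, R.pi_mul a (hU ha) b (hU hb)⟩
  zero_mem' := ⟨1, one_mem _, R.pi_one⟩
  neg_mem' := by
    rintro _ ⟨a, ha, rfl⟩
    exact ⟨a⁻¹, inv_mem ha, R.pi_inv (hU ha)⟩

/-- the preimage of `N` in `ws V x` -/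
def pull (R : Rep V x M X) (N : AddSubgroup M) : Subgroup G where
  carrier := {w | w ∈ ws V x ∧ R.pi w ∈ N}
  mul_mem' := by
    rintro a b ⟨ha, ha1⟩ ⟨hb, hb1⟩
    refine ⟨mul_mem ha hb, ?_⟩
    rw [R.pi_mul a ha b hb]; exact add_mem ha1 hb1
  one_mem' := ⟨one_mem _, by rw [R.pi_one]; exact zero_mem _⟩
  inv_mem' := by
    rintro a ⟨ha, ha1⟩
    refine ⟨inv_mem ha, ?_⟩
    rw [R.pi_inv ha]; exact neg_mem ha1

theorem card_zp (h : Odd T V z) (hx : Pt z x) : Nat.card (zpowers x) = 2 := by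
  rw [Nat.card_zpowers]
  exact orderOf_eq_prime (by rw [pow_two]; exact Pt.sq h.toGeoC hx) (Pt.ne_one h.toGeoC hx)

theorem card_push (h : Odd T V z) (hx : Pt z x) (R : Rep V x M X) {U : Subgroup G} (hU : U ≤ ws V x) (hxU : x ∈ U) :
    Nat.card U = 2 * Nat.card (push R U hU) := by
  let f : U →* Multiplicative (push R U hU) :=
    { toFun := fun a => Multiplicative.ofAdd ⟨R.pi a, a, a.2, rfl⟩
      map_one' := by
        have : (⟨R.pi 1, 1, U.one_mem, rfl⟩ : push R U hU) = 0 := Subtype.ext R.pi_one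
        change Multiplicative.ofAdd (⟨R.pi 1, 1, U.one_mem, rfl⟩ : push R U hU) = 1
        rw [this]; rfl
      map_mul' := fun a b => by
        rw [← ofAdd_add]
        congr 1
        exact Subtype.ext (R.pi_mul a (hU a.2) b (hU b.2)) }
  have hf : Function.Surjective f := by
    intro y
    obtain ⟨a, ha, hay⟩ := (Multiplicative.toAdd y).2
    refine ⟨⟨a, ha⟩, ?_⟩
    apply Multiplicative.toAdd.injective
    exact Subtype.ext hay
  rw [card_of_surj f hf, mul_comm]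
  congr 1
  rw [← card_zp h hx]
  refine Nat.card_congr
    { toFun := fun a => ⟨((a : U) : G), ?_⟩
      invFun := fun a => ⟨⟨a, (zpowers_le.mpr hxU) a.2⟩, ?_⟩
      left_inv := fun _ => rfl
      right_inv := fun _ => rfl }
  · have h1 : f (a : U) = 1 := a.2
    have h2 : R.pi ((a : U) : G) = 0 := congrArg (fun y : Multiplicative (push R U hU) => ((Multiplicative.toAdd y : push R U hU) : M)) h1
    exact (R.pi_eq_zero _ (hU (a : U).2)).mp h2
  · rw [MonoidHom.mem_ker]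
    apply Multiplicative.toAdd.injective
    exact Subtype.ext ((R.pi_eq_zero _ (hU ((zpowers_le.mpr hxU) a.2))).mpr a.2)

theorem push_top (R : Rep V x M X) : push R (ws V x) le_rfl = ⊤ := by
  rw [eq_top_iff]
  rintro m -
  obtain ⟨w, hw, rfl⟩ := R.pi_surj m
  exact ⟨w, hw, rfl⟩

theorem card_M (h : Odd T V z) (hx : Pt z x) (R : Rep V x M X) : Nat.card (ws V x) = 2 * Nat.card M := by
  rw [card_push h hx R le_rfl (self_mem_ws h.toGeoC hx), push_top, AddSubgroup.card_top]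

theorem pull_le (R : Rep V x M X) (N : AddSubgroup M) : pull R N ≤ ws V x := fun _ h => h.1

theorem push_pull (R : Rep V x M X) (N : AddSubgroup M) : push R (pull R N) (pull_le R N) = N := by
  ext m
  constructor
  · rintro ⟨u, hu, rfl⟩; exact hu.2
  · intro hm
    obtain ⟨w, hw, rfl⟩ := R.pi_surj m
    exact ⟨w, ⟨hw, hm⟩, rfl⟩

theorem self_mem_pull (h : Odd T V z) (hx : Pt z x) (R : Rep V x M X) (N : AddSubgroup M) : x ∈ pull R N :=
  ⟨self_mem_ws h.toGeoC hx, by rw [Rep.pi_self h hx R]; exact zero_mem _⟩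

theorem card_pull (h : Odd T V z) (hx : Pt z x) (R : Rep V x M X) (N : AddSubgroup M) :
    Nat.card (pull R N) = 2 * Nat.card N := by
  rw [card_push h hx R (pull_le R N) (self_mem_pull h hx R N), push_pull]

/-! ### the subgroup `P_r` -/

/-- the data of a point `r` of `V` -/
structure Pd (V : Subgroup G) (r : G) (P : Subgroup G) : Prop where
  le : P ≤ dd V
  mem : r ∈ P
  card : Nat.card (ws V r) = 4 * Nat.card P
  cardD : Nat.card (ws V r) = 2 * Nat.card (dd V)
  norm : centralizer (V : Set G) ≤ normalizer (P : Set G)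
  inf : ∀ v ∈ V, v ∈ P → v = 1 ∨ v = r

/-- `V_r ≠ dd V` -/
theorem ws_ne_dd (h : Odd T V z) : ws V z ≠ dd V := by
  intro e
  have h1 := h.core (ws V z) (h.two.to_le h.ws_le_T) (by rw [e]; exact normalizer_le_normalizer_dd V)
    (Cfsg.Agent.MinSimple.Geo.centralizer_le_normalizer_ws V z)
  have h2 : z ∈ ws V z := h.V_le_ws h.z_mem
  rw [h1, mem_bot] at h2
  exact h.z_ne h2

theorem exists_P (h : Odd T V z) {A : Subgroup G} (hAT : A ≤ T) (hA : El A)
    (hmax : ∀ B ≤ T, El B → Nat.card B ≤ Nat.card A) (hAV : ¬ A ≤ centralizer (V : Set G))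
    (hcomm : ∀ r ∈ V, ∀ s ∈ V, r ≠ 1 → s ≠ 1 → ∀ a ∈ ws V r, ∀ b ∈ ws V s, a * b = b * a) {r : G}
    (hr : r ∈ V) (hr1 : r ≠ 1) (hrz : r ≠ z) : ∃ P : Subgroup G, Pd V r P := by
  obtain ⟨T', h'⟩ := h.point hr hr1
  have hcnt := count h hAT hA hmax hAV hcomm hr hr1 hrz
  obtain ⟨M, X, _, _, _, ⟨R⟩⟩ := exists_rep h' (Pt.refl r)
  haveI : Finite M := R.finite_left
  haveI : Finite X := R.finite_right
  obtain ⟨F, hFn, hFc, hFo, hFcent, horb⟩ := exists_F h' R
  set A0 := A ⊓ centralizer (V : Set G) with hA0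
  have hA0r : A0 ≤ centralizer ({r} : Set G) := fun a ha =>
    mem_centralizer_singleton_iff.mpr (mem_centralizer_iff.mp ha.2 r hr).symm
  have hA0V : A0 ≤ normalizer (V : Set G) := inf_le_right.trans (centralizer_le_normalizer _)
  set B := R.img A0 with hB
  have hBsq : ∀ b ∈ B, b * b = 1 := by
    intro b hb
    obtain ⟨a, ha, rfl⟩ := (R.mem_img hA0r).mp hb
    rw [← R.rho_mul a (hA0r ha) a (hA0r ha), hA.2 a ha.1, R.rho_one]
  have hBab : ∀ b ∈ B, ∀ c ∈ B, b * c = c * b := by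
    intro b hb c hc
    obtain ⟨a, ha, rfl⟩ := (R.mem_img hA0r).mp hb
    obtain ⟨a', ha', rfl⟩ := (R.mem_img hA0r).mp hc
    rw [← R.rho_mul a (hA0r ha) a' (hA0r ha'), ← R.rho_mul a' (hA0r ha') a (hA0r ha), hA.1 a ha.1 a' ha'.1]
  have hBfix : ∀ b ∈ B, b • R.pi z = R.pi z := by
    intro b hb
    obtain ⟨a, ha, rfl⟩ := (R.mem_img hA0r).mp hb
    exact fix_line h' R (hA0r ha) (hA0V ha) h.z_mem
  obtain ⟨hamb, hgood⟩ := amb_good h' R hFn hFc hFo horb h.z_mem h.z_ne (Ne.symm hrz) hBab hBsq hBfix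
  have hf : ∀ g : X, (∀ m : M, g • m = m) → g = 1 := R.faithful
  -- `card A0`
  have hAK : A ⊓ kq V r = A0 ⊓ kq V r := by
    apply le_antisymm
    · intro a ha
      refine mem_inf.mpr ⟨mem_inf.mpr ⟨ha.1, ?_⟩, ha.2⟩
      exact mem_cent h hr hr1 hrz (mem_centralizer_singleton_iff.mp (h.T_le (hAT ha.1)))
        (mem_centralizer_singleton_iff.mp (BTwoB.kq_le V r ha.2))
    · exact inf_le_inf_right _ inf_le_left
  have hcA0 := card_img R hA0r
  rw [← hB, ← hAK] at hcA0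
  set D0 := dd V ⊓ centralizer (A0 : Set G) with hD0
  have hDw : dd V ≤ ws V r := h.dd_le_ws hr hr1
  have hD0w : D0 ≤ ws V r := inf_le_left.trans hDw
  have hrD0 : r ∈ D0 := mem_inf.mpr ⟨h.V_le_dd hr, mem_centralizer_iff.mpr fun a ha =>
    mem_centralizer_singleton_iff.mp (hA0r ha)⟩
  have hAKpos : 0 < Nat.card ↥(A ⊓ kq V r) := Nat.card_pos
  have h1 : Nat.card (ws V r) ≤ Nat.card B * Nat.card D0 := by
    refine Nat.le_of_mul_le_mul_right ?_ hAKpos
    calc Nat.card (ws V r) * Nat.card ↥(A ⊓ kq V r) ≤ Nat.card A0 * Nat.card D0 := hcnt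
      _ = Nat.card B * Nat.card D0 * Nat.card ↥(A ⊓ kq V r) := by rw [hcA0]; ring
  -- the image of `D0`
  set E := push R D0 hD0w with hE
  have hcE : Nat.card D0 = 2 * Nat.card E := card_push h' (Pt.refl r) R hD0w hrD0
  have hEfx : E ≤ fx B (⊤ : AddSubgroup M) := by
    rintro _ ⟨d, hd, rfl⟩
    refine ⟨AddSubgroup.mem_top _, fun b hb => ?_⟩
    obtain ⟨a, ha, rfl⟩ := (R.mem_img hA0r).mp hb
    rw [R.smul_pi a (hA0r ha) d (hD0w hd), mem_centralizer_iff.mp hd.2 a ha, mul_inv_cancel_right]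
  have hcM := card_M h' (Pt.refl r) R
  have hle : Nat.card M ≤ Nat.card (fx B (⊤ : AddSubgroup M)) * Nat.card B := by
    have h2 : Nat.card E ≤ Nat.card (fx B (⊤ : AddSubgroup M)) := card_mono hEfx
    have h3 : 2 * Nat.card M ≤ 2 * (Nat.card (fx B (⊤ : AddSubgroup M)) * Nat.card B) := by
      calc 2 * Nat.card M = Nat.card (ws V r) := hcM.symm
        _ ≤ Nat.card B * (2 * Nat.card E) := by rw [← hcE]; exact h1
        _ ≤ Nat.card B * (2 * Nat.card (fx B (⊤ : AddSubgroup M))) :=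
          Nat.mul_le_mul_left _ (Nat.mul_le_mul_left _ h2)
        _ = 2 * (Nat.card (fx B (⊤ : AddSubgroup M)) * Nat.card B) := by ring
    omega
  obtain ⟨huniq, hff⟩ := ff_main hamb hgood hFcent hf hle
  -- `B ≠ 1`
  have hlt : Nat.card (dd V) < Nat.card (ws V r) := by
    refine lt_of_le_of_ne (card_le_of_le hDw) fun e => ?_
    exact ws_ne_dd h' (Subgroup.eq_of_le_of_card_ge hDw e.ge).symm
  have hD0D : Nat.card D0 ≤ Nat.card (dd V) := card_le_of_le inf_le_left
  obtain ⟨b, hb, hb1⟩ : ∃ b ∈ B, b ≠ 1 := by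
    by_contra hcon
    push Not at hcon
    have h2 : B = ⊥ := by
      rw [eq_bot_iff]; intro b hb; rw [mem_bot]; exact hcon b hb
    rw [h2, Subgroup.card_bot, one_mul] at h1
    omega
  have hBc : Nat.card B ≤ 2 := by
    have h2 : (B : Set X) ⊆ {1, b} := by
      intro a ha
      by_cases ha1 : a = 1
      · exact Or.inl ha1
      · exact Or.inr (huniq a ha b hb ha1 hb1)
    refine (Set.ncard_le_ncard h2 (Set.toFinite _)).trans ((Set.ncard_insert_le _ _).trans ?_)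
    rw [Set.ncard_singleton]
  obtain ⟨g, hgF, hbg, ⟨v, hv⟩, hk4, htriv⟩ := hff b hb hb1
  have hP : zpowers g ≤ F := zpowers_le.mpr hgF
  set N2 := fx (zpowers g) (⊤ : AddSubgroup M) with hN2
  have hsplit := card_split' hamb hgood hP
  rw [AddSubgroup.card_top, top_inf_eq, hk4, ← hN2] at hsplit
  -- `E = C_M(B)`
  have hfxlt : Nat.card (fx B (⊤ : AddSubgroup M)) ≠ Nat.card M := by
    intro e
    apply hb1
    refine hf b fun m => ?_
    have h2 : fx B (⊤ : AddSubgroup M) = ⊤ := by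
      apply SetLike.coe_injective
      refine Set.eq_of_subset_of_ncard_le (fx_le _ _) ?_ (Set.toFinite _)
      have e1 : ((⊤ : AddSubgroup M) : Set M).ncard = Nat.card M := AddSubgroup.card_top
      rw [e1]; exact e.ge
    have h3 : m ∈ fx B (⊤ : AddSubgroup M) := by rw [h2]; exact AddSubgroup.mem_top m
    exact h3.2 b hb
  have h2E : Nat.card M ≤ 2 * Nat.card E := by
    have h2 : 2 * Nat.card M ≤ 2 * (2 * Nat.card E) := by
      calc 2 * Nat.card M = Nat.card (ws V r) := hcM.symm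
        _ ≤ Nat.card B * Nat.card D0 := h1
        _ ≤ 2 * (2 * Nat.card E) := by rw [← hcE]; exact Nat.mul_le_mul_right _ hBc
    omega
  have hfxdvd : Nat.card (fx B (⊤ : AddSubgroup M)) ∣ Nat.card M := AddSubgroup.card_addSubgroup_dvd_card _
  have hEc : Nat.card E ≤ Nat.card (fx B (⊤ : AddSubgroup M)) := card_mono hEfx
  have hMpos : 0 < Nat.card M := Nat.card_pos
  have hfx2 : 2 * Nat.card (fx B (⊤ : AddSubgroup M)) ≤ Nat.card M := by
    obtain ⟨k, hk⟩ := hfxdvd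
    have hk1 : k ≠ 1 := by rintro rfl; rw [mul_one] at hk; exact hfxlt hk.symm
    have hk0 : k ≠ 0 := by rintro rfl; rw [mul_zero] at hk; omega
    rw [hk, mul_comm]
    exact Nat.mul_le_mul_left _ (by omega)
  have hEeq : E = fx B (⊤ : AddSubgroup M) := by
    apply SetLike.coe_injective
    refine Set.eq_of_subset_of_ncard_le hEfx ?_ (Set.toFinite _)
    change Nat.card (fx B (⊤ : AddSubgroup M)) ≤ Nat.card E
    omega
  have hN2E : N2 ≤ E := by
    rw [hEeq]
    intro m hm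
    refine ⟨AddSubgroup.mem_top _, fun c hc => ?_⟩
    by_cases hc1 : c = 1
    · rw [hc1, one_smul]
    · rw [huniq c hc b hb hc1 hb1]; exact htriv m hm
  refine ⟨pull R N2, ?_, self_mem_pull h' (Pt.refl r) R N2, ?_, ?_, ?_, ?_⟩
  · rintro w ⟨hw, hwN⟩
    obtain ⟨d, hd, hdw⟩ := hN2E hwN
    rcases (Rep.pi_eq_pi h' (Pt.refl r) R (hD0w hd) hw).mp hdw with e | e
    · rw [← e]; exact hd.1
    · have e2 : w = r * d := by
        rw [e, ← mul_assoc, h.sq r hr, one_mul]
      rw [e2]; exact mul_mem (h.V_le_dd hr) hd.1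
  · rw [card_pull h' (Pt.refl r) R, hcM, hsplit]; ring
  · -- `|V_r| = 2 |D|`
    have hdv : Nat.card (dd V) ∣ Nat.card (ws V r) := Subgroup.card_dvd_of_le hDw
    have h3 : 2 * Nat.card (dd V) ≤ Nat.card (ws V r) := by
      obtain ⟨k, hk⟩ := hdv
      have hk1 : k ≠ 1 := by rintro rfl; rw [mul_one] at hk; omega
      have hk0 : k ≠ 0 := by rintro rfl; rw [mul_zero] at hk; omega
      rw [hk, mul_comm]
      exact Nat.mul_le_mul_left _ (by omega)
    have h4 : Nat.card (ws V r) ≤ 2 * Nat.card (dd V) :=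
      h1.trans (Nat.mul_le_mul hBc hD0D)
    omega
  · refine le_normalizer_of_forall fun c hc w hw => ?_
    have hcr : c ∈ centralizer ({r} : Set G) :=
      mem_centralizer_singleton_iff.mpr (mem_centralizer_iff.mp hc r hr).symm
    refine ⟨R.conj_mem hcr hw.1, ?_⟩
    rw [← R.smul_pi c hcr w hw.1]
    haveI := normal_of_le hFc hFn hP
    refine ⟨AddSubgroup.mem_top _, fun p hp => ?_⟩
    have h5 : (R.rho c)⁻¹ * p * R.rho c ∈ zpowers g := by
      have := (normal_of_le hFc hFn hP).conj_mem p hp (R.rho c)⁻¹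
      rwa [inv_inv] at this
    have h6 := hw.2.2 _ h5
    calc p • R.rho c • R.pi w = R.rho c • ((R.rho c)⁻¹ * p * R.rho c) • R.pi w := by
          rw [smul_smul, smul_smul]; congr 1; group
      _ = R.rho c • R.pi w := by rw [h6]
  · intro w hw hwP
    by_contra hcon
    push Not at hcon
    -- `z ∈ P_r`
    have h3 : R.pi z ∈ N2 := by
      rcases h'.four hr h.z_mem hr1 h.z_ne hrz hw with e | e | e | e
      · exact absurd e hcon.1
      · exact absurd e hcon.2
      · rw [← e]; exact hwP.2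
      · have e2 := hwP.2
        rw [e, Rep.pi_self_mul h' (Pt.refl r) R (h'.V_le_ws h.z_mem)] at e2
        exact e2
    apply hv
    have h4 : (⊤ : AddSubgroup M) ≤ N2 := by
      refine hgood.gen _ fun f hf' => ⟨AddSubgroup.mem_top _, fun p hp => ?_⟩
      rw [smul_smul, comm_of_cyclic hFc (hP hp) hf', mul_smul, h3.2 p hp]
    exact (h4 (AddSubgroup.mem_top v)).2 g (mem_zpowers g)

/-- `|V_z| = 8` -/
theorem card_ws (h : Odd T V z) {A : Subgroup G} (hAT : A ≤ T) (hA : El A)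
    (hmax : ∀ B ≤ T, El B → Nat.card B ≤ Nat.card A) (hAV : ¬ A ≤ centralizer (V : Set G))
    (hcomm : ∀ r ∈ V, ∀ s ∈ V, r ≠ 1 → s ≠ 1 → ∀ a ∈ ws V r, ∀ b ∈ ws V s, a * b = b * a) :
    Nat.card (ws V z) = 8 := by
  obtain ⟨r, hr, hr1, hrz⟩ := h.exists_y
  obtain ⟨g, hg, e, h1⟩ := h.toGeoC.point hr hr1
  have hsV : z * r ∈ V := mul_mem h.z_mem hr
  have hs1 : z * r ≠ 1 := fun e => hrz (by
    rw [mul_eq_one_iff_eq_inv, h.inv_eq hr] at e; exact e.symm)
  have hsz : z * r ≠ z := fun e => hr1 (by simpa using e)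
  have hsr : z * r ≠ r := fun e => h.z_ne (by simpa using e)
  obtain ⟨P, hP⟩ := exists_P h hAT hA hmax hAV hcomm hr hr1 hrz
  obtain ⟨Q, hQ⟩ := exists_P h hAT hA hmax hAV hcomm hsV hs1 hsz
  -- `P ∩ Q = 1`
  have hinf : P ⊓ Q = ⊥ := by
    rw [eq_bot_iff]
    intro t ht
    rw [mem_bot]
    by_contra ht1
    have htV : t ∉ V := by
      intro htV
      rcases hP.inf t htV ht.1 with e1 | e1
      · exact ht1 e1
      · rcases hQ.inf t htV ht.2 with e2 | e2
        · exact ht1 e2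
        · exact hsr (by rw [← e2, e1])
    obtain ⟨k, hk, hkV, hkt⟩ := h.exists_transvection (hP.le ht.1) htV h.z_mem h.z_ne
    have h2 : k * t * k⁻¹ ∈ P ⊓ Q :=
      ⟨conj_mem_of_normalizer hP.norm hkV ht.1, conj_mem_of_normalizer hQ.norm hkV ht.2⟩
    have h3 : z ∈ P := by
      have := P.mul_mem h2.1 (P.inv_mem ht.1)
      rwa [hkt, mul_inv_cancel_right] at this
    rcases hP.inf z h.z_mem h3 with e1 | e1
    · exact h.z_ne e1
    · exact hrz e1.symm
  have hcard : Nat.card P * Nat.card Q ≤ Nat.card (dd V) := by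
    have h2 := card_comm (X := P) (Y := Q) (fun x hx y hy => h.dd_comm (hP.le hx) (hQ.le hy))
    rw [hinf, Subgroup.card_bot, mul_one] at h2
    rw [← h2]
    exact card_le_of_le (sup_le hP.le hQ.le)
  have hc1 := hP.card
  have hc2 := hP.cardD
  have hPpos : 0 < Nat.card P := Nat.card_pos
  have hQ2 : Nat.card Q ≤ 2 := by
    refine Nat.le_of_mul_le_mul_left ?_ hPpos
    have : Nat.card (dd V) = Nat.card P * 2 := by omega
    rw [← this]; exact hcard
  have hQge : 2 ≤ Nat.card Q := by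
    haveI : Nontrivial Q := ⟨⟨⟨z * r, hQ.mem⟩, 1, fun e => hs1 (congrArg Subtype.val e)⟩⟩
    exact Finite.one_lt_card
  have hc3 := hQ.card
  have hc4 := hQ.cardD
  have hcz : Nat.card (ws V z) = Nat.card (ws V r) := by
    rw [← e, ← cj_ws, card_cj]
  omega

/-- **`n ≥ 2` and `[V, J(T)] ≠ 1` imply `|V_z| = 8`** -/
theorem card_ws_of_jj {n : ℕ} (h : OddN T V z n) (hn : 2 ≤ n) (hJ : ¬ jj T ≤ centralizer (V : Set G)) :
    Nat.card (ws V z) = 8 := by
  obtain ⟨A, hA, hAV⟩ : ∃ A ∈ ChoiceBase.AA T, ¬ A ≤ centralizer (V : Set G) := by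
    by_contra hcon
    push Not at hcon
    apply hJ
    rw [ChoiceBase.jj_eq]
    exact sSup_le hcon
  have hel : ∀ {B : Subgroup G}, IsElementaryAbelian 2 B ↔ El B := by
    intro B
    rw [Cfsg.Agent.PLocal.ThompsonJ.isElementaryAbelian_iff]
    constructor
    · rintro ⟨h1, h2⟩
      exact ⟨h1, fun a ha => by rw [← pow_two]; exact h2 a ha⟩
    · rintro ⟨h1, h2⟩
      exact ⟨h1, fun a ha => by rw [pow_two]; exact h2 a ha⟩
  refine card_ws h.toOdd hA.2.1 (hel.mp hA.1) (fun B hB hB' => hA.2.2 B (hel.mpr hB') hB) hAV ?_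
  intro r hr s hs hr1 hs1 a ha b hb
  have hzr : Pt z r := by
    obtain ⟨g, -, e, -⟩ := h.toGeoC.point hr hr1
    exact ⟨g, e.symm⟩
  refine h.lt r s 1 (by omega) hzr ?_ a ha b hb
  rw [walk_one]
  by_cases hrs : r = s
  · exact Or.inl hrs
  · exact Or.inr ⟨hr1, hs1, hrs, V, ⟨⟨1, (cj_one V).symm⟩, hr⟩, hs⟩

end Cfsg.Agent.OddCyclic.EO.Two
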