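import Cfsg.Agent.OddCyclic.EO.Small

/-!
# `n = 2` and `|V_z| = 8` is impossible

No solvability is used.
-/

set_option autoImplicit false
set_option linter.unusedSectionVars false
set_option linter.style.haveILetI false

namespace Cfsg.Agent.OddCyclic.EO.TwoEight

open Subgroup Cfsg Cfsg.Agent.ZN Cfsg.Agent.MinSimple.Geo Cfsg.Agent.OddCyclic.GeoC Cfsg.Agent.OddCyclic.BTwoA
  Cfsg.Agent.OddCyclic.EO.Line Cfsg.Agent.OddCyclic.EO.Base
open Cfsg.Agent.ZN.Block (conj_mem_of_normalizer conj_mem_of_normalizer' le_normalizer_of_forall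
  mem_normalizer_of)

universe u

variable {G : Type u} [Group G] {T V : Subgroup G} {z x : G} {y p m : G}

/-- the facts on critical pairs -/
structure Star (V : Subgroup G) (z : G) : Prop where
  s1 : ∀ {x y p : G}, Crit V z 2 x y → Col V x p → Col V p y → ∀ a ∈ ws V x, ∀ b ∈ ws V y,
    a * b = b * a ∨ a * b = p * (b * a)
  s2 : ∀ {x y : G}, Crit V z 2 x y → ∀ a ∈ ws V x, ∀ a' ∈ ws V x, a ∉ centralizer (ws V y : Set G) →
    a' ∉ centralizer (ws V y : Set G) → a * a' ∈ centralizer (ws V y : Set G)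
  s3a : ∀ {x m : G}, Col V x m → ∀ u ∈ tt V 1 m, ∀ a ∈ ws V x, u * a * u⁻¹ = a ∨ u * a * u⁻¹ = m * a
  s3c : ∀ {x m : G}, Col V x m → ∃ u ∈ tt V 1 m, u ∉ centralizer (ws V x : Set G)
  sym : ∀ {x m m' u v : G}, Col V x m → Col V x m' → u ∈ tt V 1 m → u * m' * u⁻¹ ≠ m' → v ∈ tt V 1 m' →
    v ∉ centralizer (ws V x : Set G) → v * m * v⁻¹ = m' * m

theorem crit_of_comm_ne {x y : G} (hx : Pt z x) (hw : Walk V 2 x y) {a b : G} (ha : a ∈ ws V x)
    (hb : b ∈ ws V y) (hab : a * b ≠ b * a) : Crit V z 2 x y := ⟨hx, hw, a, ha, b, hb, hab⟩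

theorem col_conj_of_comm {x y c : G} (h : Col V x y) (hc : c * x = x * c) : Col V x (c * y * c⁻¹) := by
  have h1 := h.conj c
  rwa [hc, mul_inv_cancel_right] at h1

/-- `C(x)` is transitive on the points collinear with `x` -/
theorem conj_centralizer_ws {c x a : G} (ha : a ∈ centralizer (ws V x : Set G)) :
    c * a * c⁻¹ ∈ centralizer (ws V (c * x * c⁻¹) : Set G) := by
  refine mem_centralizer_iff.mpr fun w hw => ?_
  rw [← cj_ws, SetLike.mem_coe, mem_cj] at hw
  have h1 := mem_centralizer_iff.mp ha _ hw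
  calc w * (c * a * c⁻¹) = c * (c⁻¹ * w * c * a) * c⁻¹ := by group
    _ = c * (a * (c⁻¹ * w * c)) * c⁻¹ := by rw [h1]
    _ = c * a * c⁻¹ * w := by group


variable [Finite G]

theorem exists_middle (h : OddN T V z 2) (hc : Crit V z 2 x y) : ∃ p, Col V x p ∧ Col V p y := by
  obtain ⟨w, h1, h2⟩ := hc.head h
  refine ⟨w, h1, ?_⟩
  have h3 : Walk V 1 w y := h2
  rcases walk_one.mp h3 with rfl | h4
  · exact absurd h1.walk (hc.not_walk h (by norm_num))
  · exact h4


/-- ordered pairs of collinear points are conjugate -/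
theorem exists_conj {x' y' : G} (h : Line.Odd T V z) (h1 : Col V x y) (h2 : Col V x' y') :
    ∃ g : G, g * x * g⁻¹ = x' ∧ g * y * g⁻¹ = y' := by
  obtain ⟨g1, hg1, hy1, _⟩ := exists_geo h.toGeoC h1
  obtain ⟨g2, hg2, hy2, _⟩ := exists_geo h.toGeoC h2
  rw [mem_cj] at hy1 hy2
  set q := g1⁻¹ * y * g1 with hq
  set q' := g2⁻¹ * y' * g2 with hq'
  have hyq : y = g1 * q * g1⁻¹ := by rw [hq]; group
  have hyq' : y' = g2 * q' * g2⁻¹ := by rw [hq']; group
  have hq1 : q ≠ 1 := fun e => h1.2.1 (by rw [hyq, e]; group)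
  have hqz : q ≠ z := fun e => h1.2.2.1 (by rw [hyq, e, hg1])
  have hq'1 : q' ≠ 1 := fun e => h2.2.1 (by rw [hyq', e]; group)
  have hq'z : q' ≠ z := fun e => h2.2.2.1 (by rw [hyq', e, hg2])
  have hex : ∃ s : G, s * z * s⁻¹ = z ∧ s * q * s⁻¹ = q' := by
    rcases h.four h.z_mem hy1 h.z_ne hq1 (Ne.symm hqz) hy2 with e | e | e | e
    · exact absurd e hq'1
    · exact absurd e hq'z
    · exact ⟨1, by group, by rw [e]; group⟩
    · obtain ⟨s, hs, hs2⟩ := h.exists_swap
      refine ⟨s, ?_, ?_⟩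
      · rw [mem_centralizer_singleton_iff.mp (h.T_le hs.1)]; group
      · rw [hs2 q hy1 hq1 hqz, e]
  obtain ⟨s, hs1, hs2⟩ := hex
  refine ⟨g2 * s * g1⁻¹, ?_, ?_⟩
  · rw [hg1, hg2]
    calc g2 * s * g1⁻¹ * (g1 * z * g1⁻¹) * (g2 * s * g1⁻¹)⁻¹ = g2 * (s * z * s⁻¹) * g2⁻¹ := by group
      _ = g2 * z * g2⁻¹ := by rw [hs1]
  · rw [hyq, hyq']
    calc g2 * s * g1⁻¹ * (g1 * q * g1⁻¹) * (g2 * s * g1⁻¹)⁻¹ = g2 * (s * q * s⁻¹) * g2⁻¹ := by group
      _ = g2 * q' * g2⁻¹ := by rw [hs2]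

theorem exists_crit (h : OddN T V z 2) (hxm : Col V x m) : ∃ y, Col V m y ∧ Crit V z 2 x y := by
  obtain ⟨x0, y0, hx0, hw0, hne0⟩ := h.crit
  have hc0 : Crit V z 2 x0 y0 := ⟨hx0, hw0, hne0⟩
  obtain ⟨p0, h1, h2⟩ := exists_middle h hc0
  obtain ⟨g, hg1, hg2⟩ := exists_conj h.toOdd h1 hxm
  refine ⟨g * y0 * g⁻¹, ?_, ?_⟩
  · rw [← hg2]; exact h2.conj g
  · rw [← hg1]; exact hc0.conj g


/-- `tt V 1 m` centralizes the neighbours of `m` -/
theorem tt_comm (h : OddN T V z 2) {x m : G} (hc : Col V x m) {u : G} (hu : u ∈ tt V 1 m) :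
    u ∈ centralizer ({x} : Set G) := by
  have h1 := tt_le_centralizer_ws h (j := 1) (by norm_num) (hc.pt h.toGeoC) hu
  refine centralizer_le ?_ h1
  rintro _ rfl
  exact hc.symm.mem_ws


theorem notMem_of_ne {u a : G} (ha : a ∈ ws V x) (hu : u * a * u⁻¹ ≠ a) : u ∉ centralizer (ws V x : Set G) := by
  intro h1
  apply hu
  rw [← mem_centralizer_iff.mp h1 a ha, mul_inv_cancel_right]


theorem eq_mul_of_ne (hs : Star V z) {m u a : G} (hc : Col V x m) (hu : u ∈ tt V 1 m) (ha : a ∈ ws V x)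
    (hne : u * a * u⁻¹ ≠ a) : u * a * u⁻¹ = m * a := (hs.s3a hc u hu a ha).resolve_left hne

/-- `tt V 1 x` centralizes the points collinear with `x` -/
theorem tt_col (h : OddN T V z 2) {x m : G} (hc : Col V x m) {u : G} (hu : u ∈ tt V 1 x) : u * m = m * u :=
  mem_centralizer_singleton_iff.mp (tt_comm h hc.symm hu)

theorem tt_self (h : OddN T V z 2) {x : G} (hx : Pt z x) {u : G} (hu : u ∈ tt V 1 x) : u * x = x * u := by
  have h1 := tt_le_centralizer_ws h (j := 1) (by norm_num) hx hu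
  exact (mem_centralizer_iff.mp h1 x (self_mem_ws h.toGeoC hx)).symm

theorem tt_normal {x c u : G} (hc : c * x = x * c) (hu : u ∈ tt V 1 x) :
    c * u * c⁻¹ ∈ tt V 1 x := by
  have h1 := conj_mem_cj (g := c) hu
  rwa [cj_tt, hc, mul_inv_cancel_right] at h1

/-- commutators in `tt V 1 x` -/
theorem tt_comm_mem (hs : Star V z) (h : OddN T V z 2) {x : G} (hx : Pt z x) {a b : G} (ha : a ∈ tt V 1 x)
    (hb : b ∈ tt V 1 x) : a * b * a⁻¹ * b⁻¹ ∈ zpowers x := by
  have hC : ∀ {u}, u ∈ tt V 1 x → u ∈ centralizer ({x} : Set G) := fun hu =>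
    mem_centralizer_singleton_iff.mpr (tt_self h hx hu)
  have hcx : ∀ {c y : G}, c ∈ centralizer ({x} : Set G) → y ∈ zpowers x → c * y * c⁻¹ = y := by
    rintro c y hc ⟨n, rfl⟩
    have h1 : Commute c (x ^ n) := (show Commute c x from mem_centralizer_singleton_iff.mp hc).zpow_right n
    change c * x ^ n * c⁻¹ = x ^ n
    rw [h1.eq, mul_inv_cancel_right]
  -- the elements commuting with `g` modulo `⟨x⟩`
  let B : G → Subgroup G := fun g =>
    { carrier := {b | b ∈ centralizer ({x} : Set G) ∧ g * b * g⁻¹ * b⁻¹ ∈ zpowers x}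
      mul_mem' := by
        rintro a b ⟨ha, ha1⟩ ⟨hb, hb1⟩
        refine ⟨mul_mem ha hb, ?_⟩
        have e : g * (a * b) * g⁻¹ * (a * b)⁻¹ = (g * a * g⁻¹ * a⁻¹) * (a * (g * b * g⁻¹ * b⁻¹) * a⁻¹) := by group
        rw [e, hcx ha hb1]
        exact mul_mem ha1 hb1
      one_mem' := ⟨one_mem _, by simp⟩
      inv_mem' := by
        rintro a ⟨ha, ha1⟩
        refine ⟨inv_mem ha, ?_⟩
        have e : g * a⁻¹ * g⁻¹ * a⁻¹⁻¹ = (a⁻¹ * (g * a * g⁻¹ * a⁻¹) * a⁻¹⁻¹)⁻¹ := by group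
        rw [e, hcx (inv_mem ha) ha1]
        exact inv_mem ha1 }
  have hgen : ∀ w w', Walk V 1 x w → Walk V 1 x w' → ∀ a ∈ ws V w, ∀ b ∈ ws V w', a * b * a⁻¹ * b⁻¹ ∈ zpowers x := by
    intro w w' hw hw' a ha b hb
    by_cases hab : a * b = b * a
    · rw [hab]; simp
    rcases walk_one.mp hw with rfl | hw1
    · exfalso
      exact hab (h.lt x w' 1 (by norm_num) hx hw' a ha b hb)
    rcases walk_one.mp hw' with rfl | hw1'
    · exfalso
      exact hab (h.lt w x 1 (by norm_num) (hw1.pt h.toGeoC) hw.symm a ha b hb)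
    have hcr : Crit V z 2 w w' := crit_of_comm_ne (hw1.pt h.toGeoC) (hw1.symm.walk.trans hw1'.walk) ha hb hab
    rcases hs.s1 hcr hw1.symm hw1' a ha b hb with e | e
    · exact absurd e hab
    · rw [e]
      have e2 : x * (b * a) * a⁻¹ * b⁻¹ = x := by group
      rw [e2]; exact mem_zpowers x
  have h1 : ∀ w, Walk V 1 x w → ∀ a ∈ ws V w, tt V 1 x ≤ B a := by
    intro w hw a ha
    refine tt_le fun w' hw' b hb => ⟨hC (ws_le_tt hw' hb), hgen w w' hw hw' a ha b hb⟩
  have h2 : tt V 1 x ≤ B b := by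
    refine tt_le fun w hw a ha => ⟨hC (ws_le_tt hw ha), ?_⟩
    have h3 := (h1 w hw a ha hb).2
    have h4 := inv_mem h3
    have e : (a * b * a⁻¹ * b⁻¹)⁻¹ = b * a * b⁻¹ * a⁻¹ := by group
    rwa [e] at h4
  have h3 := inv_mem (h2 ha).2
  have e : (b * a * b⁻¹ * a⁻¹)⁻¹ = a * b * a⁻¹ * b⁻¹ := by group
  rwa [e] at h3

/-- squares in `tt V 1 x` -/
theorem tt_sq_mem (hs : Star V z) (h : OddN T V z 2) {x : G} (hx : Pt z x) {a : G} (ha : a ∈ tt V 1 x) :
    a * a ∈ zpowers x := by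
  have hcx : ∀ {c y : G}, c ∈ tt V 1 x → y ∈ zpowers x → c * y = y * c := by
    rintro c y hc ⟨n, rfl⟩
    exact (show Commute c x from tt_self h hx hc).zpow_right n
  let B : Subgroup G :=
    { carrier := {b | b ∈ tt V 1 x ∧ b * b ∈ zpowers x}
      mul_mem' := by
        rintro a b ⟨ha, ha1⟩ ⟨hb, hb1⟩
        refine ⟨mul_mem ha hb, ?_⟩
        have h1 := tt_comm_mem hs h hx hb ha
        have e : a * b * (a * b) = a * (b * a * b⁻¹ * a⁻¹) * a * (b * b) := by group
        rw [e, hcx ha h1, mul_assoc (b * a * b⁻¹ * a⁻¹)]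
        exact mul_mem (mul_mem h1 ha1) hb1
      one_mem' := ⟨one_mem _, by simp⟩
      inv_mem' := by
        rintro a ⟨ha, ha1⟩
        refine ⟨inv_mem ha, ?_⟩
        have e : a⁻¹ * a⁻¹ = (a * a)⁻¹ := by group
        rw [e]; exact inv_mem ha1 }
  have h1 : tt V 1 x ≤ B := by
    refine tt_le fun w hw a ha => ⟨ws_le_tt hw ha, ?_⟩
    rw [ws_sq h.toOdd (Walk.pt h.toGeoC hx hw) ha]
    exact one_mem _
  exact (h1 ha).2

/-- **(SQ)** -/
theorem sq_comm (hs : Star V z) (h : OddN T V z 2) {x y u w : G} (hc : Col V x y) (hu : u ∈ tt V 1 x)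
    (hw : w ∈ tt V 1 y) (hww : w * w = 1) : w * (u * w * u⁻¹) = (u * w * u⁻¹) * w := by
  have hx : Pt z x := hc.pt_left h.toGeoC
  have hy : Pt z y := hc.pt h.toGeoC
  have huy : u * y = y * u := tt_col h hc hu
  have hwx : w * x = x * w := tt_col h hc.symm hw
  have hwi : w⁻¹ = w := inv_eq_of_mul_eq_one_left hww
  set c := w * u * w⁻¹ * u⁻¹ with hcdef
  have hcx : c ∈ tt V 1 x := mul_mem (tt_normal hwx hu) (inv_mem hu)
  have hcy : c ∈ tt V 1 y := by
    have e : c = w * (u * w⁻¹ * u⁻¹) := by rw [hcdef]; group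
    rw [e]
    exact mul_mem hw (tt_normal huy (inv_mem hw))
  have hcc : c * c = 1 := by
    have h1 := tt_sq_mem hs h hx hcx
    have h2 := tt_sq_mem hs h hy hcy
    rcases (mem_zpowers_iff_of_mul_self (Base.Pt.sq h.toGeoC hx)).mp h1 with e | e
    · exact e
    · rcases (mem_zpowers_iff_of_mul_self (Base.Pt.sq h.toGeoC hy)).mp h2 with e' | e'
      · exact e'
      · exfalso; exact hc.2.2.1 (e.symm.trans e')
  have hci : c⁻¹ = c := inv_eq_of_mul_eq_one_left hcc
  have h3 : w * c * w⁻¹ = c⁻¹ := by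
    rw [hcdef]
    have e1 : w * (w * u * w⁻¹ * u⁻¹) * w⁻¹ = (w * w) * u * w⁻¹ * u⁻¹ * w⁻¹ := by group
    have e2 : (w * u * w⁻¹ * u⁻¹)⁻¹ = u * w * u⁻¹ * w⁻¹ := by group
    rw [e1, e2, hww, one_mul, hwi]
  rw [hci] at h3
  have h4 : w * c = c * w := by
    calc w * c = (w * c * w⁻¹) * w := by group
      _ = c * w := by rw [h3]
  have h5 : u * w * u⁻¹ = w⁻¹ * c := by
    calc u * w * u⁻¹ = u * w⁻¹ * u⁻¹ := by rw [hwi]
      _ = w⁻¹ * c := by rw [hcdef]; group
  rw [h5, mul_assoc, ← h4]; group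

/-- conjugating by a noncentralizing element: the point `m * m'` -/
theorem mem_centralizer_conj_iff {c x a : G} (hca : c * a = a * c) :
    a ∈ centralizer (ws V (c * x * c⁻¹) : Set G) ↔ a ∈ centralizer (ws V x : Set G) := by
  constructor
  · intro h1
    have h2 := conj_centralizer_ws (V := V) (c := c⁻¹) h1
    have e1 : c⁻¹ * (c * x * c⁻¹) * c⁻¹⁻¹ = x := by group
    have e2 : c⁻¹ * a * c⁻¹⁻¹ = a := by
      rw [inv_inv, mul_assoc, ← hca]; group
    rwa [e1, e2] at h2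
  · intro h1
    have h2 := conj_centralizer_ws (V := V) (c := c) h1
    rwa [hca, mul_inv_cancel_right] at h2

/-- **(6)** `tt V 1 p'` centralizes `p` for a critical pair `p`, `p'` -/
theorem tt_fix (hs : Star V z) (h : OddN T V z 2) {p p' r : G} (hc : Crit V z 2 p p') (hpr : Col V p r)
    (hrp : Col V r p') {u : G} (hu : u ∈ tt V 1 p') : u * p * u⁻¹ = p := by
  by_contra hup
  have hp : Pt z p := hc.pt
  have hp' : Pt z p' := hrp.pt h.toGeoC
  have h1 : u * p * u⁻¹ = p' * p := eq_mul_of_ne hs hrp hu hpr.symm.mem_ws hup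
  obtain ⟨v, hv, hvn⟩ := hs.s3c hpr.symm
  have h2 : v * p' * v⁻¹ = p * p' := hs.sym hrp hpr.symm hu hup hv hvn
  obtain ⟨a, ha, b, hb, hab⟩ := hc.2.2
  have han : a ∉ centralizer (ws V p' : Set G) := fun hcon => hab (mem_centralizer_iff.mp hcon b hb).symm
  -- the commutation of `p` and `p'`
  have hpp : p * p' = p' * p := by
    have hr : Pt z r := hrp.pt_left h.toGeoC
    exact ws_comm h.toOdd hr hpr.symm.mem_ws hrp.mem_ws
  set q := p' * p with hq
  have h2' : v * p' * v⁻¹ = q := by rw [h2, hpp]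
  have haU : a ∈ tt V 1 r := ws_le_tt hpr.symm.walk ha
  have haa : a * a = 1 := ws_sq h.toOdd hp ha
  have hcomm := sq_comm hs h hrp.symm hu haU haa
  set a2 := u * a * u⁻¹ with ha2
  have ha2q : a2 ∈ ws V q := by
    rw [← h1, ← cj_ws]
    exact conj_mem_cj ha
  -- `v` centralizes `ws V p`
  have hvW : ∀ w ∈ ws V p, v * w = w * v := fun w hw =>
    (mem_centralizer_iff.mp (tt_le_centralizer_ws h (j := 1) (by norm_num) hp hv) w hw).symm
  have huW : ∀ w ∈ ws V p', u * w = w * u := fun w hw =>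
    (mem_centralizer_iff.mp (tt_le_centralizer_ws h (j := 1) (by norm_num) hp' hu) w hw).symm
  have haq : a ∉ centralizer (ws V q : Set G) := by
    rw [← h2', mem_centralizer_conj_iff (hvW a ha)]
    exact han
  -- `a2` does not centralize `ws V p`
  have ha2n : a2 ∉ centralizer (ws V p : Set G) := by
    intro hcon
    have h3 := conj_centralizer_ws (V := V) (c := u⁻¹) hcon
    have e1 : u⁻¹ * a2 * u⁻¹⁻¹ = a := by rw [ha2]; group
    have e2 : u⁻¹ * p * u⁻¹⁻¹ = q := by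
      have e3 : u * q * u⁻¹ = p := by
        have hp1 : p' * p' = 1 := Base.Pt.sq h.toGeoC hp'
        calc u * q * u⁻¹ = (u * p') * u⁻¹ * (u * p * u⁻¹) := by rw [hq]; group
          _ = p' * (p' * p) := by rw [huW p' (self_mem_ws h.toGeoC hp'), h1, hq]; group
          _ = p := by rw [← mul_assoc, hp1, one_mul]
      calc u⁻¹ * p * u⁻¹⁻¹ = u⁻¹ * (u * q * u⁻¹) * u := by rw [e3, inv_inv]
        _ = q := by group
    rw [e1, e2] at h3
    exact haq h3
  -- `p`, `q` is critical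
  have hrq : Col V r q := by
    rw [← h1]
    refine col_conj_of_comm hpr.symm ?_
    exact tt_col h hrp.symm hu
  have hw2 : Walk V 2 p q := hpr.walk.trans hrq.walk
  obtain ⟨a1, ha1, ha12⟩ : ∃ a1 ∈ ws V p, a1 * a2 ≠ a2 * a1 := by
    by_contra hcon
    push Not at hcon
    exact ha2n (mem_centralizer_iff.mpr hcon)
  have hcr : Crit V z 2 p q := crit_of_comm_ne hp hw2 ha1 ha2q ha12
  have ha1n : a1 ∉ centralizer (ws V q : Set G) := fun hcon => ha12 (mem_centralizer_iff.mp hcon a2 ha2q).symm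
  have h4 := hs.s2 hcr a ha a1 ha1 haq ha1n
  have h5 := mem_centralizer_iff.mp h4 a2 ha2q
  apply ha12
  have h6 : a * (a1 * a2) = a * (a2 * a1) := by
    calc a * (a1 * a2) = a * a1 * a2 := by group
      _ = a2 * (a * a1) := h5.symm
      _ = (a2 * a) * a1 := by group
      _ = a * (a2 * a1) := by rw [← hcomm]; group
  exact mul_left_cancel h6


/-! ### `|V_z| = 8` -/

section eight

variable {n : ℕ}

/-- `dd V = V` -/
theorem dd_eq (h : Odd T V z) (h8 : Nat.card (ws V z) = 8) : dd V = V := by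
  have h1 : ws V z ≠ dd V := by
    intro e
    have h1 := h.core (ws V z) (h.two.to_le h.ws_le_T) (by rw [e]; exact normalizer_le_normalizer_dd V)
      (Cfsg.Agent.MinSimple.Geo.centralizer_le_normalizer_ws V z)
    have h2 : z ∈ ws V z := h.V_le_ws h.z_mem
    rw [h1, mem_bot] at h2
    exact h.z_ne h2
  have h2 : dd V ≤ ws V z := h.dd_le_ws h.z_mem h.z_ne
  have h3 : Nat.card (dd V) ∣ 8 := by rw [← h8]; exact Subgroup.card_dvd_of_le h2
  have h4 : Nat.card V ≤ Nat.card (dd V) := card_le_of_le h.V_le_dd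
  have h5 : Nat.card (dd V) ≠ 8 := fun e => h1 (Subgroup.eq_of_le_of_card_ge h2 (by rw [h8, e])).symm
  have h6 : Nat.card (dd V) = 4 := by
    rw [h.card_V] at h4
    have h7 : Nat.card (dd V) ∈ Nat.divisors 8 := Nat.mem_divisors.mpr ⟨h3, by norm_num⟩
    have e : Nat.divisors 8 = {1, 2, 4, 8} := by decide
    rw [e] at h7
    simp only [Finset.mem_insert, Finset.mem_singleton] at h7
    omega
  exact (Subgroup.eq_of_le_of_card_ge h.V_le_dd (by rw [h.card_V, h6])).symm

theorem card8 (_ : Odd T V z) (h8 : Nat.card (ws V z) = 8) {x : G} (hx : Pt z x) : Nat.card (ws V x) = 8 := by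
  obtain ⟨g, rfl⟩ := hx
  rw [← cj_ws, card_cj, h8]

/-- the line of two collinear points -/
theorem exists_line (h : Odd T V z) (h8 : Nat.card (ws V z) = 8) {x m : G} (hc : Col V m x) :
    ∃ g : G, m = g * z * g⁻¹ ∧ x ∈ cj g V ∧ Odd (cj g T) (cj g V) m ∧ ws V m ⊓ ws V x = cj g V := by
  obtain ⟨g, hg, hx, h1⟩ := exists_odd_col h hc
  refine ⟨g, hg, hx, h1, ?_⟩
  have h2 := h1.inf_eq_dd h1.z_mem h1.z_ne hx hc.2.1 hc.2.2.1
  rw [ws_cj, ws_cj] at h2
  rw [h2]
  refine dd_eq h1 ?_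
  rw [ws_cj]; exact card8 h h8 (hc.pt_left h.toGeoC)

/-- `ws V m` has index at most two in `ws V x` -/
theorem index_two (h : Odd T V z) (h8 : Nat.card (ws V z) = 8) {x m a c : G} (hc : Col V m x) (ha : a ∈ ws V x)
    (ham : a ∉ ws V m) (hcx : c ∈ ws V x) : c ∈ ws V m ∨ a * c ∈ ws V m := by
  by_contra hcon
  push Not at hcon
  obtain ⟨g, hg, hx, h1, hinf⟩ := exists_line h h8 hc
  have hx8 := card8 h h8 (hc.pt h.toGeoC)
  set L := cj g V with hL
  have hLx : L ≤ ws V x := hinf ▸ inf_le_right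
  have hL4 : Nat.card L = 4 := h1.card_V
  -- the cosets `L`, `aL`, `cL` are disjoint
  have hnot : ∀ {u : G}, u ∈ ws V x → u ∉ ws V m → u ∉ L := by
    intro u _ hu hu2
    rw [← hinf] at hu2
    exact hu hu2.1
  have e0 : ({1, a, c} : Set G) ⊆ ws V x := by
    rintro u (rfl | rfl | rfl)
    · exact one_mem _
    · exact ha
    · exact hcx
  let f : Fin 3 × L → ws V x := fun p => ⟨(![1, a, c] p.1) * p.2, by
    refine mul_mem ?_ (hLx p.2.2)
    rcases p with ⟨i, l⟩
    fin_cases i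
    · exact one_mem _
    · exact ha
    · exact hcx⟩
  have hinj : Function.Injective f := by
    rintro ⟨i, l⟩ ⟨j, l'⟩ hij
    have h2 : (![1, a, c] i) * (l : G) = (![1, a, c] j) * (l' : G) := congrArg (fun y : ws V x => (y : G)) hij
    have haL := hnot ha ham
    have hcL := hnot hcx hcon.1
    have hacL : a * c ∉ L := hnot (mul_mem ha hcx) hcon.2
    have hainv : a⁻¹ = a := ws_inv h (hc.pt h.toGeoC) ha
    have hcinv : c⁻¹ = c := ws_inv h (hc.pt h.toGeoC) hcx
    have hcomm : a * c = c * a := ws_comm h (hc.pt h.toGeoC) ha hcx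
    have key : (![1, a, c] j)⁻¹ * (![1, a, c] i) ∈ L := by
      have : (![1, a, c] j)⁻¹ * (![1, a, c] i) = (l' : G) * (l : G)⁻¹ := by
        calc (![1, a, c] j)⁻¹ * (![1, a, c] i) = (![1, a, c] j)⁻¹ * ((![1, a, c] i) * (l : G)) * (l : G)⁻¹ := by group
          _ = (l' : G) * (l : G)⁻¹ := by rw [h2]; group
      rw [this]
      exact mul_mem l'.2 (inv_mem l.2)
    have hij' : i = j := by
      fin_cases i <;> fin_cases j <;> simp at key ⊢
      · exact haL key
      · exact hcL key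
      · exact haL key
      · rw [hcinv] at key; exact hacL (by rw [hcomm]; exact key)
      · exact hcL key
      · rw [hainv] at key; exact hacL key
    subst hij'
    exact Prod.ext rfl (Subtype.ext (mul_left_cancel h2))
  have h3 := Nat.card_le_card_of_injective f hinj
  rw [Nat.card_prod, Nat.card_eq_fintype_card (α := Fin 3), Fintype.card_fin, hL4, hx8] at h3
  omega

/-- `ws V x ∩ ws V m` contains no point collinear with `m` on another line -/
theorem walk_of_mem (h : Odd T V z) (h8 : Nat.card (ws V z) = 8) {x m y c : G} (hx : Col V m x) (hy : Col V m y)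
    (h1 : c ∈ ws V m ⊓ ws V x) (h2 : c ∈ ws V m ⊓ ws V y) (hc1 : c ≠ 1) (hcm : c ≠ m) : Walk V 1 x y := by
  obtain ⟨g, -, hxg, o1, e1⟩ := exists_line h h8 hx
  obtain ⟨g', -, hyg, o2, e2⟩ := exists_line h h8 hy
  rw [e1] at h1
  rw [e2] at h2
  have hsub : cj g' V = cj g V := by
    refine Subgroup.eq_of_le_of_card_ge (fun u hu => ?_) (by rw [card_cj, card_cj])
    rcases o2.four o2.z_mem h2 o2.z_ne hc1 (Ne.symm hcm) hu with e | e | e | e
    · rw [e]; exact one_mem _
    · rw [e]; exact o1.z_mem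
    · rw [e]; exact h1
    · rw [e]; exact mul_mem o1.z_mem h1
  rw [walk_one]
  by_cases hxy : x = y
  · exact Or.inl hxy
  · exact Or.inr ⟨hx.2.1, hy.2.1, hxy, cj g V, ⟨⟨g, rfl⟩, hxg⟩, by rw [← hsub]; exact hyg⟩

/-- commutators of neighbours -/
theorem comm_nb (h : OddN T V z 2) (h8 : Nat.card (ws V z) = 8) {x m y a b : G} (hx : Col V m x) (hy : Walk V 1 m y)
    (ha : a ∈ ws V x) (hb : b ∈ ws V y) : b * a * b⁻¹ * a⁻¹ ∈ zpowers m := by
  by_cases hab : a * b = b * a
  · rw [← hab, mul_inv_cancel_right, mul_inv_cancel]; exact one_mem _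
  rcases walk_one.mp hy with rfl | hy1
  · exact absurd (h.lt x m 1 (by norm_num) (hx.pt h.toGeoC) hx.symm.walk a ha b hb) hab
  have hm : Pt z m := hx.pt_left h.toGeoC
  have hbU : b ∈ tt V 1 m := ws_le_tt hy hb
  have haU : a ∈ tt V 1 m := ws_le_tt hx.walk ha
  have hbx : b * x = x * b := tt_col h hx hbU
  have hay : a * y = y * a := tt_col h hy1 haU
  have hax : b * a * b⁻¹ ∈ ws V x := by
    have := conj_mem_cj (g := b) ha
    rwa [cj_ws_eq hbx] at this
  have hby : a * b⁻¹ * a⁻¹ ∈ ws V y := by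
    have := conj_mem_cj (g := a) (inv_mem hb)
    rwa [cj_ws_eq hay] at this
  set c := b * a * b⁻¹ * a⁻¹ with hcd
  have hcx : c ∈ ws V x := mul_mem hax (inv_mem ha)
  have hcy : c ∈ ws V y := by
    have e : c = b * (a * b⁻¹ * a⁻¹) := by rw [hcd]; group
    rw [e]; exact mul_mem hb hby
  have hbm : ∀ v ∈ ws V m, b * v = v * b := fun v hv =>
    (mem_centralizer_iff.mp (tt_le_centralizer_ws h (j := 1) (by norm_num) hm hbU) v hv).symm
  have ham : ∀ v ∈ ws V m, a * v = v * a := fun v hv =>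
    (mem_centralizer_iff.mp (tt_le_centralizer_ws h (j := 1) (by norm_num) hm haU) v hv).symm
  have hbc : b * c = c * b := ws_comm h.toOdd (hy1.pt h.toGeoC) hb hcy
  have hac : a * c = c * a := ws_comm h.toOdd (hx.pt h.toGeoC) ha hcx
  have hcm : c ∈ ws V m := by
    by_contra hcm
    rcases index_two h.toOdd h8 hx hcx hcm ha with h1 | h1
    · exact hab (hbm a h1).symm
    · have h2 := hbm _ h1
      apply hab
      have h3 : c * (b * a) = c * (a * b) := by
        calc c * (b * a) = (b * c) * a := by rw [hbc]; group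
          _ = b * (c * a) := by group
          _ = c * a * b := h2
          _ = c * (a * b) := by group
      exact (mul_left_cancel h3).symm
  by_cases hc1 : c = 1
  · rw [hc1]; exact one_mem _
  by_cases hcm' : c = m
  · rw [hcm']; exact mem_zpowers m
  exfalso
  exact hab (h.lt x y 1 (by norm_num) (hx.pt h.toGeoC)
    (walk_of_mem h.toOdd h8 hx hy1 ⟨hcm, hcx⟩ ⟨hcm, hcy⟩ hc1 hcm') a ha b hb)

theorem s3a (h : OddN T V z 2) (h8 : Nat.card (ws V z) = 8) {x m : G} (hxm : Col V x m) :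
    ∀ u ∈ tt V 1 m, ∀ a ∈ ws V x, u * a * u⁻¹ = a ∨ u * a * u⁻¹ = m * a := by
  have hm : Pt z m := hxm.pt h.toGeoC
  have hcx : ∀ {c y : G}, c * m = m * c → y ∈ zpowers m → c * y * c⁻¹ = y := by
    rintro c y hc ⟨n, rfl⟩
    have h1 : Commute c (m ^ n) := (show Commute c m from hc).zpow_right n
    change c * m ^ n * c⁻¹ = m ^ n
    rw [h1.eq, mul_inv_cancel_right]
  let B : Subgroup G :=
    { carrier := {u | u * m = m * u ∧ ∀ a ∈ ws V x, u * a * u⁻¹ * a⁻¹ ∈ zpowers m}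
      mul_mem' := by
        rintro u v ⟨hu, hu1⟩ ⟨hv, hv1⟩
        refine ⟨by rw [mul_assoc, hv, ← mul_assoc, hu, mul_assoc], fun a ha => ?_⟩
        have e : u * v * a * (u * v)⁻¹ * a⁻¹ = (u * (v * a * v⁻¹ * a⁻¹) * u⁻¹) * (u * a * u⁻¹ * a⁻¹) := by group
        rw [e, hcx hu (hv1 a ha)]
        exact mul_mem (hv1 a ha) (hu1 a ha)
      one_mem' := ⟨by group, fun a _ => by simp⟩
      inv_mem' := by
        rintro u ⟨hu, hu1⟩
        have hu' : u⁻¹ * m = m * u⁻¹ := ((show Commute u m from hu).inv_left).eq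
        refine ⟨hu', fun a ha => ?_⟩
        have e : u⁻¹ * a * u⁻¹⁻¹ * a⁻¹ = (u⁻¹ * (u * a * u⁻¹ * a⁻¹) * u⁻¹⁻¹)⁻¹ := by group
        rw [e, hcx hu' (hu1 a ha)]
        exact inv_mem (hu1 a ha) }
  intro u hu a ha
  have h1 : tt V 1 m ≤ B := by
    refine tt_le fun y hy b hb => ⟨tt_self h hm (ws_le_tt hy hb), fun a ha => ?_⟩
    exact comm_nb h h8 hxm.symm hy ha hb
  have h2 := (h1 hu).2 a ha
  rcases (mem_zpowers_iff_of_mul_self (Base.Pt.sq h.toGeoC hm)).mp h2 with e | e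
  · left; exact mul_inv_eq_one.mp e
  · right; rw [← e]; group

theorem star (h : OddN T V z 2) (h8 : Nat.card (ws V z) = 8) : Star V z where
  s1 := by
    intro x y p hc hxp hpy a ha b hb
    have hp := Base.Pt.sq h.toGeoC (hxp.pt h.toGeoC)
    rcases s3a h h8 hxp b (ws_le_tt hpy.walk hb) a ha with e | e
    · left
      rw [mul_inv_eq_iff_eq_mul] at e; exact e.symm
    · right
      rw [mul_inv_eq_iff_eq_mul] at e
      calc a * b = (p * p) * (a * b) := by rw [hp, one_mul]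
        _ = p * (p * a * b) := by group
        _ = p * (b * a) := by rw [← e]
  s2 := by
    intro x y hc a ha a' ha' hn hn'
    obtain ⟨p, hxp, hpy⟩ := exists_middle h hc
    have hcen : ∀ v ∈ ws V p, v ∈ centralizer (ws V y : Set G) := by
      intro v hv
      rw [mem_centralizer_iff]
      intro b hb
      have h1 := tt_le_centralizer_ws h (j := 1) (by norm_num) (hxp.pt h.toGeoC) (ws_le_tt hpy.walk hb)
      exact (mem_centralizer_iff.mp h1 v hv).symm
    rcases index_two h.toOdd h8 hxp.symm ha (fun e => hn (hcen a e)) ha' with h1 | h1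
    · exact absurd (hcen a' h1) hn'
    · exact hcen _ h1
  s3a := fun hxm => s3a h h8 hxm
  s3c := by
    intro x m hxm
    obtain ⟨y, hmy, -, -, a, ha, b, hb, hab⟩ := exists_crit h hxm
    exact ⟨b, ws_le_tt hmy.walk hb, fun hcon => hab (mem_centralizer_iff.mp hcon a ha)⟩
  sym := by
    intro x m m' u v hm hm' hu hum hv hvn
    refine (s3a h h8 hm' v hv m hm.mem_ws).resolve_left fun e => ?_
    have hx := hm.pt_left h.toGeoC
    have hvm' : ∀ w ∈ ws V m', v * w = w * v := fun w hw =>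
      (mem_centralizer_iff.mp (tt_le_centralizer_ws h (j := 1) (by norm_num) (hm'.pt h.toGeoC) hv) w hw).symm
    have hvm : v * m = m * v := mul_inv_eq_iff_eq_mul.mp e
    by_cases hmm : m ∈ ws V m'
    · -- then `m' ∈ ws V m`
      apply hum
      have h1 : m' ∈ ws V m := by
        by_cases hmx : m = m'
        · rw [hmx]; exact self_mem_ws h.toGeoC (hm'.pt h.toGeoC)
        obtain ⟨g, hg, hxg, o1, hinf⟩ := exists_line h.toOdd h8 hm'.symm
        have h2 : m ∈ cj g V := by rw [← hinf]; exact ⟨hmm, hm.mem_ws⟩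
        have h3 : cj g V ∈ lines V m := ⟨⟨g, rfl⟩, h2⟩
        exact le_ws h3 o1.z_mem
      have h4 := mem_centralizer_iff.mp (tt_le_centralizer_ws h (j := 1) (by norm_num) (hm.pt h.toGeoC) hu) m' h1
      rw [← h4, mul_inv_cancel_right]
    · apply hvn
      rw [mem_centralizer_iff]
      intro c hc
      rcases index_two h.toOdd h8 hm'.symm hm.mem_ws hmm hc with h1 | h1
      · exact (hvm' c h1).symm
      · have h2 := hvm' _ h1
        have h3 : m * (v * c) = m * (c * v) := by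
          calc m * (v * c) = v * (m * c) := by rw [← mul_assoc, ← hvm, mul_assoc]
            _ = m * c * v := h2
            _ = m * (c * v) := by group
        exact (mul_left_cancel h3).symm

/-- **`n = 2`, `|V_z| = 8` is impossible** -/
theorem false_of_two (h : OddN T V z 2) (h8 : Nat.card (ws V z) = 8) : False := by
  have hs := star h h8
  obtain ⟨p, p', hp, hw, hex⟩ := h.crit
  have hc : Crit V z 2 p p' := ⟨hp, hw, hex⟩
  obtain ⟨r, hpr, hrp⟩ := exists_middle h hc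
  obtain ⟨u, hu, hun⟩ := hs.s3c hrp
  have h1 := tt_fix hs h hc hpr hrp hu
  have hup : u * p = p * u := mul_inv_eq_iff_eq_mul.mp h1
  have hpn : p ∉ ws V p' := by
    intro hpp
    obtain ⟨a, ha, b, hb, hab⟩ := hex
    obtain ⟨g, hg, hrg, o1, hinf⟩ := exists_line h.toOdd h8 hrp.symm
    have h2 : p ∈ cj g V := by rw [← hinf]; exact ⟨hpp, hpr.symm.mem_ws⟩
    apply hab
    refine h.lt p p' 1 (by norm_num) hp ?_ a ha b hb
    rw [walk_one]
    by_cases e : p = p'
    · exact Or.inl e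
    · exact Or.inr ⟨hpr.1, hrp.2.1, e, cj g V, ⟨⟨g, rfl⟩, h2⟩, o1.z_mem⟩
  have hup' : ∀ w ∈ ws V p', u * w = w * u := fun w hw =>
    (mem_centralizer_iff.mp (tt_le_centralizer_ws h (j := 1) (by norm_num) (hrp.pt h.toGeoC) hu) w hw).symm
  apply hun
  rw [mem_centralizer_iff]
  intro c hc'
  rcases index_two h.toOdd h8 hrp.symm hpr.symm.mem_ws hpn hc' with h2 | h2
  · exact (hup' c h2).symm
  · have h3 := hup' _ h2
    have h4 : p * (u * c) = p * (c * u) := by
      calc p * (u * c) = u * (p * c) := by rw [← mul_assoc, ← hup, mul_assoc]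
        _ = p * c * u := h3
        _ = p * (c * u) := by group
    exact (mul_left_cancel h4).symm

/-- **`n ≥ 2`, `|V_z| = 8` is impossible** -/
theorem not_two (h : OddN T V z n) (hn : 2 ≤ n) (h8 : Nat.card (ws V z) = 8) : False := by
  have h1 := Small.le_two_of_card_eight h h8
  have h2 : n = 2 := by omega
  subst h2
  exact false_of_two h h8

end eight

end Cfsg.Agent.OddCyclic.EO.TwoEight
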