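import Cfsg.Agent.OddCyclic.EO.One
import Cfsg.Agent.OddCyclic.EO.Two
import Cfsg.Agent.OddCyclic.EO.TwoEight

/-!
# `n = 1` implies `k = 1`
-/

set_option autoImplicit false
set_option linter.unusedSectionVars false
set_option linter.style.haveILetI false

namespace Cfsg.Agent.OddCyclic.EO.OneOf

open Subgroup Cfsg Cfsg.Agent.ZN Cfsg.Agent.MinSimple.Geo Cfsg.Agent.OddCyclic.GeoC Cfsg.Agent.OddCyclic.BTwoA
  Cfsg.Agent.OddCyclic.EO.Line Cfsg.Agent.OddCyclic.EO.Base Cfsg.Agent.OddCyclic.EO.RepM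
  Cfsg.Agent.OddCyclic.EO.Fit Cfsg.Agent.OddCyclic.EO.FitB Cfsg.Agent.OddCyclic.EO.Sit Cfsg.Agent.OddCyclic.EO.Two
open Cfsg.Agent.ZN.Block (conj_mem_of_normalizer conj_mem_of_normalizer' le_normalizer_of_forall
  mem_normalizer_of)

universe u

variable {G : Type u} [Group G] [Finite G] {T V : Subgroup G} {z x y : G}

theorem ws_le_kq (h : Odd T V z) (hy : Pt z y) : ws V y ≤ kq V y := by
  intro a ha
  have h1 : a ∈ centralizer (ws V y : Set G) := ws_le_centralizer_ws h hy ha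
  have h2 : ∀ w ∈ ws V y, a * w * a⁻¹ * w⁻¹ = 1 := fun w hw => by
    rw [← mem_centralizer_iff.mp h1 w hw]; group
  have h3 : ∀ w ∈ ws V y, a⁻¹ * w * a * w⁻¹ = 1 := fun w hw => by
    have h4 := mem_centralizer_iff.mp h1 w hw
    calc a⁻¹ * w * a * w⁻¹ = a⁻¹ * (w * a) * w⁻¹ := by group
      _ = a⁻¹ * (a * w) * w⁻¹ := by rw [h4]
      _ = 1 := by group
  refine ⟨?_, fun w hw => ?_, fun w hw => ?_⟩
  · exact centralizer_le (by rintro _ rfl; exact self_mem_ws h.toGeoC hy) h1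
  · rw [h2 w hw]; exact one_mem _
  · rw [h3 w hw]; exact one_mem _

/-- `[V_z, V_y] ≠ 1` for a point `y` of `V` -/
theorem exists_ne (h : OddN T V z 1) (hy : y ∈ V) (hy1 : y ≠ 1) (hyz : y ≠ z) :
    ∃ a ∈ ws V z, ∃ b ∈ ws V y, a * b ≠ b * a := by
  obtain ⟨x0, y0, hx0, hw0, a, ha, b, hb, hab⟩ := h.crit
  have hc0 : Col V x0 y0 := by
    rcases walk_one.mp hw0 with e | e
    · subst e; exact absurd (Base.ws_comm h.toOdd hx0 ha hb) hab
    · exact e
  obtain ⟨g, hg1, hg2⟩ := TwoEight.exists_conj h.toOdd hc0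
    (Base.col_of_mem h.toGeoC h.z_mem hy h.z_ne hy1 (Ne.symm hyz))
  refine ⟨g * a * g⁻¹, ?_, g * b * g⁻¹, ?_, fun e => hab ?_⟩
  · rw [← hg1, ← cj_ws]; exact conj_mem_cj ha
  · rw [← hg2, ← cj_ws]; exact conj_mem_cj hb
  · calc a * b = g⁻¹ * (g * a * g⁻¹ * (g * b * g⁻¹)) * g := by group
      _ = g⁻¹ * (g * b * g⁻¹ * (g * a * g⁻¹)) * g := by rw [e]
      _ = b * a := by group

theorem rel (h : OddN T V z 1) (hy : y ∈ V) (hy1 : y ≠ 1) (hyz : y ≠ z) : (kq V z).relIndex (ws V y) = 2 := by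
  have hcol : Col V z y := Base.col_of_mem h.toGeoC h.z_mem hy h.z_ne hy1 (Ne.symm hyz)
  have hyp : Pt z y := hcol.pt h.toGeoC
  obtain ⟨M, X, _, _, _, ⟨R⟩⟩ := exists_rep h.toOdd (Pt.refl z)
  haveI : Finite M := R.finite_left
  haveI : Finite X := R.finite_right
  obtain ⟨F, hFn, hFc, hFo, hFcent, horb⟩ := exists_F h.toOdd R
  have hle : ws V y ≤ centralizer ({z} : Set G) := One.ws_le_cent h.toOdd hcol
  set A := R.img (ws V y) with hA
  have hsq : ∀ a ∈ A, a * a = 1 := by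
    intro a ha
    obtain ⟨b, hb, rfl⟩ := (R.mem_img hle).mp ha
    rw [← R.rho_mul b (hle hb) b (hle hb), Base.ws_sq h.toOdd hyp hb, R.rho_one]
  have hab : ∀ a ∈ A, ∀ b ∈ A, a * b = b * a := by
    intro a ha b hb
    obtain ⟨c, hc, rfl⟩ := (R.mem_img hle).mp ha
    obtain ⟨d, hd, rfl⟩ := (R.mem_img hle).mp hb
    rw [← R.rho_mul c (hle hc) d (hle hd), ← R.rho_mul d (hle hd) c (hle hc), Base.ws_comm h.toOdd hyp hc hd]
  have hcfix : ∀ b ∈ ws V y, ∀ w ∈ ws V z, w ∈ ws V y → R.rho b • R.pi w = R.pi w := by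
    intro b hb w hw hwy
    rw [R.smul_pi b (hle hb) w hw, Base.ws_comm h.toOdd hyp hb hwy, mul_inv_cancel_right]
  have hfix : ∀ a ∈ A, a • R.pi y = R.pi y := by
    intro a ha
    obtain ⟨b, hb, rfl⟩ := (R.mem_img hle).mp ha
    exact hcfix b hb y hcol.mem_ws (self_mem_ws h.toGeoC hyp)
  obtain ⟨hamb, hgood⟩ := amb_good h.toOdd R hFn hFc hFo horb hy hy1 hyz hab hsq hfix
  have hf : ∀ g : X, (∀ m : M, g • m = m) → g = 1 := R.faithful
  have hsm : ∀ b ∈ ws V y, ∀ w ∈ ws V z, R.rho b • R.pi w - R.pi w = R.pi (b * w * b⁻¹ * w⁻¹) := by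
    intro b hb w hw
    rw [R.smul_pi b (hle hb) w hw, R.pi_mul _ (R.conj_mem (hle hb) hw) _ (inv_mem hw), R.pi_inv hw, sub_eq_add_neg]
  have hq : ∀ a ∈ A, ∀ b ∈ A, ∀ m : M, a • (b • m - m) = b • m - m := by
    intro a ha b hb m
    obtain ⟨c, hc, rfl⟩ := (R.mem_img hle).mp ha
    obtain ⟨d, hd, rfl⟩ := (R.mem_img hle).mp hb
    obtain ⟨w, hw, rfl⟩ := R.pi_surj m
    have h1 := One.comm_mem h.toOdd hcol hw hd
    rw [hsm d hd w hw]
    exact hcfix c hc _ h1.1 h1.2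
  -- the swap
  obtain ⟨s, hs, hs1, hs2⟩ := h.exists_move h.z_mem hy h.z_ne hy1 (Ne.symm hyz)
  have hU : ws V z ⊓ kq V y ≤ ws V z := inf_le_left
  set N0 := push R (ws V z ⊓ kq V y) hU with hN0
  have hzU : z ∈ ws V z ⊓ kq V y := ⟨h.V_le_ws h.z_mem, ws_le_kq h.toOdd hyp hcol.symm.mem_ws⟩
  have hN : ∀ n ∈ N0, ∀ a ∈ A, a • n = n ∨ a • n = n + R.pi y := by
    rintro _ ⟨w, hw, rfl⟩ a ha
    obtain ⟨b, hb, rfl⟩ := (R.mem_img hle).mp ha
    have h1 := inv_mem (hw.2.2.1 b hb)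
    have e : (w * b * w⁻¹ * b⁻¹)⁻¹ = b * w * b⁻¹ * w⁻¹ := by group
    have h2 := hsm b hb w hw.1
    rw [e, mem_zpowers_iff_of_mul_self (Base.Pt.sq h.toGeoC hyp)] at h1
    rcases h1 with e1 | e1
    · left
      rw [e1, R.pi_one, sub_eq_zero] at h2; exact h2
    · right
      rw [e1, sub_eq_iff_eq_add] at h2; rw [h2, add_comm]
  have hc1 : Nat.card (ws V z) = Nat.card (ws V y) := by
    rw [← hs1, ← cj_ws, card_cj]
  have hc2 : Nat.card ↥(ws V z ⊓ kq V y) = Nat.card ↥(ws V y ⊓ kq V z) := by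
    have e : cj s (ws V z ⊓ kq V y) = ws V y ⊓ kq V z := by
      have e1 : cj s (ws V z ⊓ kq V y) = cj s (ws V z) ⊓ cj s (kq V y) := by
        ext a
        simp only [mem_cj, mem_inf]
      rw [e1, cj_ws, cj_kq0, hs1, hs2]
    rw [← e, card_cj]
  have hcA := card_img R hle
  rw [← hA] at hcA
  have hcN := card_push h.toOdd (Pt.refl z) R hU hzU
  have hcM := card_M h.toOdd (Pt.refl z) R
  have hle2 : Nat.card M ≤ Nat.card N0 * Nat.card A := by
    have h3 : 2 * Nat.card M = 2 * (Nat.card N0 * Nat.card A) := by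
      calc 2 * Nat.card M = Nat.card (ws V z) := hcM.symm
        _ = Nat.card A * Nat.card ↥(ws V y ⊓ kq V z) := by rw [hc1, hcA]
        _ = Nat.card A * (2 * Nat.card N0) := by rw [← hc2, hcN]
        _ = 2 * (Nat.card N0 * Nat.card A) := by ring
    omega
  have huniq := quad_main hamb hgood hFcent hf hq hle2 hN
  -- `A ≠ 1`
  have hAne : ∃ b ∈ ws V y, b ∉ kq V z := by
    by_contra hcon
    push Not at hcon
    obtain ⟨a, ha, b, hb, hne⟩ := exists_ne h hy hy1 hyz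
    have ha' : a ∈ kq V y := by
      have h4 : s * a * s⁻¹ ∈ ws V y := by
        have := conj_mem_cj (g := s) ha
        rwa [cj_ws, hs1] at this
      have h5 := conj_mem_cj (g := s⁻¹) (hcon _ h4)
      have e1 : s⁻¹ * z * s⁻¹⁻¹ = y := by rw [← hs2]; group
      have e2 : s⁻¹ * (s * a * s⁻¹) * s⁻¹⁻¹ = a := by group
      rwa [cj_kq0, e1, e2] at h5
    have h6 := (hcon b hb).2.1 a ha
    have h7 := inv_mem (ha'.2.1 b hb)
    have e : (a * b * a⁻¹ * b⁻¹)⁻¹ = b * a * b⁻¹ * a⁻¹ := by group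
    rw [e, mem_zpowers_iff_of_mul_self (Base.Pt.sq h.toGeoC hyp)] at h7
    rw [mem_zpowers_iff_of_mul_self h.zz] at h6
    have h8 : b * a * b⁻¹ * a⁻¹ = 1 := by
      rcases h6 with e1 | e1
      · exact e1
      · rcases h7 with e2 | e2
        · exact e2
        · exact absurd (e2.symm.trans e1) hyz
    apply hne
    calc a * b = (b * a * b⁻¹ * a⁻¹) * (a * b) := by rw [h8, one_mul]
      _ = b * a := by group
  obtain ⟨b, hb, hbk⟩ := hAne
  have hρb : R.rho b ≠ 1 := by rw [Ne, Rep.rho_eq_one R (hle hb)]; exact hbk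
  have hbA : R.rho b ∈ A := R.rho_mem_img hle hb
  have hA2 : Nat.card A = 2 := by
    have h2 : (A : Set X) = {1, R.rho b} := by
      ext a
      constructor
      · intro ha
        by_cases ha1 : a = 1
        · exact Or.inl ha1
        · exact Or.inr (huniq a ha _ hbA ha1 hρb)
      · rintro (rfl | rfl)
        · exact one_mem _
        · exact hbA
    have h3 : (A : Set X).ncard = 2 := by rw [h2, Set.ncard_pair (Ne.symm hρb)]
    exact h3
  have hrel : (kq V z).relIndex (ws V y) * Nat.card ↥(ws V y ⊓ kq V z) = Nat.card (ws V y) := by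
    have h4 := Subgroup.index_mul_card ((kq V z).subgroupOf (ws V y))
    rw [← h4]
    congr 1
    refine Nat.card_congr
      { toFun := fun a => ⟨⟨a, a.2.1⟩, a.2.2⟩
        invFun := fun a => ⟨((a : ws V y) : G), (a : ws V y).2, a.2⟩
        left_inv := fun _ => rfl
        right_inv := fun _ => rfl }
  rw [hcA, hA2] at hrel
  exact Nat.eq_of_mul_eq_mul_right Nat.card_pos hrel

/-- **`n = 1` implies `k = 1`** -/
theorem one_of (h : OddN T V z 1) : One.One T V z where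
  toOdd := h.toOdd
  k1 := by
    intro x y _ hc
    obtain ⟨g, hg, hy, -⟩ := exists_odd_col h.toOdd hc
    have h1 := h.conj g
    rw [← hg] at h1
    have h2 := rel h1 hy hc.2.1 (Ne.symm hc.2.2.1)
    rwa [kq_cj_left, ws_cj] at h2

end Cfsg.Agent.OddCyclic.EO.OneOf
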