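import Cfsg.Agent.OddCyclic.EO.DThree

/-!
# [D5]: two elementary abelian groups of order 16 with fixed-point-free action of 5-elements commute

`dFive : DegH.DFive H` for finite `H` with cyclic odd Sylow subgroups, `O₂(H) = 1` and simple nonabelian subgroups
in `KZero`.
-/

set_option autoImplicit false
set_option linter.unusedSectionVars false
set_option linter.dupNamespace false

namespace Cfsg.Agent.OddCyclic.EO.DFive

open Subgroup Cfsg Cfsg.Agent.OddCyclic.T1Defs Cfsg.Agent.OddCyclic.FFStruct Cfsg.Agent.OddCyclic.CompBasic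
  Cfsg.Agent.OddCyclic.EO.DegBase5 Cfsg.Agent.OddCyclic.EO.DThree Cfsg.Agent.OddCyclic.EO.DegH
open Cfsg.Agent.OddCyclic.PumpMain (KZero)
open Cfsg.Agent.SignalizersComponents.Components
open Cfsg.Agent.SporRec.J1.Defs (Local)


section fp

variable {H : Type*} [Group H] [Finite H] {A : Subgroup H} {f : H}

theorem comm_A (h : Fp5 A f) : ∀ a ∈ A, ∀ b ∈ A, a * b = b * a := by
  intro a ha b hb
  have h1 : ∀ x ∈ A, x⁻¹ = x := fun x hx => inv_eq_of_mul_eq_one_left (h.sq x hx)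
  calc a * b = (a * b)⁻¹ := (h1 _ (mul_mem ha hb)).symm
    _ = b⁻¹ * a⁻¹ := mul_inv_rev _ _
    _ = b * a := by rw [h1 a ha, h1 b hb]

/-- `A = [A, f]` -/
theorem exists_comm (h : Fp5 A f) : ∀ a ∈ A, ∃ b ∈ A, a = b * f * b⁻¹ * f⁻¹ := by
  have hm : ∀ b ∈ A, b * f * b⁻¹ * f⁻¹ ∈ A := by
    intro b hb
    have h1 : b * f * b⁻¹ * f⁻¹ = b * (f * b⁻¹ * f⁻¹) := by group
    rw [h1]
    exact mul_mem hb (h.norm _ (inv_mem hb))
  let g : A → A := fun b => ⟨(b : H) * f * (b : H)⁻¹ * f⁻¹, hm b b.2⟩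
  have hg : Function.Injective g := by
    rintro ⟨b, hb⟩ ⟨b', hb'⟩ hbb
    have h1 : b * f * b⁻¹ * f⁻¹ = b' * f * b'⁻¹ * f⁻¹ := congrArg Subtype.val hbb
    have h3 : b'⁻¹ * b ∈ A := mul_mem (inv_mem hb') hb
    have h4 : f * (b'⁻¹ * b) = (b'⁻¹ * b) * f := by
      have h5 : b'⁻¹ * b * f = f * b'⁻¹ * b := by
        calc b'⁻¹ * b * f = b'⁻¹ * (b * f * b⁻¹ * f⁻¹) * f * b := by group
          _ = b'⁻¹ * (b' * f * b'⁻¹ * f⁻¹) * f * b := by rw [h1]
          _ = _ := by group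
      rw [h5, mul_assoc]
    have h5 := h.fpf _ h3 h4
    rw [inv_mul_eq_one] at h5
    exact Subtype.ext h5.symm
  intro a ha
  obtain ⟨⟨b, hb⟩, hab⟩ := (Finite.injective_iff_surjective.1 hg) ⟨a, ha⟩
  exact ⟨b, hb, (congrArg Subtype.val hab).symm⟩

/-- irreducibility -/
theorem dich (h : Fp5 A f) {N : Subgroup H} (hN : N ≤ A) (hf : ∀ a ∈ N, f * a * f⁻¹ ∈ N) : N = ⊥ ∨ N = A := by
  classical
  have : Fact (Nat.Prime 5) := ⟨by norm_num⟩
  have := Fintype.ofFinite N
  let σ : Function.End N := fun a => ⟨f * a * f⁻¹, hf a a.2⟩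
  have hpow : ∀ (n : ℕ) (a : N), (((σ ^ n : Function.End N) a : N) : H) = f ^ n * a * (f ^ n)⁻¹ := by
    intro n
    induction n with
    | zero => intro a; simp; rfl
    | succ n ih =>
      intro a
      rw [pow_succ']
      show f * (((σ ^ n : Function.End N) a : N) : H) * f⁻¹ = _
      rw [ih a, pow_succ']
      group
  obtain ⟨k, hk⟩ := h.pow
  have h1 : σ ^ 5 ^ k = 1 := by
    funext a
    apply Subtype.ext
    rw [hpow, hk]
    simp
    rfl
  have h2 := Equiv.Perm.card_fixedPoints_modEq h1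
  have h3 : Fintype.card (Function.fixedPoints σ) = 1 := by
    rw [Fintype.card_eq_one_iff]
    refine ⟨⟨1, ?_⟩, ?_⟩
    · show σ 1 = 1
      apply Subtype.ext
      show f * (1 : H) * f⁻¹ = 1
      group
    · rintro ⟨a, ha⟩
      apply Subtype.ext
      apply Subtype.ext
      apply h.fpf _ (hN a.2)
      have h4 : f * (a : H) * f⁻¹ = a := congrArg Subtype.val (show σ a = a from ha)
      exact mul_inv_eq_iff_eq_mul.1 h4
  rw [h3, ← Nat.card_eq_fintype_card] at h2
  have h4 : Nat.card N ∣ 2 ^ 4 := by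
    have := Subgroup.card_dvd_of_le hN
    rwa [h.card] at this
  obtain ⟨m, hm, hcard⟩ := (Nat.dvd_prime_pow Nat.prime_two).1 h4
  rw [hcard] at h2
  have hm' : m = 0 ∨ m = 4 := by
    interval_cases m
    · exact Or.inl rfl
    all_goals first
      | exact Or.inr rfl
      | (exfalso; revert h2; decide)
  rcases hm' with rfl | rfl
  · left
    exact Subgroup.card_eq_one.1 hcard
  · right
    exact Subgroup.eq_of_le_of_card_ge hN (by rw [h.card, hcard]; norm_num)

/-- an element of order 5 normalising all `f`-invariant subgroups -/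
theorem exists_five (h : Fp5 A f) : ∃ n : ℕ, orderOf (f ^ n) = 5 := by
  obtain ⟨k, hk⟩ := h.pow
  have h1 : orderOf f ∣ 5 ^ k := orderOf_dvd_of_pow_eq_one hk
  obtain ⟨j, -, hj⟩ := (Nat.dvd_prime_pow (by norm_num : Nat.Prime 5)).1 h1
  have hj0 : j ≠ 0 := by
    rintro rfl
    rw [pow_zero, orderOf_eq_one_iff] at hj
    have h3 : A = ⊥ := by
      rw [eq_bot_iff]
      intro a ha
      rw [Subgroup.mem_bot]
      exact h.fpf a ha (by rw [hj, one_mul, mul_one])
    have h4 := h.card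
    rw [h3, Subgroup.card_bot] at h4
    norm_num at h4
  refine ⟨orderOf f / 5, orderOf_pow_orderOf_div (orderOf_pos f).ne' ?_⟩
  rw [hj]
  exact dvd_pow_self 5 hj0

theorem pow_norm {B : Subgroup H} (h : ∀ a ∈ B, f * a * f⁻¹ ∈ B) (n : ℕ) : ∀ a ∈ B, f ^ n * a * (f ^ n)⁻¹ ∈ B := by
  induction n with
  | zero => intro a ha; simpa using ha
  | succ n ih =>
    intro a ha
    have h1 : f ^ (n + 1) * a * (f ^ (n + 1))⁻¹ = f * (f ^ n * a * (f ^ n)⁻¹) * f⁻¹ := by
      rw [pow_succ']; group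
    rw [h1]
    exact h _ (ih a ha)

end fp

/-! ### Suzuki groups -/

section sz

open Cfsg.Agent.ThreePrime.SzRel

variable {J : Type*} [Group J] [Finite J]

theorem ud_pow {F : Type*} [Field F] (R : Cfsg.Agent.ThreePrime.SzRel.Rel J F) (a b : F) (k : Fˣ) (n : ℕ) :
    ∃ c e, (R.u a b * R.d k) ^ n = R.u c e * R.d (k ^ n) := by
  induction n with
  | zero => exact ⟨0, 0, by rw [pow_zero, pow_zero, R.u_zero, R.d_one, one_mul]⟩
  | succ n ih =>
    obtain ⟨c, e, h⟩ := ih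
    have h1 : (R.u a b * R.d k) ^ (n + 1) = (R.u c e * (R.d (k ^ n) * R.u a b)) * R.d k := by
      rw [pow_succ, h]
      simp only [mul_assoc]
    rw [R.d_mul_u, ← mul_assoc (R.u c e), R.u_mul, mul_assoc, R.d_mul, ← pow_succ] at h1
    exact ⟨_, _, h1⟩

theorem arith (m : ℕ) : ¬ 5 ∣ 2 ^ (2 * m + 1) - 1 := by
  have h : 2 ^ (2 * m + 1) % 5 = 2 ∨ 2 ^ (2 * m + 1) % 5 = 3 := by
    induction m with
    | zero => left; norm_num
    | succ m ih =>
      have : 2 ^ (2 * (m + 1) + 1) = 4 * 2 ^ (2 * m + 1) := by ring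
      rw [this]
      generalize 2 ^ (2 * m + 1) = x at ih ⊢
      omega
  generalize 2 ^ (2 * m + 1) = x at h ⊢
  omega

/-- no element of order 5 normalises a Sylow 2-subgroup of `Sz(q)` -/
theorem sz_five (h : Cfsg.Lie.IsoSuzuki J) {P : Sylow 2 J} {y : J} (hy : orderOf y = 5) :
    y ∉ normalizer ((P : Subgroup J) : Set J) := by
  intro hyn
  have : Fact (Nat.Prime 2) := ⟨Nat.prime_two⟩
  obtain ⟨F, iF, iF', m, hm, hF, ⟨R⟩⟩ := exists_rel h
  obtain ⟨P₀, hP₀⟩ := R.exists_sylow_eq hm hF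
  obtain ⟨g, hg⟩ := MulAction.exists_smul_eq J P P₀
  have h1 : g * y * g⁻¹ ∈ normalizer (R.T : Set J) := by
    have h3 : y • P = P := Sylow.smul_eq_iff_mem_normalizer.2 hyn
    have h4 : (g * y * g⁻¹) • P₀ = P₀ := by
      rw [← hg, smul_smul, inv_mul_cancel_right, mul_smul, h3]
    rw [← hP₀]
    exact Sylow.smul_eq_iff_mem_normalizer.1 h4
  obtain ⟨a, b, k, hk⟩ := R.norm h1
  have ho : orderOf (g * y * g⁻¹) = 5 := by rw [← hy]; exact (MulAut.conj g).orderOf_eq y
  have h5 : (g * y * g⁻¹) ^ 5 = 1 := by rw [← ho]; exact pow_orderOf_eq_one _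
  obtain ⟨c, e, h6⟩ := ud_pow R a b k 5
  rw [hk] at h5
  rw [h5] at h6
  have h7 : R.u 0 0 * R.d 1 = R.u c e * R.d (k ^ 5) := by rw [R.u_zero, R.d_one, one_mul]; exact h6
  have h8 : k ^ 5 = 1 := (R.ud_inj h7).2.2.symm
  have h9 : k = 1 := by
    have h10 : orderOf k ∣ 5 := orderOf_dvd_of_pow_eq_one h8
    rcases (Nat.dvd_prime (by norm_num)).1 h10 with h11 | h11
    · exact orderOf_eq_one_iff.1 h11
    · exfalso
      classical
      have h12 : orderOf k ∣ Fintype.card Fˣ := orderOf_dvd_card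
      rw [h11, Fintype.card_units, hF] at h12
      exact arith m h12
  rw [h9, R.d_one, mul_one] at hk
  have h10 := R.pow_four (R.u_mem a b)
  rw [← hk] at h10
  have h11 : orderOf (g * y * g⁻¹) ∣ 4 := orderOf_dvd_of_pow_eq_one h10
  rw [ho] at h11
  norm_num at h11

end sz

variable {H : Type*} [Group H] [Finite H] {K : Subgroup H} [K.Normal] {A : Subgroup H} {f : H}

local notation "ψ" => (MulAut.conjNormal (H := K))

/-- the kernel of the action on `K` -/
theorem ker_cases (h : Fp5 A f) : A ⊓ centralizer (K : Set H) = ⊥ ∨ A ≤ centralizer (K : Set H) := by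
  rcases dich h (N := A ⊓ centralizer (K : Set H)) inf_le_left (by
    intro a haN
    obtain ⟨ha, hak⟩ := Subgroup.mem_inf.1 haN
    refine Subgroup.mem_inf.2 ⟨h.norm a ha, ?_⟩
    rw [mem_cent_iff] at hak ⊢
    rw [map_mul, map_mul, hak, mul_one, map_inv, mul_inv_cancel]) with h1 | h1
  · exact Or.inl h1
  · exact Or.inr (inf_eq_left.1 h1)

theorem psi_inj (h1 : A ⊓ centralizer (K : Set H) = ⊥) {a b : H} (ha : a ∈ A) (hb : b ∈ A) (h : ψ a = ψ b) :
    a = b := by
  have h3 : a * b⁻¹ ∈ A ⊓ centralizer (K : Set H) := by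
    refine Subgroup.mem_inf.2 ⟨mul_mem ha (inv_mem hb), ?_⟩
    rw [mem_cent_iff, map_mul, map_inv, h, mul_inv_cancel]
  rw [h1, Subgroup.mem_bot, mul_inv_eq_one] at h3
  exact h3

theorem card_map (h : Fp5 A f) (h1 : A ⊓ centralizer (K : Set H) = ⊥) :
    Nat.card (A.map (MulAut.conjNormal : H →* MulAut K)) = 16 := by
  rw [← h.card]
  symm
  refine Nat.card_congr (Equiv.ofBijective
    (fun a : A => (⟨ψ (a : H), ⟨a, a.2, rfl⟩⟩ : A.map (MulAut.conjNormal : H →* MulAut K))) ⟨?_, ?_⟩)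
  · intro a b hab
    exact Subtype.ext (psi_inj h1 a.2 b.2 (congrArg Subtype.val hab))
  · rintro ⟨_, a, ha, rfl⟩
    exact ⟨⟨a, ha⟩, rfl⟩

theorem cent_j (h : Fp5 A f) (hJ : Local K) {k : K} (hk : orderOf k = 2) : A ≤ centralizer (K : Set H) := by
  rcases ker_cases (K := K) h with h1 | h1
  · exfalso
    have h3 := card_map h h1
    have h4 : A.map (MulAut.conjNormal : H →* MulAut K) ≤ (MulAut.conj : K →* MulAut K).range := by
      rintro _ ⟨a, -, rfl⟩
      obtain ⟨g, hg⟩ := inner_j hJ hk a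
      exact ⟨g, hg.symm⟩
    have h5 := Subgroup.card_dvd_of_le h4
    rw [h3] at h5
    exact hJ.two (h5.trans (Subgroup.card_range_dvd _))
  · exact h1

theorem cent_sz (hc : OddCyc H) (hK : ∀ z ∈ K, z ∈ centralizer (K : Set H) → z = 1) (h : Fp5 A f)
    (hs : Cfsg.Lie.IsoSuzuki K) : A ≤ centralizer (K : Set H) := by
  rcases ker_cases (K := K) h with h1 | h1
  · exfalso
    have : Fact (Nat.Prime 2) := ⟨Nat.prime_two⟩
    have hinj := conj_injective hK
    obtain ⟨n, hn⟩ := exists_five h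
    -- `y = f ^ n ∈ K`
    have h5 : 5 ∣ Nat.card K := by
      obtain ⟨y, s, hy⟩ := T1SzFacts.exists_five hs (default : Sylow 2 K)
      rw [← hy.2.2.1]
      exact orderOf_dvd_natCard _
    have hyK : f ^ n ∈ K := mem_of_orderOf hc (by norm_num) (by norm_num) inferInstance h5 hn
    set y : K := ⟨f ^ n, hyK⟩ with hy
    have hyo : orderOf y = 5 := by rw [hy, Subgroup.orderOf_mk, hn]
    -- the image of `A` in `K`
    set B : Subgroup K := (A.map (MulAut.conjNormal : H →* MulAut K)).comap MulAut.conj with hB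
    have hBsq : ∀ b ∈ B, b * b = 1 := by
      rintro b ⟨a, ha, hab⟩
      apply hinj
      rw [map_mul, ← hab, ← map_mul, h.sq a ha, map_one, map_one]
    have hBp : IsPGroup 2 B := fun b => ⟨1, by
      rw [pow_one, pow_two]
      exact Subtype.ext (hBsq b b.2)⟩
    obtain ⟨P, hP⟩ := hBp.exists_le_sylow
    have hAne : ∃ a ∈ A, a ≠ 1 := by
      by_contra hcon
      push Not at hcon
      have h6 : A = ⊥ := by
        rw [eq_bot_iff]
        exact fun a ha => Subgroup.mem_bot.2 (hcon a ha)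
      have h7 := h.card
      rw [h6, Subgroup.card_bot] at h7
      norm_num at h7
    obtain ⟨a, ha, ha1⟩ := hAne
    obtain ⟨g, hg⟩ := inner_sz (K := K) hs (h.sq a ha)
    have hgB : g ∈ B := ⟨a, ha, hg⟩
    have hg1 : g ≠ 1 := by
      intro h6
      apply ha1
      apply psi_inj h1 ha (one_mem A)
      rw [hg, h6, map_one, map_one]
    have h6 : y * g * y⁻¹ ∈ B := by
      refine ⟨f ^ n * a * (f ^ n)⁻¹, pow_norm h.norm n a ha, ?_⟩
      rw [map_mul, map_mul, map_mul, map_mul, hg, map_inv, map_inv, psi_mem hyK]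
    exact sz_five hs hyo ((T1SzFacts.szMore hs P).ti y g (hP hgB) hg1 (hP h6))
  · exact h1

section psl

variable {F : Type*} [Field F] [Finite F] (R : Cfsg.Agent.GH.L2Aut.Rep F K)

include R in
theorem cent_psl (h : Fp5 A f) (hF : (Nat.card F).Prime) : A ≤ centralizer (K : Set H) := by
  rcases ker_cases (K := K) h with h1 | h1
  · exfalso
    have hcon : 5 ≤ Nat.card A := by rw [h.card]; norm_num
    obtain ⟨a, ha, ha1, -, -, -⟩ := JInner.exists_notin A hcon 1 1 1 1
    obtain ⟨b, hb, hb1, hba, -, -⟩ := JInner.exists_notin A hcon 1 a 1 1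
    obtain ⟨c, hc, hc1, hca, hcb, hcab⟩ := JInner.exists_notin A hcon 1 a b (a * b)
    have hinv : ∀ x ∈ A, x⁻¹ = x := fun x hx => inv_eq_of_mul_eq_one_left (h.sq x hx)
    have hne : ∀ x ∈ A, ∀ y ∈ A, x ≠ y → x * y ≠ 1 := by
      intro x hx y hy hxy h1
      apply hxy
      rw [← hinv x hx]
      exact (eq_inv_of_mul_eq_one_right h1).symm ▸ rfl
    have hψ : ∀ x ∈ A, x ≠ 1 → ∀ γ : GL (Fin 2) F, R.gl γ = ψ x → γ.1.trace = 0 := by
      intro x hx hx1 γ hγ
      apply PGLTorus.trace_of_sq R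
      · intro h3
        apply hx1
        apply psi_inj h1 hx (one_mem A)
        rw [← hγ, h3, map_one]
      · rw [hγ, ← map_mul, h.sq x hx, map_one]
    obtain ⟨γ, hγ⟩ := R.mem_PGL.1 (PGLTorus.mem_PGL_of_prime R hF (ψ a))
    obtain ⟨δ, hδ⟩ := R.mem_PGL.1 (PGLTorus.mem_PGL_of_prime R hF (ψ b))
    obtain ⟨ε, hε⟩ := R.mem_PGL.1 (PGLTorus.mem_PGL_of_prime R hF (ψ c))
    have hab := mul_mem ha hb
    exact FFPslMat.no_three (hψ a ha ha1 γ hγ.symm) (hψ b hb hb1 δ hδ.symm) (hψ c hc hc1 ε hε.symm)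
      (hψ _ hab (hne a ha b hb hba.symm) (γ * δ) (by rw [map_mul, map_mul, ← hγ, ← hδ]))
      (hψ _ (mul_mem ha hc) (hne a ha c hc hca.symm) (γ * ε) (by rw [map_mul, map_mul, ← hγ, ← hε]))
      (hψ _ (mul_mem hb hc) (hne b hb c hc hcb.symm) (δ * ε) (by rw [map_mul, map_mul, ← hδ, ← hε]))
      (hψ _ (mul_mem hab hc) (hne _ hab c hc hcab.symm) (γ * δ * ε)
        (by rw [map_mul, map_mul, map_mul, map_mul, ← hγ, ← hδ, ← hε])) R.two
  · exact h1

end psl

section sl

variable {F : Type*} [Field F] [Fintype F] [CharP F 2]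

open Cfsg.Agent.Classification.QDW.TypeHom in
theorem inner_sl5 (e : Matrix.SpecialLinearGroup (Fin 2) F ≃* K) (h : Fp5 A f) {a : H} (ha : a ∈ A) :
    ∃ g : K, ψ a = MulAut.conj g := by
  have hcomm : ∀ σ τ : F ≃+* F, σ * τ = τ * σ := Cfsg.Agent.Lib.AutSL2Out.ringEquiv_comm
  obtain ⟨b, -, rfl⟩ := exists_comm h a ha
  have h1 : typ (FFOuter.ac e (b * f * b⁻¹ * f⁻¹)) = 1 := by
    simp only [map_mul, map_inv]
    rw [hcomm (typ (FFOuter.ac e b)), mul_inv_cancel_right, mul_inv_cancel]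
  obtain ⟨s, hs⟩ := (L2Model.inner_iff _).1 h1
  exact ⟨e s, psi_of_ac e hs⟩

theorem comm_sl (hK : ∀ z ∈ K, z ∈ centralizer (K : Set H) → z = 1) (e : Matrix.SpecialLinearGroup (Fin 2) F ≃* K)
    {A' : Subgroup H} {f' : H} (h : Fp5 A f) (h' : Fp5 A' f') (hp : IsPGroup 2 (A ⊔ A' : Subgroup H)) {a b : H}
    (ha : a ∈ A) (hb : b ∈ A') : ψ (a * b * a⁻¹ * b⁻¹) = 1 := by
  have hinj := conj_injective hK
  obtain ⟨g, hg⟩ := inner_sl5 e h ha
  obtain ⟨g', hg'⟩ := inner_sl5 e h' hb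
  have hsq : ∀ x ∈ A, x * x = 1 := h.sq
  obtain ⟨n, hn⟩ := hp ⟨a * b, mul_mem (mem_sup_left ha) (mem_sup_right hb)⟩
  have hn' : (a * b) ^ 2 ^ n = 1 := congrArg Subtype.val hn
  obtain ⟨P, hP, hP'⟩ := exists_sylow (a := e.symm g) (b := e.symm g')
    (by
      rw [← map_mul, ← map_one e.symm]
      congr 1
      apply hinj
      rw [map_mul, ← hg, ← map_mul, h.sq a ha, map_one, map_one])
    (by
      rw [← map_mul, ← map_one e.symm]
      congr 1
      apply hinj
      rw [map_mul, ← hg', ← map_mul, h'.sq b hb, map_one, map_one])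
    ⟨n, by
      rw [← map_mul, ← map_pow, ← map_one e.symm]
      congr 1
      apply hinj
      rw [map_pow, map_mul, ← hg, ← hg', ← map_mul, ← map_pow, hn', map_one, map_one]⟩
  have h1 : g * g' = g' * g := by
    have h3 := congrArg e (comm_of_mem hP hP')
    simpa only [map_mul, e.apply_symm_apply] using h3
  rw [map_mul, map_mul, map_mul, map_inv, map_inv, hg, hg', ← map_mul, h1, map_mul, mul_inv_cancel_right,
    mul_inv_cancel]

end sl

/-- **[D5]** -/
theorem dFive {H : Type*} [Group H] [Finite H] (hc : OddCyc H)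
    (hk : ∀ J : Subgroup H, IsSimpleGroup J → (∃ x y : J, x * y ≠ y * x) → KZero J) (h2 : pCore 2 H = ⊥) :
    DegH.DFive H := by
  intro A A' f f' h h' hp a ha b hb
  suffices hw : a * b * a⁻¹ * b⁻¹ = 1 by
    rw [mul_inv_eq_one, mul_inv_eq_iff_eq_mul] at hw
    exact hw
  have hwm : a * b * a⁻¹ * b⁻¹ ∈ (A ⊔ A' : Subgroup H) :=
    mul_mem (mul_mem (mul_mem (mem_sup_left ha) (mem_sup_right hb)) (inv_mem (mem_sup_left ha)))
      (inv_mem (mem_sup_right hb))
  refine eq_one_of_cent h2 ?_ (comm_fitting hc h2 a b) ?_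
  · obtain ⟨n, hn⟩ := hp ⟨_, hwm⟩
    exact ⟨n, congrArg Subtype.val hn⟩
  · intro K hKc
    have hKn := component_normal hc hKc
    have hK := inter_centralizer hc h2 hKc
    have hks : KZero K := by
      refine hk K (simple_component hc h2 hKc) ?_
      by_contra hcon
      push Not at hcon
      exact quasisimple_not_isMulCommutative hKc.2 ⟨⟨hcon⟩⟩
    have key : A ≤ centralizer (K : Set H) → a * b * a⁻¹ * b⁻¹ ∈ centralizer (K : Set H) := by
      intro h1
      rw [mem_cent_iff]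
      have h3 := (mem_cent_iff (K := K)).1 (h1 ha)
      rw [map_mul, map_mul, map_mul, map_inv, map_inv, h3, one_mul, inv_one, mul_one, mul_inv_cancel]
    rcases hks with ⟨F, _, _, hp, h5, ⟨e⟩⟩ | ⟨F, _, _, f, hf, hF, ⟨e⟩⟩ | hs | ⟨hJ, k, hk⟩
    · have hodd : Odd (Fintype.card F) := hp.odd_of_ne_two (by omega)
      have R := Cfsg.Agent.GH.L2Aut.Rep.ofEquiv (Cfsg.Agent.GH.L2Aut.two_ne_zero_of_odd hodd) e
      exact key (cent_psl R h (by rw [Nat.card_eq_fintype_card]; exact hp))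
    · have hch : CharP F 2 := by
        have hch := ringChar.charP F
        have h1 : ringChar F ∣ 2 ^ f := by
          rw [← hF, ← CharP.cast_eq_zero_iff F (ringChar F), Nat.cast_card_eq_zero]
        have h2 : (ringChar F).Prime := CharP.char_is_prime F (ringChar F)
        have h3 : ringChar F = 2 := (Nat.prime_dvd_prime_iff_eq h2 Nat.prime_two).1 (h2.dvd_of_dvd_pow h1)
        rwa [h3] at hch
      obtain ⟨g⟩ := WeakTI.PslTwo.nonempty_equiv (F := F)
      rw [mem_cent_iff]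
      exact comm_sl hK (e.trans g.symm).symm h h' ‹_› ha hb
    · exact key (cent_sz hc hK h hs)
    · exact key (cent_j h hJ hk)

end Cfsg.Agent.OddCyclic.EO.DFive
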