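import Mathlib
import Cfsg.Agent.OddCyclic.EO.DegH

/-!
# (A8) at all centralizers of involutions
-/

set_option autoImplicit false

namespace Cfsg.Agent.OddCyclic.EO.DegR

open Subgroup Cfsg

universe u

/-- [D5] for `C(r) / O₂(C(r))`, `r` an involution -/
def NFive (G : Type u) [Group G] : Prop := ∀ r : G, r * r = 1 → r ≠ 1 →
  DegH.DFive (↥(centralizer ({r} : Set G)) ⧸ pCore 2 ↥(centralizer ({r} : Set G)))

end Cfsg.Agent.OddCyclic.EO.DegR
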