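import Mathlib
import Cfsg.Agent.OddCyclic.EO.DThree
import Cfsg.Agent.OddCyclic.EO.DFive
import Cfsg.Agent.OddCyclic.EO.DegR
import Cfsg.Agent.OddCyclic.FFSec

/-!
# Lemma (N°) and Lemma (A8) in centralizers of involutions

`ndeg : Deg.NDeg G`, `nfive : DegR.NFive G` for finite simple `G` with cyclic odd Sylow subgroups, all of whose proper
sections are in the list.
-/

set_option autoImplicit false
set_option linter.unusedSectionVars false
set_option linter.dupNamespace false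

namespace Cfsg.Agent.OddCyclic.EO.Red

open Subgroup Cfsg Cfsg.Agent.OddCyclic.T1Defs

universe u

variable {G : Type u} [Group G]

theorem centralizer_ne_top [IsSimpleGroup G] (hna : ∃ a b : G, a * b ≠ b * a) {i : G} (hi : i ≠ 1) :
    centralizer ({i} : Set G) ≠ ⊤ := by
  intro h
  have h1 : i ∈ center G := by
    rw [mem_center_iff]
    intro g
    have h2 : g ∈ centralizer ({i} : Set G) := by rw [h]; trivial
    exact mem_centralizer_singleton_iff.1 h2
  rcases IsSimpleGroup.eq_bot_or_eq_top_of_normal (center G) inferInstance with h2 | h2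
  · rw [h2, mem_bot] at h1
    exact hi h1
  · obtain ⟨a, b, hab⟩ := hna
    apply hab
    have h3 : b ∈ center G := by rw [h2]; trivial
    exact mem_center_iff.1 h3 a

/-- the facts on `H = X/O₂(X)` -/
theorem facts [Finite G] (hc : OddCyc G) (hs : CompStart.SecZero G) {X : Subgroup G} (hX : X ≠ ⊤) :
    OddCyc (X ⧸ pCore 2 X) ∧
    (∀ J : Subgroup (X ⧸ pCore 2 X), IsSimpleGroup J → (∃ x y : J, x * y ≠ y * x) → PumpMain.KZero J) ∧
    pCore 2 (X ⧸ pCore 2 X) = ⊥ := by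
  refine ⟨?_, ?_, Lib.Cores.pCore_quotient_pCore 2⟩
  · exact T1Structure.oddCyc_of_surjective (T1Structure.oddCyc_of_injective hc X.subtype X.subtype_injective)
      (QuotientGroup.mk' (pCore 2 X)) (QuotientGroup.mk'_surjective _)
  · intro J hJ hab
    exact FFSec.kzero_of_image hs hX (QuotientGroup.mk' (pCore 2 X)) (QuotientGroup.mk'_surjective _) J hJ hab

/-- a normal 2-subgroup which is its own commutator subgroup is trivial: if `u ∈ O₂(X)` is a commutator of conjugates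
of `u` then `u = 1` -/
theorem eq_one_of_comm [Finite G] {u a b : G} (hO : u ∈ pCore 2 G)
    (h : u = (a * u * a⁻¹) * (b * u * b⁻¹) * (a * u * a⁻¹)⁻¹ * (b * u * b⁻¹)⁻¹) : u = 1 := by
  have : Fact (Nat.Prime 2) := ⟨Nat.prime_two⟩
  obtain ⟨N, hN⟩ : ∃ N : Subgroup G, N = normalClosure {u} := ⟨_, rfl⟩
  have hNn : N.Normal := hN ▸ normalClosure_normal
  have huN : u ∈ N := hN ▸ subset_normalClosure rfl
  have hNO : N ≤ pCore 2 G := by
    have := Lib.Cores.pCore_normal (G := G) 2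
    rw [hN]
    exact normalClosure_le_normal (Set.singleton_subset_iff.2 hO)
  have hNp : IsPGroup 2 N := (Lib.Cores.pCore_isPGroup 2).to_le hNO
  have hcomm : N ≤ ⁅N, N⁆ := by
    conv_lhs => rw [hN]
    refine normalClosure_le_normal (Set.singleton_subset_iff.2 ?_)
    have h1 := commutator_mem_commutator (hNn.conj_mem u huN a) (hNn.conj_mem u huN b)
    rw [commutatorElement_def, ← h] at h1
    exact h1
  by_contra hne
  have hnil : Group.IsNilpotent N := hNp.isNilpotent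
  have hsol : Group.IsSolvable N := inferInstance
  have hnt : Nontrivial N := ⟨⟨⟨u, huN⟩, 1, fun h1 => hne (congrArg Subtype.val h1)⟩⟩
  have h2 := Group.IsSolvable.commutator_lt_top_of_nontrivial N
  apply h2.ne
  rw [eq_top_iff]
  intro x _
  have h3 : (x : G) ∈ ⁅N, N⁆ := hcomm x.2
  have h4 : (commutator N).map N.subtype = ⁅N, N⁆ := by
    rw [_root_.commutator_def, map_commutator, ← MonoidHom.range_eq_map, range_subtype]
  rw [← h4] at h3
  obtain ⟨y, hy, he⟩ := h3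
  rw [← Subtype.ext he]
  exact hy

/-- Lemma (N°) -/
theorem ndeg [Finite G] [IsSimpleGroup G] (hc : OddCyc G) (hs : CompStart.SecZero G) : Deg.NDeg G := by
  intro i c c' u x x' h
  have : Fact (Nat.Prime 2) := ⟨Nat.prime_two⟩
  have hX := centralizer_ne_top ⟨c, u, fun h0 => h.ne (by rw [h0, mul_inv_cancel_right])⟩ h.i1
  obtain ⟨X, hXd⟩ : ∃ X : Subgroup G, X = centralizer ({i} : Set G) := ⟨_, rfl⟩
  rw [← hXd] at hX
  obtain ⟨h1, h2, h3⟩ := facts hc hs hX
  have hmem : ∀ g : G, g * i = i * g → g ∈ X := by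
    intro g hg
    rw [hXd]
    exact mem_centralizer_singleton_iff.2 hg
  set i₀ : X := ⟨i, hmem i rfl⟩ with hi₀
  set u₀ : X := ⟨u, hmem u h.ui⟩ with hu₀
  set c₀ : X := ⟨c, hmem c h.ci⟩ with hc₀
  set d₀ : X := ⟨c', hmem c' h.c'i⟩ with hd₀
  set x₀ : X := ⟨x, hmem x h.xi⟩ with hx₀
  set y₀ : X := ⟨x', hmem x' h.x'i⟩ with hy₀
  have euu : u₀ * u₀ = 1 := Subtype.ext h.uu
  have enc : u₀ * (c₀ * u₀ * c₀⁻¹) * (c₀ * (c₀ * u₀ * c₀⁻¹) * c₀⁻¹) = 1 := Subtype.ext h.nc
  have enc' : u₀ * (d₀ * u₀ * d₀⁻¹) * (d₀ * (d₀ * u₀ * d₀⁻¹) * d₀⁻¹) = 1 := Subtype.ext h.nc'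
  have ecomm : (d₀ * u₀ * d₀⁻¹) * (c₀ * u₀ * c₀⁻¹) = u₀ * ((c₀ * u₀ * c₀⁻¹) * (d₀ * u₀ * d₀⁻¹)) := Subtype.ext h.comm
  have exu : x₀ * u₀ = u₀ * x₀ := Subtype.ext h.xu
  have exc : x₀ * c₀ = c₀ * x₀ := Subtype.ext h.xc
  have exu' : y₀ * u₀ = u₀ * y₀ := Subtype.ext h.x'u
  have exc' : y₀ * d₀ = d₀ * y₀ := Subtype.ext h.x'c
  have eeq : u₀ = i₀ * x₀ * y₀ := Subtype.ext h.eq
  -- `i ∈ O₂(X)`
  have hiO : i₀ ∈ pCore 2 X := by
    have hn : (zpowers i₀).Normal := by
      constructor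
      rintro _ ⟨k, rfl⟩ g
      have hgi : g * i₀ = i₀ * g := by
        have h4 : (g : G) ∈ centralizer ({i} : Set G) := hXd ▸ g.2
        exact Subtype.ext (mem_centralizer_singleton_iff.1 h4)
      have hk : g * i₀ ^ k * g⁻¹ = i₀ ^ k := by
        have h5 : Commute g (i₀ ^ k) := (show Commute g i₀ from hgi).zpow_right k
        rw [h5.eq, mul_inv_cancel_right]
      show g * i₀ ^ k * g⁻¹ ∈ _
      rw [hk]
      exact zpow_mem (mem_zpowers _) _
    have hp : IsPGroup 2 (zpowers i₀) := by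
      have h4 : orderOf i₀ ∣ 2 := orderOf_dvd_of_pow_eq_one (by rw [pow_two]; exact Subtype.ext h.ii)
      rw [IsPGroup.iff_card]
      rcases (Nat.dvd_prime Nat.prime_two).1 h4 with h5 | h5
      · exact ⟨0, by rw [Nat.card_zpowers, h5, pow_zero]⟩
      · exact ⟨1, by rw [Nat.card_zpowers, h5, pow_one]⟩
    exact Lib.Cores.le_pCore hn hp (mem_zpowers _)
  -- `u ∉ O₂(X)`
  have huO : u₀ ∉ pCore 2 X := by
    intro h4
    have h5 := eq_one_of_comm (a := d₀) (b := c₀) h4 (by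
      rw [ecomm]; group)
    exact h.u1 (congrArg Subtype.val h5)
  obtain ⟨π, hπ⟩ : ∃ π : X →* X ⧸ pCore 2 X, π = QuotientGroup.mk' (pCore 2 X) := ⟨_, rfl⟩
  have hker : ∀ g : X, π g = 1 ↔ g ∈ pCore 2 X := by
    intro g
    rw [hπ, QuotientGroup.mk'_apply, QuotientGroup.eq_one_iff]
  have hπi : π i₀ = 1 := (hker _).2 hiO
  have hπu : π u₀ ≠ 1 := fun h4 => huO ((hker _).1 h4)
  -- `c u c⁻¹ ≠ u`
  have key : ∀ k : X, u₀ * (k * u₀ * k⁻¹) * (k * (k * u₀ * k⁻¹) * k⁻¹) = 1 →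
      π k * π u₀ * (π k)⁻¹ ≠ π u₀ := by
    intro k hk hcon
    have h4 := congrArg π hk
    rw [map_mul, map_mul, map_one, map_mul, map_mul, map_mul, map_mul, map_mul, map_mul, map_inv, hcon, hcon] at h4
    apply hπu
    have h5 := congrArg π euu
    rw [map_mul, map_one] at h5
    rwa [h5, one_mul] at h4
  refine DThree.dThree h1 h2 h3 (π c₀) (π d₀) (π u₀) (π x₀) (π y₀) ?_ hπu ?_ ?_ ?_ ?_ (key _ enc) (key _ enc')
    ?_ ?_ ?_ ?_ ?_ ?_
  · rw [← map_mul, euu, map_one]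
  · obtain ⟨k, hk⟩ := h.pc
    exact ⟨k, by rw [← map_pow, show c₀ ^ 3 ^ k = 1 from Subtype.ext hk, map_one]⟩
  · obtain ⟨k, hk⟩ := h.pc'
    exact ⟨k, by rw [← map_pow, show d₀ ^ 3 ^ k = 1 from Subtype.ext hk, map_one]⟩
  · have := congrArg π enc
    simpa only [map_mul, map_inv, map_one] using this
  · have := congrArg π enc'
    simpa only [map_mul, map_inv, map_one] using this
  · have := congrArg π ecomm
    simpa only [map_mul, map_inv, map_one] using this
  · rw [← map_mul, exu, map_mul]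
  · rw [← map_mul, exc, map_mul]
  · rw [← map_mul, exu', map_mul]
  · rw [← map_mul, exc', map_mul]
  · have h4 := congrArg π eeq
    rwa [map_mul, map_mul, hπi, one_mul] at h4

/-- Lemma (A8) -/
theorem nfive [Finite G] [IsSimpleGroup G] (hc : OddCyc G) (hs : CompStart.SecZero G)
    (hna : ∃ a b : G, a * b ≠ b * a) : DegR.NFive G := by
  intro r _ hr1
  obtain ⟨h1, h2, h3⟩ := facts hc hs (centralizer_ne_top hna hr1)
  exact DFive.dFive h1 h2 h3

end Cfsg.Agent.OddCyclic.EO.Red
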