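import Cfsg.Agent.OddCyclic.EO.FitC

/-!
# The module in the case `M = M₁ ⊕ M₂`, `|M₁| = 4`
-/

set_option autoImplicit false
set_option linter.unusedSectionVars false
set_option linter.style.haveILetI false

namespace Cfsg.Agent.OddCyclic.EO.ThreeM

open Subgroup Cfsg Cfsg.Agent.OddCyclic.EO.Fit Cfsg.Agent.OddCyclic.EO.FitB

universe u v

variable {X : Type u} [Group X] [Finite X] {M : Type v} [AddCommGroup M] [Finite M] [DistribMulAction X M]
  {F A : Subgroup X} {l : M}

theorem mod_three (h : Amb M F A) (hg : Good F A (⊤ : AddSubgroup M) l) {a : X} (ha : a ∈ A)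
    (ha1 : ∃ m : M, a • m ≠ m)
    (hc : ∃ g ∈ F, a * g * a⁻¹ = g⁻¹ ∧ orderOf g = 3 ∧ Nat.card (av (zpowers g) : M →+ M).ker = 4 ∧
      ∀ m ∈ fx (zpowers g) (⊤ : AddSubgroup M), a • m = m) (hM : Nat.card M ≠ 4) :
    ∃ g ∈ F, g ^ 3 = 1 ∧ ∃ n : M, n ≠ 0 ∧ (∀ m : M, a • m = m ∨ a • m = m + n) ∧
      n + g • n + g • g • n = 0 ∧ g • n ≠ n ∧ a • g • n ≠ g • n ∧ g • (l + n) = l + n ∧ l ≠ n := by
  obtain ⟨g, hgF, hag, hgo, hN4, htriv⟩ := hc
  have hPz : zpowers g ≤ F := zpowers_le.mpr hgF
  haveI := normal_of_le h.cyc h.norm hPz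
  have hPo : Odd (Nat.card (zpowers g)) := Odd.of_dvd_nat h.odd (card_dvd_of_le hPz)
  have hg3 : g ^ 3 = 1 := by rw [← hgo]; exact pow_orderOf_eq_one g
  have two := h.two
  have hfpf : ∀ n ∈ (av (zpowers g) : M →+ M).ker, g • n = n → n = 0 := fun n hn hgn =>
    fpf (N := ⊤) h hgF ⟨AddSubgroup.mem_top _, hn⟩ hgn
  have hN1 := hg.ker h.cyc h.odd h.two h.norm hPz
  rw [top_inf_eq] at hN1
  have haN := hN1.inv' h.norm a ha
  have hgN := hN1.inv g hgF
  set N1 := (av (zpowers g) : M →+ M).ker with hN1d
  -- decomposition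
  have hav : ∀ m : M, a • av (zpowers g) m = av (zpowers g) m := fun m =>
    htriv _ ⟨AddSubgroup.mem_top _, fun p hp => smul_av hp m⟩
  have hgav : ∀ m : M, g • av (zpowers g) m = av (zpowers g) m := fun m => smul_av (mem_zpowers g) m
  have hsub : ∀ m : M, m - av (zpowers g) m ∈ N1 := by
    intro m
    change av (zpowers g) (m - av (zpowers g) m) = 0
    rw [map_sub, av_fixed hPo two (m := av (zpowers g) m) fun p hp => smul_av hp _, sub_self]
  have haa : ∀ m : M, a • a • m = m := fun m => by rw [smul_smul, h.sq a ha, one_smul]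
  -- an element of `N1` moved by `a`
  obtain ⟨n, hn, han⟩ : ∃ n ∈ N1, a • n ≠ n := by
    by_contra hcon
    push Not at hcon
    obtain ⟨m, hm⟩ := ha1
    apply hm
    have h1 := hcon _ (hsub m)
    rw [smul_sub, hav] at h1
    exact sub_left_injective h1
  set n1 := n + a • n with hn1
  have hn1N : n1 ∈ N1 := add_mem hn (haN n hn)
  have hn10 : n1 ≠ 0 := by
    intro e
    apply han
    calc a • n = (n + n) + a • n := by rw [two, zero_add]
      _ = n + (n + a • n) := by abel
      _ = n := by rw [← hn1, e, add_zero]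
  have han1 : a • n1 = n1 := by rw [hn1, smul_add, haa, add_comm]
  have hn0 : n ≠ 0 := by rintro rfl; exact han (smul_zero _)
  have han0 : a • n ≠ 0 := by
    intro e; apply hn0; rw [← haa n, e, smul_zero]
  have hn1n : n1 ≠ n := by
    intro e; apply han0; have : n + a • n = n + 0 := by rw [← hn1, e, add_zero]
    exact add_left_cancel this
  have hn1an : n1 ≠ a • n := by
    intro e; apply hn0; have : n + a • n = 0 + a • n := by rw [← hn1, e, zero_add]
    exact add_right_cancel this
  have hset : (N1 : Set M) = {0, n, a • n, n1} := by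
    symm
    refine Set.eq_of_subset_of_ncard_le ?_ ?_ (Set.toFinite _)
    · rintro m (rfl | rfl | rfl | rfl)
      · exact zero_mem _
      · exact hn
      · exact haN n hn
      · exact hn1N
    · have e1 : (N1 : Set M).ncard = 4 := hN4
      rw [e1]
      rw [Set.ncard_insert_of_notMem, Set.ncard_insert_of_notMem, Set.ncard_pair (Ne.symm hn1an)]
      · simp only [Set.mem_insert_iff, Set.mem_singleton_iff, not_or]
        exact ⟨Ne.symm han, Ne.symm hn1n⟩
      · simp only [Set.mem_insert_iff, Set.mem_singleton_iff, not_or]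
        exact ⟨Ne.symm hn0, Ne.symm han0, Ne.symm hn10⟩
  have hcases : ∀ m ∈ N1, m = 0 ∨ m = n ∨ m = a • n ∨ m = n1 := by
    intro m hm
    have : m ∈ (N1 : Set M) := hm
    rw [hset] at this
    simpa using this
  have hgn1 : g • n1 ≠ n1 := fun e => hn10 (hfpf n1 hn1N e)
  refine ⟨g, hgF, hg3, n1, hn10, fun m => ?_, ?_, hgn1, ?_, ?_, ?_⟩
  · -- `[m, a] ∈ {0, n1}`
    have e : m = av (zpowers g) m + (m - av (zpowers g) m) := by abel
    have key : a • (m - av (zpowers g) m) = m - av (zpowers g) m ∨
        a • (m - av (zpowers g) m) = (m - av (zpowers g) m) + n1 := by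
      rcases hcases _ (hsub m) with e1 | e1 | e1 | e1
      · left; rw [e1, smul_zero]
      · right; rw [e1, hn1, ← add_assoc, two, zero_add]
      · right
        rw [e1, haa, hn1]
        calc n = n + (a • n + a • n) := by rw [two, add_zero]
          _ = a • n + (n + a • n) := by abel
      · left; rw [e1, han1]
    rw [smul_sub, hav] at key
    rcases key with e1 | e1
    · left; exact sub_left_injective e1
    · right
      have e2 : m - av (zpowers g) m + n1 = (m + n1) - av (zpowers g) m := by abel
      rw [e2] at e1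
      exact sub_left_injective e1
  · -- the sum over the orbit
    refine hfpf _ (add_mem (add_mem hn1N (hgN _ hn1N)) (hgN _ (hgN _ hn1N))) ?_
    have e : g • g • g • n1 = n1 := by
      rw [smul_smul, smul_smul]
      have : g * g * g = g ^ 3 := by rw [pow_succ, pow_two]
      rw [this, hg3, one_smul]
    rw [smul_add, smul_add, e]; abel
  · -- `a • g • n1 ≠ g • n1`
    intro e
    have e1 : a • g • n1 = g⁻¹ • n1 := by
      calc a • g • n1 = (a * g * a⁻¹) • a • n1 := by rw [smul_smul, smul_smul, inv_mul_cancel_right]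
        _ = g⁻¹ • n1 := by rw [hag, han1]
    rw [e1] at e
    have e2 : n1 = g • g • n1 := by
      calc n1 = g • g⁻¹ • n1 := by rw [smul_inv_smul]
        _ = g • g • n1 := by rw [e]
    apply hgn1
    calc g • n1 = g • g • g • n1 := by rw [← e2]
      _ = n1 := by
        rw [smul_smul, smul_smul]
        have : g * g * g = g ^ 3 := by rw [pow_succ, pow_two]
        rw [this, hg3, one_smul]
  · -- `l + n1` is fixed
    have hl1 : l - av (zpowers g) l = n1 := by
      have hfix : a • (l - av (zpowers g) l) = l - av (zpowers g) l := by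
        rw [smul_sub, hav, hg.fix a ha]
      rcases hcases _ (hsub l) with e1 | e1 | e1 | e1
      · exfalso
        have hlf : ∀ f ∈ F, f • l ∈ fx (zpowers g) (⊤ : AddSubgroup M) := by
          intro f hf
          refine ⟨AddSubgroup.mem_top _, fun p hp => ?_⟩
          have e2 : l = av (zpowers g) l := sub_eq_zero.mp e1
          rw [smul_smul, comm_of_cyclic h.cyc (hPz hp) hf, mul_smul]
          congr 1
          rw [e2]; exact smul_av hp l
        have h1 := hg.gen _ hlf (AddSubgroup.mem_top n1)
        exact hgn1 (h1.2 g (mem_zpowers g))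
      · rw [e1] at hfix; exact absurd hfix han
      · rw [e1, haa] at hfix; exact absurd hfix.symm han
      · exact e1
    have e : l + n1 = av (zpowers g) l := by
      rw [← hl1]
      calc l + (l - av (zpowers g) l) = (l + l) - av (zpowers g) l := by abel
        _ = - av (zpowers g) l := by rw [two, zero_sub]
        _ = av (zpowers g) l := neg_eq_of_add_eq_zero_left (two _)
    rw [e, hgav]
  · -- `l ≠ n1`
    intro e
    apply hM
    have h1 : (⊤ : AddSubgroup M) ≤ N1 := hg.gen _ fun f hf => by
      rw [e]; exact hN1.inv f hf n1 hn1N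
    rw [top_le_iff] at h1
    rw [← hN4, h1, AddSubgroup.card_top]

end Cfsg.Agent.OddCyclic.EO.ThreeM
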