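import Mathlib
import Cfsg.Agent.OddCyclic.EO.Tri
import Cfsg.Agent.OddCyclic.EO.ThreeM

/-!
# `n = 1`, `|V_z| = 32`: the module of order 16

`QM F g`: `M` of order 16, `g` of order 5 generates a normal subgroup; irreducibility and uniqueness of the involution
fixing a vector. `quad`: the second case of the trichotomy.
-/

set_option autoImplicit false
set_option linter.unusedSectionVars false
set_option linter.style.haveILetI false

namespace Cfsg.Agent.OddCyclic.EO.Quad

open Subgroup Cfsg Cfsg.Agent.ZN Cfsg.Agent.MinSimple.Geo Cfsg.Agent.OddCyclic.GeoC Cfsg.Agent.OddCyclic.BTwoA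
  Cfsg.Agent.OddCyclic.EO.Line Cfsg.Agent.OddCyclic.EO.Base Cfsg.Agent.OddCyclic.EO.RepM
  Cfsg.Agent.OddCyclic.EO.Fit Cfsg.Agent.OddCyclic.EO.FitB Cfsg.Agent.OddCyclic.EO.FitC
  Cfsg.Agent.OddCyclic.EO.Sit Cfsg.Agent.OddCyclic.EO.Two Cfsg.Agent.OddCyclic.EO.One
  Cfsg.Agent.OddCyclic.EO.OneOf Cfsg.Agent.OddCyclic.EO.Tri Cfsg.Agent.OddCyclic.EO.ThreeM
open Cfsg.Agent.ZN.Block (conj_mem_of_normalizer conj_mem_of_normalizer' le_normalizer_of_forall
  mem_normalizer_of card_mul_relIndex')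

universe u v

section module

variable {X : Type u} [Group X] [Finite X] (M : Type v) [AddCommGroup M] [Finite M] [DistribMulAction X M]

/-- `M` of order 16, `⟨g⟩` normal of order 5 -/
structure QM (g : X) : Prop where
  card : Nat.card M = 16
  ff : ∀ x : X, (∀ m : M, x • m = m) → x = 1
  o5 : orderOf g = 5
  nrm : (zpowers g).Normal

variable {M} {g : X}

theorem QM.fpf (h : QM M g) {m : M} (hm : g • m = m) : m = 0 := by
  classical
  haveI : Fact (Nat.Prime 5) := ⟨by norm_num⟩
  have hp : IsPGroup 5 (zpowers g) := IsPGroup.of_card (n := 1) (by rw [Nat.card_zpowers, h.o5, pow_one])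
  have h1 := hp.card_modEq_card_fixedPoints M
  let K : AddSubgroup M := fx (zpowers g) (⊤ : AddSubgroup M)
  have h2 : Nat.card (MulAction.fixedPoints (zpowers g) M) = Nat.card K := by
    refine Nat.card_congr (Equiv.subtypeEquivRight fun m => ?_)
    constructor
    · intro hm; exact ⟨AddSubgroup.mem_top _, fun a ha => hm ⟨a, ha⟩⟩
    · rintro ⟨-, hm⟩ ⟨a, ha⟩; exact hm a ha
  rw [h2, h.card] at h1
  have h3 : Nat.card K ∣ 16 := by rw [← h.card]; exact AddSubgroup.card_addSubgroup_dvd_card K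
  have h4 : Nat.card K = 1 ∨ Nat.card K = 16 := by
    have h5 : Nat.card K ∈ Nat.divisors 16 := Nat.mem_divisors.mpr ⟨h3, by norm_num⟩
    have h6 : Nat.divisors 16 = {1, 2, 4, 8, 16} := by decide
    rw [h6] at h5
    simp only [Finset.mem_insert, Finset.mem_singleton] at h5
    rcases h5 with e | e | e | e | e
    · exact Or.inl e
    · rw [e] at h1; exact absurd h1 (by decide)
    · rw [e] at h1; exact absurd h1 (by decide)
    · rw [e] at h1; exact absurd h1 (by decide)
    · exact Or.inr e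
  have hmK : m ∈ K := fx_zpowers (AddSubgroup.mem_top _) hm
  rcases h4 with e | e
  · have h5 : K = ⊥ := AddSubgroup.card_eq_one.mp e
    rw [h5, AddSubgroup.mem_bot] at hmK
    exact hmK
  · exfalso
    have h5 : K = ⊤ := AddSubgroup.eq_top_of_card_eq K (by rw [e, h.card])
    have h6 : g = 1 := h.ff g fun m => by
      have : m ∈ K := by rw [h5]; exact AddSubgroup.mem_top _
      exact this.2 g (mem_zpowers g)
    have h7 := h.o5
    rw [h6, orderOf_one] at h7
    norm_num at h7

theorem QM.fpf' (h : QM M g) {x : X} (hx : x ∈ zpowers g) (hx1 : x ≠ 1) {m : M} (hm : x • m = m) : m = 0 := by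
  have hgx : g ∈ zpowers x := by
    have h1 : orderOf x = 5 := by
      have h2 : orderOf x ∣ 5 := by rw [← h.o5]; exact orderOf_dvd_of_mem_zpowers hx
      rcases (Nat.dvd_prime (by norm_num)).mp h2 with e | e
      · exact absurd (orderOf_eq_one_iff.mp e) hx1
      · exact e
    have h3 : zpowers x = zpowers g :=
      Subgroup.eq_of_le_of_card_ge (zpowers_le.mpr hx) (by rw [Nat.card_zpowers, Nat.card_zpowers, h1, h.o5])
    rw [h3]; exact mem_zpowers g
  obtain ⟨k, rfl⟩ := hgx
  apply h.fpf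
  have h1 : x ∈ MulAction.stabilizer X m := hm
  exact (MulAction.stabilizer X m).zpow_mem h1 k

theorem QM.irr (h : QM M g) {N : AddSubgroup M} (hN : ∀ n ∈ N, g • n ∈ N) : N = ⊥ ∨ N = ⊤ := by
  have hinv : ∀ x ∈ zpowers g, ∀ n ∈ N, x • n ∈ N := by
    rintro x hx n hn
    obtain ⟨k, rfl⟩ := (mem_powers_iff_mem_zpowers.mpr hx)
    induction k with
    | zero => simpa using hn
    | succ k ih =>
      have : g ^ (k + 1) • n = g • (g ^ k • n) := by rw [smul_smul, ← pow_succ']
      change g ^ (k + 1) • n ∈ N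
      rw [this]
      exact hN _ (ih (npow_mem_zpowers g k))
  have h1 := free_dvd (H := zpowers g) (K := N) hinv (fun x hx n _ hn0 e => by
    by_contra hx1
    exact hn0 (h.fpf' hx hx1 e))
  rw [Nat.card_zpowers, h.o5] at h1
  have h3 : Nat.card N ∣ 16 := by rw [← h.card]; exact AddSubgroup.card_addSubgroup_dvd_card N
  have h5 : Nat.card N ∈ Nat.divisors 16 := Nat.mem_divisors.mpr ⟨h3, by norm_num⟩
  have h6 : Nat.divisors 16 = {1, 2, 4, 8, 16} := by decide
  rw [h6] at h5
  simp only [Finset.mem_insert, Finset.mem_singleton] at h5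
  rcases h5 with e | e | e | e | e
  · exact Or.inl (AddSubgroup.card_eq_one.mp e)
  · rw [e] at h1; exact absurd h1 (by decide)
  · rw [e] at h1; exact absurd h1 (by decide)
  · rw [e] at h1; exact absurd h1 (by decide)
  · exact Or.inr (AddSubgroup.eq_top_of_card_eq N (by rw [e, h.card]))

/-- an element commuting with `g` and fixing a vector is trivial -/
theorem QM.eq_one (h : QM M g) {s : X} (hs : s * g = g * s) {m : M} (hm0 : m ≠ 0) (hm : s • m = m) : s = 1 := by
  have h1 : fx (zpowers s) (⊤ : AddSubgroup M) = ⊤ := by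
    refine (h.irr (N := fx (zpowers s) (⊤ : AddSubgroup M)) fun n hn => ?_).resolve_left fun e => ?_
    · refine fx_zpowers (AddSubgroup.mem_top _) ?_
      rw [smul_smul, hs, mul_smul, hn.2 s (mem_zpowers s)]
    · have h2 : m ∈ fx (zpowers s) (⊤ : AddSubgroup M) := fx_zpowers (AddSubgroup.mem_top _) hm
      rw [e, AddSubgroup.mem_bot] at h2
      exact hm0 h2
  refine h.ff s fun n => ?_
  have h2 : n ∈ fx (zpowers s) (⊤ : AddSubgroup M) := by rw [h1]; exact AddSubgroup.mem_top _
  exact h2.2 s (mem_zpowers s)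

/-- an involution fixing a vector inverts `g` -/
theorem QM.inv (h : QM M g) {s : X} (hs : s * s = 1) (hs1 : s ≠ 1) {m : M} (hm0 : m ≠ 0) (hm : s • m = m) :
    s * g * s⁻¹ = g⁻¹ := by
  rcases pm (F := zpowers g) inferInstance h.nrm hs (mem_zpowers g) (r := 5) (m := 1) (by norm_num)
    (by norm_num) (by rw [h.o5, pow_one]) with e | e
  · exact absurd (h.eq_one e hm0 hm) hs1
  · exact e

/-- uniqueness of the involution fixing a vector -/
theorem QM.uniq (h : QM M g) {s s' : X} (hs : s * s = 1) (hs1 : s ≠ 1) (hs' : s' * s' = 1) (hs1' : s' ≠ 1)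
    {m : M} (hm0 : m ≠ 0) (hm : s • m = m) (hm' : s' • m = m) : s = s' := by
  have h1 := h.inv hs hs1 hm0 hm
  have h2 := h.inv hs' hs1' hm0 hm'
  have h3 : (s * s') * g = g * (s * s') := by
    have e : (s * s') * g * (s * s')⁻¹ = g := by
      calc (s * s') * g * (s * s')⁻¹ = s * (s' * g * s'⁻¹) * s⁻¹ := by group
        _ = (s * g * s⁻¹)⁻¹ := by rw [h2]; group
        _ = g := by rw [h1, inv_inv]
    exact mul_inv_eq_iff_eq_mul.mp e
  have h4 := h.eq_one h3 hm0 (by rw [mul_smul, hm', hm])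
  have h5 : s = s'⁻¹ := eq_inv_of_mul_eq_one_left h4
  rw [h5, inv_eq_of_mul_eq_one_left hs']

end module

variable {G : Type u} [Group G] [Finite G] {T V : Subgroup G} {z x y : G}

/-- the second case of the trichotomy -/
theorem quad (h : One T V z) (hy : y ∈ V) (hy1 : y ≠ 1) (hyz : y ≠ z) (h8 : Nat.card (ws V z) ≠ 8)
    (hnA : ¬ ∀ w ∈ ws V z, w ∈ kq V y → ∀ b ∈ ws V y, b * w = w * b) {M X : Type u} [AddCommGroup M] [Group X]
    [DistribMulAction X M] (R : Rep V z M X) :
    ∃ (F A : Subgroup X) (g : X), Amb M F A ∧ Good F A (⊤ : AddSubgroup M) (R.pi y) ∧ centralizer (F : Set X) ≤ F ∧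
      g ∈ F ∧ QM M g ∧ (Nat.card F = 5 ∨ Nat.card F = 15) ∧
      (∀ b ∈ ws V y, b ∉ kq V z → Nat.card (fx (zpowers (R.rho b)) (⊤ : AddSubgroup M)) = 4) := by
  have hcol : Col V z y := Base.col_of_mem h.toGeoC h.z_mem hy h.z_ne hy1 (Ne.symm hyz)
  have hyp : Pt z y := hcol.pt h.toGeoC
  haveI : Finite M := R.finite_left
  haveI : Finite X := R.finite_right
  have hle : ws V y ≤ centralizer ({z} : Set G) := ws_le_cent h.toOdd hcol
  have two := Rep.two h.toOdd (Pt.refl z) R
  push Not at hnA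
  obtain ⟨w, hw, hwk, b, hb, hbw⟩ := hnA
  have hyy := Base.Pt.sq h.toGeoC hyp
  -- `[b, w] = y`
  have hbwy : b * w * b⁻¹ * w⁻¹ = y := by
    have h1 := inv_mem (hwk.2.1 b hb)
    have e : (w * b * w⁻¹ * b⁻¹)⁻¹ = b * w * b⁻¹ * w⁻¹ := by group
    rw [e, mem_zpowers_iff_of_mul_self hyy] at h1
    rcases h1 with e1 | e1
    · exfalso; apply hbw
      rw [mul_inv_eq_one, mul_inv_eq_iff_eq_mul] at e1
      exact e1
    · exact e1
  have hbk : b ∉ kq V z := by
    intro hbk
    have h1 := hbk.2.1 w hw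
    rw [hbwy, mem_zpowers_iff_of_mul_self h.zz] at h1
    rcases h1 with e | e
    · exact hy1 e
    · exact hyz e
  obtain ⟨F, A, N0, st⟩ := exists_st h R hy hy1 hyz hb hbk
  have hwN : R.pi w ∈ N0 := (st.hN _).mpr ⟨w, hw, hwk, rfl⟩
  have hbw2 : R.rho b • R.pi w = R.pi w + R.pi y := by
    have h1 := h.smul_add R hcol hb hw
    rw [hbwy] at h1
    calc R.rho b • R.pi w = R.rho b • R.pi w + (R.pi w + R.pi w) := by rw [two, add_zero]
      _ = R.pi w + R.pi y := by rw [← add_assoc, h1, add_comm]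
  have hl0 : R.pi y ≠ 0 := Rep.pi_line_ne_zero h.toOdd (Pt.refl z) R hcol
  rcases tri st.amb st.good R.faithful st.mem st.ne st.card.le st.act with htri | ⟨h16, hfx, hF, -⟩
  · exfalso
    have hM4 : Nat.card M ≠ 4 := by
      intro e
      apply h8
      rw [card_M h.toOdd (Pt.refl z) R, e]
    have hmv : ∃ m : M, R.rho b • m ≠ m := ⟨R.pi w, by
      rw [hbw2]; intro e; exact hl0 (by simpa using e)⟩
    obtain ⟨g, hgF, hg3, n, hn0, hact, hsum, hgn, hagn, hgl, hln⟩ := mod_three st.amb st.good st.mem hmv htri hM4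
    rcases hact (R.pi w) with e | e
    · rw [hbw2] at e; exact hl0 (by simpa using e)
    · rw [hbw2] at e
      exact hln (add_left_cancel e)
  · -- the 5-element
    haveI : Fact (Nat.Prime 5) := ⟨by norm_num⟩
    obtain ⟨⟨g, hgF⟩, hgo⟩ := exists_prime_orderOf_dvd_card' (G := F) 5 (by rcases hF with e | e <;> rw [e] <;> norm_num)
    rw [orderOf_mk] at hgo
    refine ⟨F, A, g, st.amb, st.good, st.cent, hgF,
      { card := h16, ff := R.faithful, o5 := hgo
        nrm := normal_of_le st.amb.cyc st.amb.norm (zpowers_le.mpr hgF) }, hF, fun b' hb' hbk' => ?_⟩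
    rw [h.rho_eq R hcol hb' hb hbk' hbk]
    exact hfx

end Cfsg.Agent.OddCyclic.EO.Quad
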