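import Mathlib
import Cfsg.Agent.OddCyclic.EO.Quad
import Cfsg.Agent.OddCyclic.EO.NOf

/-!
# `n = 1`, `|V_z| = 32`: `|F| = 15` is impossible
-/

set_option autoImplicit false
set_option linter.unusedSectionVars false
set_option linter.style.haveILetI false

namespace Cfsg.Agent.OddCyclic.EO.Fifteen

open Subgroup Cfsg Cfsg.Agent.ZN Cfsg.Agent.MinSimple.Geo Cfsg.Agent.OddCyclic.GeoC Cfsg.Agent.OddCyclic.BTwoA
  Cfsg.Agent.OddCyclic.EO.Line Cfsg.Agent.OddCyclic.EO.Base Cfsg.Agent.OddCyclic.EO.RepM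
  Cfsg.Agent.OddCyclic.EO.Fit Cfsg.Agent.OddCyclic.EO.FitB Cfsg.Agent.OddCyclic.EO.FitC
  Cfsg.Agent.OddCyclic.EO.Sit Cfsg.Agent.OddCyclic.EO.Two Cfsg.Agent.OddCyclic.EO.One
  Cfsg.Agent.OddCyclic.EO.OneOf Cfsg.Agent.OddCyclic.EO.Tri Cfsg.Agent.OddCyclic.EO.Quad
open Cfsg.Agent.ZN.Block (conj_mem_of_normalizer conj_mem_of_normalizer' le_normalizer_of_forall
  mem_normalizer_of card_mul_relIndex')

universe u

variable {G : Type u} [Group G]

/-- uniqueness of the involution of `C(x)` modulo `K_x` fixing a vector -/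
def U3 (V : Subgroup G) (x : G) : Prop := ∀ s s' w : G, s * s = 1 → s' * s' = 1 → s ∈ centralizer ({x} : Set G) →
  s' ∈ centralizer ({x} : Set G) → s ∉ kq V x → s' ∉ kq V x → w ∈ ws V x → w ∉ zpowers x → s * w = w * s →
  s' * w = w * s' → s * s' ∈ kq V x

/-- `|V_x ∩ V_y| = 8`, and this is the fixed space of `V_y` on `V_x / ⟨x⟩` -/
def D8 (V : Subgroup G) (x y : G) : Prop := Nat.card ↥(ws V x ⊓ ws V y) = 8 ∧
  ∀ b ∈ ws V y, b ∉ kq V x → ∀ w ∈ ws V x, b * w * b⁻¹ * w⁻¹ ∈ zpowers x → w ∈ ws V y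

theorem mem_kq_conj {V : Subgroup G} {g x s : G} : s ∈ kq V (g * x * g⁻¹) ↔ g⁻¹ * s * g ∈ kq V x := by
  rw [← cj_kq0, mem_cj]

theorem mem_ws_conj {V : Subgroup G} {g x s : G} : s ∈ ws V (g * x * g⁻¹) ↔ g⁻¹ * s * g ∈ ws V x := by
  rw [← cj_ws, mem_cj]

theorem mem_zp_conj {g x s : G} : s ∈ zpowers (g * x * g⁻¹) ↔ g⁻¹ * s * g ∈ zpowers x := by
  constructor
  · rintro ⟨k, rfl⟩
    refine ⟨k, ?_⟩
    change x ^ k = g⁻¹ * (g * x * g⁻¹) ^ k * g
    rw [conj_zpow]; group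
  · rintro ⟨k, hk⟩
    refine ⟨k, ?_⟩
    change (g * x * g⁻¹) ^ k = s
    change x ^ k = g⁻¹ * s * g at hk
    rw [conj_zpow, hk]; group

theorem mem_cent_conj {g x s : G} : s ∈ centralizer ({g * x * g⁻¹} : Set G) ↔
    g⁻¹ * s * g ∈ centralizer ({x} : Set G) := by
  rw [← cj_centralizer_singleton, mem_cj]

theorem U3.conj {V : Subgroup G} {x : G} (h : U3 V x) (g : G) : U3 V (g * x * g⁻¹) := by
  intro s s' w hs hs' hsc hsc' hsk hsk' hw hwz hc hc'
  rw [mem_kq_conj]
  rw [mem_kq_conj] at hsk hsk'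
  rw [mem_ws_conj] at hw
  rw [mem_zp_conj] at hwz
  rw [mem_cent_conj] at hsc hsc'
  have key := h (g⁻¹ * s * g) (g⁻¹ * s' * g) (g⁻¹ * w * g)
    (by calc g⁻¹ * s * g * (g⁻¹ * s * g) = g⁻¹ * (s * s) * g := by group
          _ = 1 := by rw [hs]; group)
    (by calc g⁻¹ * s' * g * (g⁻¹ * s' * g) = g⁻¹ * (s' * s') * g := by group
          _ = 1 := by rw [hs']; group)
    hsc hsc' hsk hsk' hw hwz
    (by calc g⁻¹ * s * g * (g⁻¹ * w * g) = g⁻¹ * (s * w) * g := by group
          _ = g⁻¹ * w * g * (g⁻¹ * s * g) := by rw [hc]; group)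
    (by calc g⁻¹ * s' * g * (g⁻¹ * w * g) = g⁻¹ * (s' * w) * g := by group
          _ = g⁻¹ * w * g * (g⁻¹ * s' * g) := by rw [hc']; group)
  have e : g⁻¹ * (s * s') * g = g⁻¹ * s * g * (g⁻¹ * s' * g) := by group
  rw [e]; exact key

theorem D8.conj {V : Subgroup G} {x y : G} (h : D8 V x y) (g : G) : D8 V (g * x * g⁻¹) (g * y * g⁻¹) := by
  refine ⟨?_, fun b hb hbk w hw hbw => ?_⟩
  · rw [← cj_ws, ← cj_ws, ← cj_inf, card_cj]; exact h.1
  · rw [mem_ws_conj] at hb hw ⊢
    rw [mem_kq_conj] at hbk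
    rw [mem_zp_conj] at hbw
    refine h.2 _ hb hbk _ hw ?_
    have e : g⁻¹ * b * g * (g⁻¹ * w * g) * (g⁻¹ * b * g)⁻¹ * (g⁻¹ * w * g)⁻¹ = g⁻¹ * (b * w * b⁻¹ * w⁻¹) * g := by
      group
    rw [e]; exact hbw

variable [Finite G] {T V : Subgroup G} {z x y : G}

/-- at `z` -/
theorem u3 (h : One T V z) {M X : Type u} [AddCommGroup M] [Group X] [DistribMulAction X M]
    (R : Rep V z M X) {g : X} (hq : QM M g) : U3 V z := by
  haveI : Finite M := R.finite_left
  haveI : Finite X := R.finite_right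
  intro s s' w hs hs' hsc hsc' hsk hsk' hw hwz hc hc'
  have key : ∀ s ∈ centralizer ({z} : Set G), s * s = 1 → s ∉ kq V z → s * w = w * s →
      R.rho s * R.rho s = 1 ∧ R.rho s ≠ 1 ∧ R.rho s • R.pi w = R.pi w := by
    intro s hsc hs hsk hc
    refine ⟨?_, ?_, ?_⟩
    · rw [← R.rho_mul s hsc s hsc, hs, R.rho_one]
    · rw [Ne, Rep.rho_eq_one R hsc]; exact hsk
    · rw [R.smul_pi s hsc w hw, hc, mul_inv_cancel_right]
  obtain ⟨a1, a2, a3⟩ := key s hsc hs hsk hc
  obtain ⟨b1, b2, b3⟩ := key s' hsc' hs' hsk' hc'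
  have hw0 : R.pi w ≠ 0 := by
    intro e
    rcases (Rep.pi_eq_zero' h.toOdd (Pt.refl z) R hw).mp e with e1 | e1
    · exact hwz (by rw [e1]; exact one_mem _)
    · exact hwz (by rw [e1]; exact mem_zpowers z)
  have h1 := hq.uniq a1 a2 b1 b2 hw0 a3 b3
  rw [RepM.Rep.rho_eq_rho R hsc hsc'] at h1
  rwa [inv_eq_of_mul_eq_one_left hs'] at h1

theorem d8 (h : One T V z) (hcol : Col V z y) {M X : Type u} [AddCommGroup M] [Group X] [DistribMulAction X M]
    (R : Rep V z M X) (h16 : Nat.card M = 16)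
    (hf : ∀ b ∈ ws V y, b ∉ kq V z → Nat.card (fx (zpowers (R.rho b)) (⊤ : AddSubgroup M)) = 4) : D8 V z y := by
  haveI : Finite M := R.finite_left
  haveI : Finite X := R.finite_right
  have hyp : Pt z y := hcol.pt h.toGeoC
  have hle : ws V y ≤ centralizer ({z} : Set G) := ws_le_cent h.toOdd hcol
  have two := Rep.two h.toOdd (Pt.refl z) R
  set U := ws V z ⊓ ws V y with hUd
  have hU : U ≤ ws V z := inf_le_left
  have hzU : z ∈ U := ⟨h.V_le_ws h.z_mem, hcol.symm.mem_ws⟩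
  have hcard := card_push h.toOdd (Pt.refl z) R hU hzU
  have key : ∀ b ∈ ws V y, b ∉ kq V z → Nat.card (push R U hU) = 4 ∧
      fx (zpowers (R.rho b)) (⊤ : AddSubgroup M) = push R U hU := by
    intro b hb hbk
    have h4 := hf b hb hbk
    set C := fx (zpowers (R.rho b)) (⊤ : AddSubgroup M) with hC
    have hDC : push R U hU ≤ C := by
      rintro _ ⟨w, hw, rfl⟩
      refine fx_zpowers (AddSubgroup.mem_top _) ?_
      rw [R.smul_pi b (hle hb) w hw.1, Base.ws_comm h.toOdd hyp hb hw.2, mul_inv_cancel_right]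
    let φ : M →+ M :=
      { toFun := fun m => R.rho b • m + m
        map_zero' := by simp
        map_add' := fun x y => by rw [_root_.smul_add]; abel }
    have hker : φ.ker = C := by
      ext m
      constructor
      · intro hm
        have h1 : R.rho b • m + m = 0 := hm
        refine fx_zpowers (AddSubgroup.mem_top _) ?_
        calc R.rho b • m = R.rho b • m + (m + m) := by rw [two, add_zero]
          _ = m := by rw [← add_assoc, h1, zero_add]
      · intro hm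
        have h1 := hm.2 _ (mem_zpowers _)
        change R.rho b • m + m = 0
        rw [h1, two]
    have hrng : φ.range ≤ push R U hU := by
      rintro _ ⟨m, rfl⟩
      obtain ⟨w, hw, rfl⟩ := R.pi_surj m
      change R.rho b • R.pi w + R.pi w ∈ _
      rw [h.smul_add R hcol hb hw]
      exact ⟨_, comm_mem h.toOdd hcol hw hb, rfl⟩
    have hc1 : Nat.card M = Nat.card φ.ker * Nat.card φ.range := by
      rw [AddSubgroup.card_eq_card_quotient_mul_card_addSubgroup φ.ker, mul_comm,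
        Nat.card_congr (QuotientAddGroup.quotientKerEquivRange φ).toEquiv]
    rw [hker, h4, h16] at hc1
    have h5 := card_mono hrng
    have h6 := card_mono hDC
    have h7 : Nat.card (push R U hU) = 4 := by omega
    refine ⟨h7, ?_⟩
    exact (SetLike.coe_injective (Set.Finite.eq_of_subset_of_card_le (Set.toFinite _) hDC
      (by change Nat.card C ≤ Nat.card (push R U hU); omega))).symm
  refine ⟨?_, fun b hb hbk w hw hbw => ?_⟩
  · obtain ⟨b, hb, hbk⟩ := h.exists_not_mem hcol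
    rw [hcard, (key b hb hbk).1]
  · have h1 := (key b hb hbk).2
    have h2 : R.pi w ∈ fx (zpowers (R.rho b)) (⊤ : AddSubgroup M) := by
      refine fx_zpowers (AddSubgroup.mem_top _) ?_
      rw [R.smul_pi b (hle hb) w hw, Rep.pi_eq_pi h.toOdd (Pt.refl z) R (R.conj_mem (hle hb) hw) hw]
      rcases (mem_zpowers_iff_of_mul_self h.zz).mp hbw with e | e
      · left; exact mul_inv_eq_one.mp e
      · right; exact mul_inv_eq_iff_eq_mul.mp e
    rw [h1] at h2
    obtain ⟨w', hw', e⟩ := h2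
    rcases (Rep.pi_eq_pi h.toOdd (Pt.refl z) R hw'.1 hw).mp e with e1 | e1
    · rw [← e1]; exact hw'.2
    · have : w = z * w' := by rw [e1, ← mul_assoc, h.zz, one_mul]
      rw [this]; exact mul_mem hcol.symm.mem_ws hw'.2

/-- transitivity on the vectors if `|F| = 15` -/
theorem exists_conj (h : One T V z) (hy : y ∈ V) (hy1 : y ≠ 1) (hyz : y ≠ z) {M X : Type u} [AddCommGroup M]
    [Group X] [DistribMulAction X M] (R : Rep V z M X) {F A : Subgroup X} (hamb : Amb M F A)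
    (hgood : Good F A (⊤ : AddSubgroup M) (R.pi y)) (h16 : Nat.card M = 16) (hF : Nat.card F = 15) {w : G}
    (hw : w ∈ ws V z) (hwz : w ∉ zpowers z) : ∃ c : G, c * z = z * c ∧ c * y * c⁻¹ = w := by
  haveI : Finite M := R.finite_left
  haveI : Finite X := R.finite_right
  have hcol : Col V z y := Base.col_of_mem h.toGeoC h.z_mem hy h.z_ne hy1 (Ne.symm hyz)
  have hl0 : R.pi y ≠ 0 := Rep.pi_line_ne_zero h.toOdd (Pt.refl z) R hcol
  have hw0 : R.pi w ≠ 0 := by
    intro e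
    rcases (Rep.pi_eq_zero' h.toOdd (Pt.refl z) R hw).mp e with e1 | e1
    · exact hwz (by rw [e1]; exact one_mem _)
    · exact hwz (by rw [e1]; exact mem_zpowers z)
  -- the orbit
  obtain ⟨f, hf, hfw⟩ : ∃ f ∈ F, f • R.pi y = R.pi w := by
    have hinj : Function.Injective (fun f : F => (f : X) • R.pi y) := by
      rintro ⟨f, hf⟩ ⟨f', hf'⟩ e
      have e' : f • R.pi y = f' • R.pi y := e
      have h1 : (f'⁻¹ * f) • R.pi y = R.pi y := by rw [mul_smul, e', inv_smul_smul]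
      have h2 := stab hamb hgood R.faithful (mul_mem (inv_mem hf') hf) h1
      exact Subtype.ext (inv_mul_eq_one.mp h2).symm
    have hsub : Set.range (fun f : F => (f : X) • R.pi y) ⊆ ({0}ᶜ : Set M) := by
      rintro _ ⟨f, rfl⟩ e
      exact hl0 (smul_left_cancel (f : X) (by rw [smul_zero]; exact e))
    have h1 : (Set.range (fun f : F => (f : X) • R.pi y)).ncard = 15 := by
      rw [← hF, ← Set.image_univ, Set.ncard_image_of_injective _ hinj, Set.ncard_univ]
    have h2 : ({0}ᶜ : Set M).ncard = 15 := by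
      rw [Set.ncard_compl, Set.ncard_singleton, h16]
    have h3 := Set.eq_of_subset_of_ncard_le hsub (by rw [h1, h2]) (Set.toFinite _)
    have h4 : R.pi w ∈ ({0}ᶜ : Set M) := hw0
    rw [← h3] at h4
    obtain ⟨f, hf⟩ := h4
    exact ⟨f, f.2, hf⟩
  obtain ⟨c, hc, rfl⟩ := R.rho_surj f
  rw [R.smul_pi c hc y hcol.mem_ws] at hfw
  have hcz : c * z = z * c := mem_centralizer_singleton_iff.mp hc
  rcases (Rep.pi_eq_pi h.toOdd (Pt.refl z) R (R.conj_mem hc hcol.mem_ws) hw).mp hfw with e | e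
  · exact ⟨c, hcz, e⟩
  · obtain ⟨t, ht, htm⟩ := h.exists_swap' h.z_mem h.z_ne
    have htz : t * z = z * t := mem_centralizer_singleton_iff.mp (BTwoB.kq_le V z ht)
    refine ⟨c * t, ?_, ?_⟩
    · rw [mul_assoc, htz, ← mul_assoc, hcz, mul_assoc]
    · calc c * t * y * (c * t)⁻¹ = c * (t * y * t⁻¹) * c⁻¹ := by group
        _ = (c * z) * y * c⁻¹ := by rw [htm y hy hy1 hyz]; group
        _ = z * (c * y * c⁻¹) := by rw [hcz]; group
        _ = w := by rw [e, ← mul_assoc, h.zz, one_mul]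

/-- **`|F| = 15` is impossible** -/
theorem false_of_trans (h : One T V z) (hy : y ∈ V) (hy1 : y ≠ 1) (hyz : y ≠ z) (h32 : Nat.card (ws V z) = 32)
    (hU : U3 V z) (hD : D8 V z y)
    (htr : ∀ w ∈ ws V z, w ∉ zpowers z → ∃ c : G, c * z = z * c ∧ c * y * c⁻¹ = w) : False := by
  have hcol : Col V z y := Base.col_of_mem h.toGeoC h.z_mem hy h.z_ne hy1 (Ne.symm hyz)
  have hyp : Pt z y := hcol.pt h.toGeoC
  have hyy := Base.Pt.sq h.toGeoC hyp
  obtain ⟨n0, hn0, hn1, hn2⟩ := NOf.exists_swap2 h.toOdd h.z_mem hy h.z_ne hy1 (Ne.symm hyz)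
  have hD' : D8 V y z := by
    have := hD.conj n0
    rwa [hn1, hn2] at this
  set E := ws V z ⊓ ws V y with hE
  -- orders
  have key : ∀ u v : G, (kq V u).relIndex (ws V v) = 2 → Nat.card (ws V v) = 32 → Nat.card ↥(ws V v ⊓ kq V u) = 16 := by
    intro u v h1 h2
    have h4 := Subgroup.index_mul_card ((kq V u).subgroupOf (ws V v))
    have h5 : Nat.card ((kq V u).subgroupOf (ws V v)) = Nat.card ↥(ws V v ⊓ kq V u) :=
      Nat.card_congr
        { toFun := fun a => ⟨((a : ws V v) : G), (a : ws V v).2, a.2⟩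
          invFun := fun a => ⟨⟨a, a.2.1⟩, a.2.2⟩
          left_inv := fun _ => rfl
          right_inv := fun _ => rfl }
    rw [h5] at h4
    change (kq V u).relIndex (ws V v) * _ = _ at h4
    rw [h1, h2] at h4
    omega
  have h32' : Nat.card (ws V y) = 32 := by rw [← hn1, ← cj_ws, card_cj]; exact h32
  have c1 := key y z (h.k1 y z hyp hcol.symm) h32
  have c2 := key z y (h.k1 z y (Pt.refl z) hcol) h32'
  have hEc : Nat.card E = 8 := hD.1
  obtain ⟨x, hx, hxE⟩ : ∃ x ∈ ws V z ⊓ kq V y, x ∉ E := by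
    by_contra hcon
    push Not at hcon
    have := Subgroup.card_le_of_le hcon
    omega
  obtain ⟨b, hb, hbE⟩ : ∃ b ∈ ws V y ⊓ kq V z, b ∉ E := by
    by_contra hcon
    push Not at hcon
    have := Subgroup.card_le_of_le hcon
    omega
  have hxy : x ∉ ws V y := fun e => hxE ⟨hx.1, e⟩
  have hbz : b ∉ ws V z := fun e => hbE ⟨e, hb.1⟩
  have hzy : z ∈ ws V y := hcol.symm.mem_ws
  have hyz' : y ∈ ws V z := hcol.mem_ws
  have hzp : ∀ {w}, w ∈ zpowers z ↔ w = 1 ∨ w = z := mem_zpowers_iff_of_mul_self h.zz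
  have hyp' : ∀ {w}, w ∈ zpowers y ↔ w = 1 ∨ w = y := mem_zpowers_iff_of_mul_self hyy
  have hbb : b * b = 1 := Base.ws_sq h.toOdd hyp hb.1
  have hxx : x * x = 1 := Base.ws_sq h.toOdd (Pt.refl z) hx.1
  -- `V_z ∩ K_y` commutes with `b`
  have hcm : ∀ w ∈ ws V z, w ∈ kq V y → b * w = w * b := by
    intro w hw hwk
    have h1 := hb.2.2.1 w hw
    have h2 := inv_mem (hwk.2.1 b hb.1)
    have e : (w * b * w⁻¹ * b⁻¹)⁻¹ = b * w * b⁻¹ * w⁻¹ := by group
    rw [e, hyp'] at h2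
    rw [hzp] at h1
    have h3 : b * w * b⁻¹ * w⁻¹ = 1 := by
      rcases h1 with h1 | h1
      · exact h1
      · rcases h2 with h2 | h2
        · exact h2
        · exact absurd (h2.symm.trans h1) hyz
    rw [mul_inv_eq_one, mul_inv_eq_iff_eq_mul] at h3
    exact h3
  have hbx : b * x = x * b := hcm x hx.1 hx.2
  -- an element of `V_z` not commuting with `b`
  obtain ⟨w0, hw0, hw0k⟩ := h.exists_not_mem hcol.symm
  have hbw0 : b * w0 ≠ w0 * b := by
    intro e
    apply hbz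
    refine hD'.2 w0 hw0 hw0k b hb.1 ?_
    rw [← e, mul_inv_cancel_right, mul_inv_cancel]; exact one_mem _
  set D := ws V z ⊓ centralizer ({b} : Set G) with hDd
  have hDe : D = ws V z ⊓ kq V y := by
    apply le_antisymm
    · rintro w ⟨hw, hwb⟩
      refine ⟨hw, ?_⟩
      by_contra hwk
      have h1 := h.mul_mem_kq hcol.symm hw hw0 hwk hw0k
      have h2 := hcm _ (mul_mem hw hw0) h1
      apply hbw0
      have hwb' := mem_centralizer_singleton_iff.mp hwb
      calc b * w0 = w⁻¹ * (w * b) * w0 := by group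
        _ = w⁻¹ * (b * (w * w0)) := by rw [hwb']; group
        _ = w0 * b := by rw [h2]; group
    · rintro w ⟨hw, hwk⟩
      exact ⟨hw, mem_centralizer_singleton_iff.mpr (hcm w hw hwk).symm⟩
  have hDc : Nat.card D = 16 := by rw [hDe]; exact c1
  -- `x` is a point
  have hxz : x ∉ zpowers z := by
    rw [hzp]
    rintro (e | e)
    · exact hxy (by rw [e]; exact one_mem _)
    · exact hxy (by rw [e]; exact hzy)
  obtain ⟨c, hcz, hcy⟩ := htr x hx.1 hxz
  have hcz' : c * z * c⁻¹ = z := by rw [hcz, mul_inv_cancel_right]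
  have hcol1 : Col V z x := by
    have := hcol.conj c
    rwa [hcz', hcy] at this
  have hxp : Pt z x := hcol1.pt h.toGeoC
  have hD1 : D8 V z x := by
    have := hD.conj c
    rwa [hcz', hcy] at this
  have hDx : D8 V x z := by
    have := hD'.conj c
    rwa [hcz', hcy] at this
  have hUx : U3 V x := by
    have := (hU.conj n0).conj c
    rwa [hn1, hcy] at this
  set E1 := ws V z ⊓ ws V x with hE1
  have hE1c : Nat.card E1 = 8 := hD1.1
  have hzx : z ∈ ws V x := hcol1.symm.mem_ws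
  have hxx' := self_mem_ws h.toGeoC hxp
  obtain ⟨a, ha, hak⟩ := h.exists_not_mem hcol
  obtain ⟨a1, ha1, hak1⟩ := h.exists_not_mem hcol1
  -- `E ∩ E1 = ⟨z⟩`
  have hEE : E ⊓ E1 ≤ zpowers z := by
    rintro w ⟨hw, hw1⟩
    by_contra hwz
    have h1 := hU a a1 w (Base.ws_sq h.toOdd hyp ha) (Base.ws_sq h.toOdd hxp ha1) (ws_le_cent h.toOdd hcol ha)
      (ws_le_cent h.toOdd hcol1 ha1) hak hak1 hw.1 hwz (Base.ws_comm h.toOdd hyp ha hw.2)
      (Base.ws_comm h.toOdd hxp ha1 hw1.2)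
    apply hxy
    refine hD.2 a ha hak x hx.1 ?_
    have h2 := Base.ws_comm h.toOdd hxp ha1 hxx'
    have h3 := h1.2.1 x hx.1
    have e : a * a1 * x * (a * a1)⁻¹ * x⁻¹ = a * x * a⁻¹ * x⁻¹ := by
      calc a * a1 * x * (a * a1)⁻¹ * x⁻¹ = a * (a1 * x) * a1⁻¹ * a⁻¹ * x⁻¹ := by group
        _ = a * x * a⁻¹ * x⁻¹ := by rw [h2]; group
    rwa [e] at h3
  -- `b` centralizes `E1`
  have hbE1 : ∀ e ∈ E1, b * e = e * b := by
    intro e he
    have hcomm2 : b * e * b⁻¹ * e⁻¹ ∈ zpowers x := by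
      obtain ⟨a2, ha2, hak2⟩ := h.exists_not_mem hcol1.symm
      have hbc : b ∈ centralizer ({x} : Set G) := mem_centralizer_singleton_iff.mpr hbx
      by_cases hbk : b ∈ kq V x
      · exact hbk.2.1 e he.2
      · have hzx1 : z ∉ zpowers x := by
          rw [mem_zpowers_iff_of_mul_self hxx]
          rintro (e1 | e1)
          · exact h.z_ne e1
          · exact hxz (by rw [← e1]; exact mem_zpowers z)
        have h1 := hUx b a2 z hbb (Base.ws_sq h.toOdd (Pt.refl z) ha2) hbc (ws_le_cent h.toOdd hcol1.symm ha2) hbk hak2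
          hzx hzx1 (Base.ws_comm h.toOdd hyp hb.1 hzy)
          (Base.ws_comm h.toOdd (Pt.refl z) ha2 (h.V_le_ws h.z_mem))
        have h2 := Base.ws_comm h.toOdd (Pt.refl z) ha2 he.1
        have h3 := h1.2.1 e he.2
        have e2 : b * a2 * e * (b * a2)⁻¹ * e⁻¹ = b * e * b⁻¹ * e⁻¹ := by
          calc b * a2 * e * (b * a2)⁻¹ * e⁻¹ = b * (a2 * e) * a2⁻¹ * b⁻¹ * e⁻¹ := by group
            _ = b * e * b⁻¹ * e⁻¹ := by rw [h2]; group
        rwa [e2] at h3
    have hcomm1 : b * e * b⁻¹ * e⁻¹ ∈ zpowers z := hb.2.2.1 e he.1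
    rw [hzp] at hcomm1
    rw [mem_zpowers_iff_of_mul_self hxx] at hcomm2
    have h3 : b * e * b⁻¹ * e⁻¹ = 1 := by
      rcases hcomm1 with h1 | h1
      · exact h1
      · rcases hcomm2 with h2 | h2
        · exact h2
        · exact absurd (hzp.mpr (Or.inr (h2.symm.trans h1))) hxz
    rw [mul_inv_eq_one, mul_inv_eq_iff_eq_mul] at h3
    exact h3
  have hE1D : E1 ≤ D := fun e he => ⟨he.1, mem_centralizer_singleton_iff.mpr (hbE1 e he).symm⟩
  have hED : E ≤ D := fun e he => ⟨he.1, mem_centralizer_singleton_iff.mpr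
    (Base.ws_comm h.toOdd hyp hb.1 he.2).symm⟩
  -- count
  have h1 := card_mul_relIndex' hED
  rw [hEc, hDc] at h1
  have h2 : E.relIndex D = 2 := by omega
  have h3 : E.relIndex E1 ≤ E.relIndex D := Subgroup.relIndex_le_of_le_right hE1D (by omega)
  have h4 := Subgroup.index_mul_card (E.subgroupOf E1)
  have h5 : Nat.card (E.subgroupOf E1) = Nat.card ↥(E ⊓ E1) :=
    Nat.card_congr
      { toFun := fun a => ⟨((a : E1) : G), a.2, (a : E1).2⟩
        invFun := fun a => ⟨⟨a, a.2.2⟩, a.2.1⟩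
        left_inv := fun _ => rfl
        right_inv := fun _ => rfl }
  have h6 := Subgroup.card_le_of_le hEE
  have h7 : Nat.card (zpowers z) ≤ 2 := by
    rw [Nat.card_zpowers]
    exact orderOf_le_of_pow_eq_one (by norm_num) (by rw [pow_two]; exact h.zz)
  rw [h5, hE1c] at h4
  change E.relIndex E1 * _ = _ at h4
  have h8 : E.relIndex E1 * Nat.card ↥(E ⊓ E1) ≤ 2 * 2 := Nat.mul_le_mul (by omega) (by omega)
  omega

/-- **`|V_z| ≠ 8` and not (A): `|F| = 5`** -/
theorem false_of_fifteen (h : One T V z) (hy : y ∈ V) (hy1 : y ≠ 1) (hyz : y ≠ z) {M X : Type u} [AddCommGroup M]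
    [Group X] [DistribMulAction X M] (R : Rep V z M X) {F A : Subgroup X} {g : X} (hamb : Amb M F A)
    (hgood : Good F A (⊤ : AddSubgroup M) (R.pi y)) (hq : QM M g) (hF : Nat.card F = 15)
    (hf : ∀ b ∈ ws V y, b ∉ kq V z → Nat.card (fx (zpowers (R.rho b)) (⊤ : AddSubgroup M)) = 4) : False := by
  have hcol : Col V z y := Base.col_of_mem h.toGeoC h.z_mem hy h.z_ne hy1 (Ne.symm hyz)
  have h32 : Nat.card (ws V z) = 32 := by rw [card_M h.toOdd (Pt.refl z) R, hq.card]
  exact false_of_trans h hy hy1 hyz h32 (u3 h R hq) (d8 h hcol R hq.card hf)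
    fun w hw hwz => exists_conj h hy hy1 hyz R hamb hgood hq.card hF hw hwz

end Cfsg.Agent.OddCyclic.EO.Fifteen
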