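import Mathlib

/-!
# Lemma (N°): the configuration
-/

set_option autoImplicit false
set_option linter.dupNamespace false

namespace Cfsg.Agent.OddCyclic.EO.Deg

universe u

variable {G : Type u} [Group G]

/-- In `X = C(i)`: two 3-elements `c`, `c'` acting on the four-groups `V₁ = ⟨u, u^c⟩` and `V₂ = ⟨u, u^{c'}⟩` with
`[V₁, V₂] = ⟨u⟩`; `x` centralizes `V₁` and `c`, `x'` centralizes `V₂` and `c'`, and `u = i x x'`. -/
structure Dg (i c c' u x x' : G) : Prop where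
  ii : i * i = 1
  i1 : i ≠ 1
  uu : u * u = 1
  u1 : u ≠ 1
  ui : u * i = i * u
  ci : c * i = i * c
  c'i : c' * i = i * c'
  pc : ∃ k : ℕ, c ^ 3 ^ k = 1
  pc' : ∃ k : ℕ, c' ^ 3 ^ k = 1
  nc : u * (c * u * c⁻¹) * (c * (c * u * c⁻¹) * c⁻¹) = 1
  nc' : u * (c' * u * c'⁻¹) * (c' * (c' * u * c'⁻¹) * c'⁻¹) = 1
  ne : c * u * c⁻¹ ≠ u
  ne' : c' * u * c'⁻¹ ≠ u
  comm : (c' * u * c'⁻¹) * (c * u * c⁻¹) = u * ((c * u * c⁻¹) * (c' * u * c'⁻¹))
  xi : x * i = i * x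
  xu : x * u = u * x
  xc : x * c = c * x
  x'i : x' * i = i * x'
  x'u : x' * u = u * x'
  x'c : x' * c' = c' * x'
  eq : u = i * x * x'

/-- Lemma (N°) -/
def NDeg (G : Type u) [Group G] : Prop := ∀ i c c' u x x' : G, ¬ Dg i c c' u x x'

end Cfsg.Agent.OddCyclic.EO.Deg
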