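import Cfsg.Agent.OddCyclic.EO.ThreeM
import Cfsg.Agent.OddCyclic.EO.Tri
import Cfsg.Agent.OddCyclic.EO.Deg

/-!
# `n = 1`: the case where the involution is a transvection and `|M| > 4`
-/

set_option autoImplicit false
set_option linter.unusedSectionVars false
set_option linter.style.haveILetI false

namespace Cfsg.Agent.OddCyclic.EO.Three

open Subgroup Cfsg Cfsg.Agent.ZN Cfsg.Agent.MinSimple.Geo Cfsg.Agent.OddCyclic.GeoC Cfsg.Agent.OddCyclic.BTwoA
  Cfsg.Agent.OddCyclic.EO.Line Cfsg.Agent.OddCyclic.EO.Base Cfsg.Agent.OddCyclic.EO.RepM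
  Cfsg.Agent.OddCyclic.EO.Fit Cfsg.Agent.OddCyclic.EO.FitB Cfsg.Agent.OddCyclic.EO.FitC
  Cfsg.Agent.OddCyclic.EO.Sit Cfsg.Agent.OddCyclic.EO.Two Cfsg.Agent.OddCyclic.EO.One
  Cfsg.Agent.OddCyclic.EO.OneOf Cfsg.Agent.OddCyclic.EO.Tri Cfsg.Agent.OddCyclic.EO.ThreeM
  Cfsg.Agent.OddCyclic.EO.Deg
open Cfsg.Agent.ZN.Block (conj_mem_of_normalizer conj_mem_of_normalizer' le_normalizer_of_forall
  mem_normalizer_of)

universe u

variable {G : Type u} [Group G] [Finite G] {T V : Subgroup G} {z x y : G}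

/-- the data at `z` -/
structure Half (V : Subgroup G) (z y w c : G) : Prop where
  cc : c ∈ centralizer ({z} : Set G)
  pp : ∃ k : ℕ, c ^ 3 ^ k = 1
  nrm : w * (c * w * c⁻¹) * (c * (c * w * c⁻¹) * c⁻¹) = 1
  ne : c * w * c⁻¹ ≠ w
  comm : c * (y * w) = (y * w) * c
  mem : c * w * c⁻¹ ∈ ws V z
  nk : c * w * c⁻¹ ∉ kq V y

/-- an element of odd order moving `t` at most by the central element `z` centralizes `t` -/
theorem comm_of_pow {c t z : G} {n : ℕ} (hn : Odd n) (hc : c ^ n = 1) (hz : c * z = z * c)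
    (hzz : z * z = 1) (h : c * t * c⁻¹ = t ∨ c * t * c⁻¹ = z * t) : c * t = t * c := by
  rcases h with e | e
  · exact mul_inv_eq_iff_eq_mul.mp e
  · have key : ∀ m : ℕ, c ^ m * t * (c ^ m)⁻¹ = z ^ m * t := by
      intro m
      induction m with
      | zero => simp
      | succ m ih =>
        have hcm : c ^ m * z = z * c ^ m := ((show Commute c z from hz).pow_left m).eq
        calc c ^ (m + 1) * t * (c ^ (m + 1))⁻¹ = c ^ m * (c * t * c⁻¹) * (c ^ m)⁻¹ := by
              rw [pow_succ]; group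
          _ = (c ^ m * z) * t * (c ^ m)⁻¹ := by rw [e]; group
          _ = z * (c ^ m * t * (c ^ m)⁻¹) := by rw [hcm]; group
          _ = z ^ (m + 1) * t := by rw [ih, pow_succ', mul_assoc]
    have h1 := key n
    rw [hc] at h1
    obtain ⟨k, hk⟩ := hn
    have h2 : z ^ n = z := by
      rw [hk, pow_succ, pow_mul, pow_two, hzz, one_pow, one_mul]
    rw [h2] at h1
    have h3 : t = z * t := by simpa using h1
    have h4 : z = 1 := by
      have : 1 * t = z * t := by rw [one_mul]; exact h3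
      exact (mul_right_cancel this).symm
    rw [h4, one_mul] at e
    exact mul_inv_eq_iff_eq_mul.mp e

theorem exists_half (h : One T V z) (hy : y ∈ V) (hy1 : y ≠ 1) (hyz : y ≠ z) (h8 : Nat.card (ws V z) ≠ 8)
    (hA : ∀ w ∈ ws V z, w ∈ kq V y → ∀ b ∈ ws V y, b * w = w * b) {a b : G} (ha : a ∈ ws V z) (hb : b ∈ ws V y)
    (hab : b * a * b⁻¹ * a⁻¹ ≠ 1) :
    (∃ c, Half V z y (b * a * b⁻¹ * a⁻¹) c) ∧ (b * a * b⁻¹ * a⁻¹ ∉ V) ∧ (∀ a' ∈ ws V z, ∀ b' ∈ ws V y,
      b' * a' * b'⁻¹ * a'⁻¹ = 1 ∨ b' * a' * b'⁻¹ * a'⁻¹ = z ∨ b' * a' * b'⁻¹ * a'⁻¹ = b * a * b⁻¹ * a⁻¹ ∨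
      b' * a' * b'⁻¹ * a'⁻¹ = z * (b * a * b⁻¹ * a⁻¹)) := by
  have hcol : Col V z y := Base.col_of_mem h.toGeoC h.z_mem hy h.z_ne hy1 (Ne.symm hyz)
  have hyp : Pt z y := hcol.pt h.toGeoC
  obtain ⟨M, X, _, _, _, ⟨R⟩⟩ := exists_rep h.toOdd (Pt.refl z)
  haveI : Finite M := R.finite_left
  haveI : Finite X := R.finite_right
  have hle : ws V y ≤ centralizer ({z} : Set G) := ws_le_cent h.toOdd hcol
  have hbk : b ∉ kq V z := by
    intro hbk
    obtain ⟨w0, hw0, hw0n⟩ := h.exists_not_mem hcol.symm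
    -- `b ∈ K_z ∩ V_y`, so `b` centralizes `V_z` by the symmetric version of `hA`
    obtain ⟨s, hs, hs1, hs2⟩ := h.exists_move h.z_mem hy h.z_ne hy1 (Ne.symm hyz)
    have h4 : s * b * s⁻¹ ∈ ws V z := by
      have := conj_mem_cj (g := s) hb
      rwa [cj_ws, hs2] at this
    have h5 : s * b * s⁻¹ ∈ kq V y := by
      have := conj_mem_cj (g := s) hbk
      rwa [cj_kq0, hs1] at this
    have h6 : s * a * s⁻¹ ∈ ws V y := by
      have := conj_mem_cj (g := s) ha
      rwa [cj_ws, hs1] at this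
    have h7 := hA _ h4 h5 _ h6
    apply hab
    have h8 : a * b = b * a := by
      calc a * b = s⁻¹ * (s * a * s⁻¹ * (s * b * s⁻¹)) * s := by group
        _ = s⁻¹ * (s * b * s⁻¹ * (s * a * s⁻¹)) * s := by rw [h7]
        _ = b * a := by group
    rw [← h8]; group
  obtain ⟨F, A, N0, st⟩ := exists_st h R hy hy1 hyz hb hbk
  have two := Rep.two h.toOdd (Pt.refl z) R
  have hl0 : R.pi y ≠ 0 := Rep.pi_line_ne_zero h.toOdd (Pt.refl z) R hcol
  have hc1 : ∀ n ∈ N0, R.rho b • n = n := by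
    intro n hn
    obtain ⟨w, hw, hwk, rfl⟩ := (st.hN n).mp hn
    rw [R.smul_pi b (hle hb) w hw, hA w hw hwk b hb, mul_inv_cancel_right]
  have hM4 : Nat.card M ≠ 4 := by
    intro e
    apply h8
    rw [card_M h.toOdd (Pt.refl z) R, e]
  have htri := tri st.amb st.good R.faithful st.mem st.ne st.card.le (fun n hn => Or.inl (hc1 n hn))
  rcases htri with htri | ⟨-, -, -, n, hn, hn2⟩
  swap
  · exfalso
    rw [hc1 n hn] at hn2
    exact hl0 (by simpa using hn2.symm)
  have hmv : ∃ m : M, R.rho b • m ≠ m := by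
    by_contra hcon
    push Not at hcon
    exact st.ne (R.faithful _ hcon)
  obtain ⟨g, hgF, hg3, n, hn0, hact, hsum, hgn, hagn, hgl, hln⟩ := mod_three st.amb st.good st.mem hmv htri hM4
  -- commutators
  have hcm : ∀ a' ∈ ws V z, ∀ b' ∈ ws V y, R.pi (b' * a' * b'⁻¹ * a'⁻¹) = 0 ∨ R.pi (b' * a' * b'⁻¹ * a'⁻¹) = n := by
    intro a' ha' b' hb'
    rw [← h.smul_add R hcol hb' ha']
    by_cases hbk' : b' ∈ kq V z
    · left
      rw [(Rep.rho_eq_one R (hle hb')).mpr hbk', one_smul, two]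
    · rw [h.rho_eq R hcol hb' hb hbk' hbk]
      rcases hact (R.pi a') with e | e
      · left; rw [e, two]
      · right; rw [e, add_comm (R.pi a') n, add_assoc, two, add_zero]
  set w := b * a * b⁻¹ * a⁻¹ with hw
  have hwm : w ∈ ws V z ⊓ ws V y := comm_mem h.toOdd hcol ha hb
  have hwz : w ∈ ws V z := hwm.1
  have hwi : w⁻¹ = w := Base.ws_inv h.toOdd (Pt.refl z) hwz
  have hwd : w ∈ dd V := by rw [← h.inf_eq_dd h.z_mem h.z_ne hy hy1 (Ne.symm hyz)]; exact hwm
  -- `w ∈ ⟨z⟩` is impossible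
  have hwk : R.pi w = n := by
    rcases hcm a ha b hb with e | e
    · exfalso
      -- `[a, b] ∈ ⟨z⟩` so `ρ(b)` fixes `π(a)`; then `a ∈ K_y`
      have h1 : R.rho b • R.pi a = R.pi a := by
        have h2 := h.smul_add R hcol hb ha
        rw [← hw, e] at h2
        calc R.rho b • R.pi a = R.rho b • R.pi a + (R.pi a + R.pi a) := by rw [two, add_zero]
          _ = R.pi a := by rw [← add_assoc, h2, zero_add]
      -- `N0 = C_M(ρ b)`
      by_cases hak : a ∈ kq V y
      · apply hab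
        rw [hw, hA a ha hak b hb]; group
      · -- all elements outside `K_y` would be fixed
        apply st.ne
        apply R.faithful
        intro m
        obtain ⟨v, hv, rfl⟩ := R.pi_surj m
        by_cases hvk : v ∈ kq V y
        · exact hc1 _ ((st.hN _).mpr ⟨v, hv, hvk, rfl⟩)
        · have h3 := h.mul_mem_kq hcol.symm hv ha hvk hak
          have h4 := hc1 _ ((st.hN _).mpr ⟨v * a, mul_mem hv ha, h3, rfl⟩)
          rw [R.pi_mul v hv a ha, smul_add, h1] at h4
          exact add_right_cancel h4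
    · exact e
  have hwV : w ∉ V := by
    intro hwV
    rcases h.four h.z_mem hy h.z_ne hy1 (Ne.symm hyz) hwV with e | e | e | e
    · exact hn0 (by rw [← hwk, e, R.pi_one])
    · exact hn0 (by rw [← hwk, e, Rep.pi_self h.toOdd (Pt.refl z) R])
    · exact hln (by rw [← hwk, e])
    · exact hln (by rw [← hwk, e, Rep.pi_self_mul h.toOdd (Pt.refl z) R hcol.mem_ws])
  refine ⟨?_, hwV, fun a' ha' b' hb' => ?_⟩
  · -- the 3-element
    obtain ⟨c, hc, hcg, k, hk⟩ := R.exists_lift Nat.prime_three (g := g) (k := 1) (by rw [pow_one]; exact hg3)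
    have hodd : Odd (3 ^ k) := Odd.pow (by decide)
    have hcz : ∀ {c}, c ∈ centralizer ({z} : Set G) → c * z = z * c := fun hc => mem_centralizer_singleton_iff.mp hc
    -- the norm
    have main : ∀ c, c ∈ centralizer ({z} : Set G) → R.rho c = g → c ^ 3 ^ k = 1 →
        w * (c * w * c⁻¹) * (c * (c * w * c⁻¹) * c⁻¹) = 1 → Half V z y w c := by
      intro c hc hcg hk hnrm
      have hpc : R.pi (c * w * c⁻¹) = g • n := by rw [← R.smul_pi c hc w hwz, hcg, hwk]
      refine ⟨hc, ⟨k, hk⟩, hnrm, ?_, ?_, R.conj_mem hc hwz, ?_⟩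
      · intro e
        apply hgn
        rw [← hpc, e, hwk]
      · refine comm_of_pow hodd hk (hcz hc) h.zz ?_
        have hyw : y * w ∈ ws V z := mul_mem hcol.mem_ws hwz
        rw [← Rep.pi_eq_pi h.toOdd (Pt.refl z) R (R.conj_mem hc hyw) hyw, ← R.smul_pi c hc _ hyw,
          R.pi_mul y hcol.mem_ws w hwz, hwk, hcg]
        exact hgl
      · intro hk2
        apply hagn
        rw [← hpc]
        exact hc1 _ ((st.hN _).mpr ⟨_, R.conj_mem hc hwz, hk2, rfl⟩)
    have hN : R.pi (w * (c * w * c⁻¹) * (c * (c * w * c⁻¹) * c⁻¹)) = 0 := by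
      have m1 := R.conj_mem hc hwz
      have m2 := R.conj_mem hc m1
      rw [R.pi_mul _ (mul_mem hwz m1) _ m2, R.pi_mul _ hwz _ m1, ← R.smul_pi c hc _ m1, ← R.smul_pi c hc w hwz,
        hcg, hwk]
      exact hsum
    have hNm : w * (c * w * c⁻¹) * (c * (c * w * c⁻¹) * c⁻¹) ∈ ws V z := by
      have m1 := R.conj_mem hc hwz
      exact mul_mem (mul_mem hwz m1) (R.conj_mem hc m1)
    rcases (Rep.pi_eq_zero' h.toOdd (Pt.refl z) R hNm).mp hN with e | e
    · exact ⟨c, main c hc hcg hk e⟩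
    · -- conjugate `c`
      obtain ⟨t, ht, htV, htw⟩ := h.exists_transvection hwd hwV h.z_mem h.z_ne
      have htc : t ∈ centralizer ({z} : Set G) := BTwoB.kq_le V z ht
      have htw' : t⁻¹ * w * t = z * w := by
        have h1 : t * (z * w) * t⁻¹ = w := by
          calc t * (z * w) * t⁻¹ = (t * z * t⁻¹) * (t * w * t⁻¹) := by group
            _ = z * (z * w) := by rw [hcz htc, mul_inv_cancel_right, htw]
            _ = w := by rw [← mul_assoc, h.zz, one_mul]
        calc t⁻¹ * w * t = t⁻¹ * (t * (z * w) * t⁻¹) * t := by rw [h1]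
          _ = z * w := by group
      have hc' : t * c * t⁻¹ ∈ centralizer ({z} : Set G) := mul_mem (mul_mem htc hc) (inv_mem htc)
      refine ⟨t * c * t⁻¹, main _ hc' ?_ ?_ ?_⟩
      · rw [R.rho_conj htc hc, (Rep.rho_eq_one R htc).mpr ht, hcg]; group
      · rw [conj_pow, hk]; group
      · have e1 : (t * c * t⁻¹) * w * (t * c * t⁻¹)⁻¹ = t * (c * (t⁻¹ * w * t) * c⁻¹) * t⁻¹ := by group
        have e2 : c * (z * w) * c⁻¹ = z * (c * w * c⁻¹) := by
          calc c * (z * w) * c⁻¹ = (c * z) * w * c⁻¹ := by group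
            _ = z * (c * w * c⁻¹) := by rw [hcz hc]; group
        have e3 : (t * c * t⁻¹) * (t * (z * (c * w * c⁻¹)) * t⁻¹) * (t * c * t⁻¹)⁻¹ =
            t * (c * (z * (c * w * c⁻¹)) * c⁻¹) * t⁻¹ := by group
        have e4 : c * (z * (c * w * c⁻¹)) * c⁻¹ = z * (c * (c * w * c⁻¹) * c⁻¹) := by
          calc c * (z * (c * w * c⁻¹)) * c⁻¹ = (c * z) * (c * w * c⁻¹) * c⁻¹ := by group
            _ = z * (c * (c * w * c⁻¹) * c⁻¹) := by rw [hcz hc]; group
        rw [e1, htw', e2, e3, e4]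
        have e5 : w = t * (z * w) * t⁻¹ := by
          rw [← htw']; group
        have hzc : ∀ v ∈ ws V z, v * z = z * v := fun v hv => h.ab v hv z (h.V_le_ws h.z_mem)
        have m1 := R.conj_mem hc hwz
        calc w * (t * (z * (c * w * c⁻¹)) * t⁻¹) * (t * (z * (c * (c * w * c⁻¹) * c⁻¹)) * t⁻¹)
            = t * (z * w) * t⁻¹ * (t * (z * (c * w * c⁻¹)) * t⁻¹) * (t * (z * (c * (c * w * c⁻¹) * c⁻¹)) * t⁻¹) := by
              rw [← e5]
          _ = t * (z * (w * z) * (c * w * c⁻¹) * z * (c * (c * w * c⁻¹) * c⁻¹)) * t⁻¹ := by group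
          _ = t * (z * (z * w) * (c * w * c⁻¹) * z * (c * (c * w * c⁻¹) * c⁻¹)) * t⁻¹ := by rw [hzc w hwz]
          _ = t * ((z * z) * ((w * (c * w * c⁻¹)) * z) * (c * (c * w * c⁻¹) * c⁻¹)) * t⁻¹ := by group
          _ = t * ((z * z) * (z * (w * (c * w * c⁻¹))) * (c * (c * w * c⁻¹) * c⁻¹)) * t⁻¹ := by
              rw [hzc _ (mul_mem hwz m1)]
          _ = t * ((z * z) * z * (w * (c * w * c⁻¹) * (c * (c * w * c⁻¹) * c⁻¹))) * t⁻¹ := by group
          _ = 1 := by rw [e, h.zz, one_mul, h.zz]; group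
  · have hm := comm_mem h.toOdd hcol ha' hb'
    rcases hcm a' ha' b' hb' with e | e
    · rcases (Rep.pi_eq_zero' h.toOdd (Pt.refl z) R hm.1).mp e with e1 | e1
      · exact Or.inl e1
      · exact Or.inr (Or.inl e1)
    · rw [← hwk] at e
      rcases (Rep.pi_eq_pi h.toOdd (Pt.refl z) R hm.1 hwz).mp e with e1 | e1
      · exact Or.inr (Or.inr (Or.inl e1))
      · exact Or.inr (Or.inr (Or.inr e1))

/-- the case (A) is impossible if `|V_z| ≠ 8` -/
theorem false_of_three (hd : NDeg G) (h : One T V z) (hy : y ∈ V) (hy1 : y ≠ 1) (hyz : y ≠ z)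
    (h8 : Nat.card (ws V z) ≠ 8)
    (hA : ∀ w ∈ ws V z, w ∈ kq V y → ∀ b ∈ ws V y, b * w = w * b) : False := by
  have hcol : Col V z y := Base.col_of_mem h.toGeoC h.z_mem hy h.z_ne hy1 (Ne.symm hyz)
  have hyp : Pt z y := hcol.pt h.toGeoC
  obtain ⟨s, hs, hs1, hs2⟩ := h.exists_move h.z_mem hy h.z_ne hy1 (Ne.symm hyz)
  obtain ⟨T', h'⟩ := Tri.One.point h hy hy1
  have hA' : ∀ w ∈ ws V y, w ∈ kq V z → ∀ b ∈ ws V z, b * w = w * b := by
    intro w hw hwk b hb
    have h4 : s * w * s⁻¹ ∈ ws V z := by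
      have := conj_mem_cj (g := s) hw
      rwa [cj_ws, hs2] at this
    have h5 : s * w * s⁻¹ ∈ kq V y := by
      have := conj_mem_cj (g := s) hwk
      rwa [cj_kq0, hs1] at this
    have h6 : s * b * s⁻¹ ∈ ws V y := by
      have := conj_mem_cj (g := s) hb
      rwa [cj_ws, hs1] at this
    have h7 := hA _ h4 h5 _ h6
    calc b * w = s⁻¹ * (s * b * s⁻¹ * (s * w * s⁻¹)) * s := by group
      _ = s⁻¹ * (s * w * s⁻¹ * (s * b * s⁻¹)) * s := by rw [h7]
      _ = w * b := by group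
  have h8' : Nat.card (ws V y) ≠ 8 := by
    rw [← hs1, ← cj_ws, card_cj]; exact h8
  -- noncommuting elements
  obtain ⟨b, hb, hbk⟩ := h.exists_not_mem hcol
  obtain ⟨a, ha, hab⟩ : ∃ a ∈ ws V z, b * a * b⁻¹ * a⁻¹ ≠ 1 := by
    by_contra hcon
    push Not at hcon
    apply hbk
    refine ⟨ws_le_cent h.toOdd hcol hb, fun w hw => by rw [hcon w hw]; exact one_mem _, fun w hw => ?_⟩
    have h1 := hcon w hw
    have h2 : b * w = w * b := by
      calc b * w = (b * w * b⁻¹ * w⁻¹) * (w * b) := by group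
        _ = w * b := by rw [h1, one_mul]
    have : b⁻¹ * w * b * w⁻¹ = 1 := by
      calc b⁻¹ * w * b * w⁻¹ = b⁻¹ * (w * b) * w⁻¹ := by group
        _ = b⁻¹ * (b * w) * w⁻¹ := by rw [h2]
        _ = 1 := by group
    rw [this]; exact one_mem _
  obtain ⟨⟨c, hc⟩, hwV, hall⟩ := exists_half h hy hy1 hyz h8 hA ha hb hab
  set w := b * a * b⁻¹ * a⁻¹ with hw
  have hwm : w ∈ ws V z ⊓ ws V y := comm_mem h.toOdd hcol ha hb
  have hww : w * w = 1 := Base.ws_sq h.toOdd (Pt.refl z) hwm.1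
  have hwi : w⁻¹ = w := inv_eq_of_mul_eq_one_left hww
  have hw' : a * b * a⁻¹ * b⁻¹ = w := by
    rw [← hwi, hw]; group
  have hab' : a * b * a⁻¹ * b⁻¹ ≠ 1 := by rw [hw']; exact hab
  obtain ⟨⟨c', hc'⟩, -, hall'⟩ := exists_half h' h.z_mem h.z_ne (Ne.symm hyz) h8' hA' hb ha hab'
  rw [hw'] at hc' hall'
  -- `[u^{c'}, u^c] = u`
  have hne : (c' * w * c'⁻¹) * (c * w * c⁻¹) * (c' * w * c'⁻¹)⁻¹ * (c * w * c⁻¹)⁻¹ = w := by
    have h1 := hall _ hc.mem _ hc'.mem
    have h2 := hall' _ hc'.mem _ hc.mem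
    set p := c * w * c⁻¹ with hp
    set q := c' * w * c'⁻¹ with hq
    have e2 : p * q * p⁻¹ * q⁻¹ = (q * p * q⁻¹ * p⁻¹)⁻¹ := by group
    have hm := comm_mem h.toOdd hcol hc.mem hc'.mem
    have hi : (q * p * q⁻¹ * p⁻¹)⁻¹ = q * p * q⁻¹ * p⁻¹ := Base.ws_inv h.toOdd (Pt.refl z) hm.1
    rw [e2, hi] at h2
    have hne1 : q * p * q⁻¹ * p⁻¹ ≠ 1 := by
      intro e
      -- `q ∉ K_z`, `p ∉ K_y`
      have hqp : q * p = p * q := by
        calc q * p = (q * p * q⁻¹ * p⁻¹) * (p * q) := by group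
          _ = p * q := by rw [e, one_mul]
      apply hc'.nk
      -- all elements of `ws V z` commute with `q`
      have hall2 : ∀ v ∈ ws V z, q * v = v * q := by
        intro v hv
        by_cases hvk : v ∈ kq V y
        · exact hA v hv hvk q hc'.mem
        · have h3 := h.mul_mem_kq hcol.symm hv hc.mem hvk hc.nk
          have h4 := hA _ (mul_mem hv hc.mem) h3 q hc'.mem
          have h5 : q * v * p = v * q * p := by
            calc q * v * p = q * (v * p) := by group
              _ = v * p * q := h4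
              _ = v * (p * q) := by group
              _ = v * q * p := by rw [← hqp]; group
          exact mul_right_cancel h5
      refine ⟨ws_le_cent h.toOdd hcol hc'.mem, fun v hv => ?_, fun v hv => ?_⟩
      · have : q * v * q⁻¹ * v⁻¹ = 1 := by rw [hall2 v hv]; group
        rw [this]; exact one_mem _
      · have : q⁻¹ * v * q * v⁻¹ = 1 := by
          calc q⁻¹ * v * q * v⁻¹ = q⁻¹ * (v * q) * v⁻¹ := by group
            _ = 1 := by rw [← hall2 v hv]; group
        rw [this]; exact one_mem _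
    have hzw : z ≠ w := fun e => hwV (by rw [← e]; exact h.z_mem)
    have hyw : y ≠ w := fun e => hwV (by rw [← e]; exact hy)
    rcases h1 with e | e | e | e
    · exact absurd e hne1
    · exfalso
      rcases h2 with e' | e' | e' | e'
      · exact hne1 e'
      · exact hyz (e'.symm.trans e)
      · exact hzw (e.symm.trans e')
      · apply hwV
        have h5 : w = y * z := by
          have h6 : z = y * w := e.symm.trans e'
          calc w = (y * y) * w := by rw [Base.Pt.sq h.toGeoC hyp, one_mul]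
            _ = y * z := by rw [mul_assoc, ← h6]
        rw [h5]; exact mul_mem hy h.z_mem
    · exact e
    · exfalso
      rcases h2 with e' | e' | e' | e'
      · exact hne1 e'
      · apply hwV
        have h5 : w = z * y := by
          have h6 : z * w = y := e.symm.trans e'
          calc w = (z * z) * w := by rw [h.zz, one_mul]
            _ = z * y := by rw [mul_assoc, h6]
        rw [h5]; exact mul_mem h.z_mem hy
      · have h6 : z * w = w := e.symm.trans e'
        exact h.z_ne (by simpa using h6)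
      · have h6 : z * w = y * w := e.symm.trans e'
        exact hyz (mul_right_cancel h6).symm
  have hzy : z * y = y * z := h.ab z (h.V_le_ws h.z_mem) y hcol.mem_ws
  have hzw : z * w = w * z := h.ab z (h.V_le_ws h.z_mem) w hwm.1
  have hyw : y * w = w * y := h.ab y hcol.mem_ws w hwm.1
  have hyy : y * y = 1 := Base.Pt.sq h.toGeoC hyp
  have hcz : c * z = z * c := mem_centralizer_singleton_iff.mp hc.cc
  have hcy' : c' * y = y * c' := mem_centralizer_singleton_iff.mp hc'.cc
  refine hd (z * y * w) c c' w z y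
    { ii := ?_, i1 := ?_, uu := hww, u1 := hab, ui := ?_, ci := ?_, c'i := ?_, pc := hc.pp, pc' := hc'.pp
      nc := hc.nrm, nc' := hc'.nrm, ne := hc.ne, ne' := hc'.ne, comm := ?_, xi := ?_, xu := hzw, xc := hcz.symm
      x'i := ?_, x'u := hyw, x'c := hcy'.symm, eq := ?_ }
  · calc z * y * w * (z * y * w) = z * y * (w * z) * y * w := by group
      _ = z * (y * z) * (w * y) * w := by rw [← hzw]; group
      _ = (z * z) * (y * y) * (w * w) := by rw [← hzy, ← hyw]; group
      _ = 1 := by rw [h.zz, hyy, hww]; group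
  · intro e
    apply hwV
    have : w = (z * y)⁻¹ := (inv_eq_of_mul_eq_one_right e).symm
    rw [this]
    exact inv_mem (mul_mem h.z_mem hy)
  · calc w * (z * y * w) = (w * z) * y * w := by group
      _ = z * (w * y) * w := by rw [← hzw]; group
      _ = z * y * w * w := by rw [← hyw]; group
  · calc c * (z * y * w) = (c * z) * (y * w) := by group
      _ = z * (c * (y * w)) := by rw [hcz]; group
      _ = z * y * w * c := by rw [hc.comm]; group
  · calc c' * (z * y * w) = c' * (y * z) * w := by rw [hzy]; group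
      _ = (c' * y) * (z * w) := by group
      _ = y * (c' * (z * w)) := by rw [hcy']; group
      _ = y * z * w * c' := by rw [hc'.comm]; group
      _ = z * y * w * c' := by rw [hzy]
  · calc (c' * w * c'⁻¹) * (c * w * c⁻¹) = ((c' * w * c'⁻¹) * (c * w * c⁻¹) * (c' * w * c'⁻¹)⁻¹ * (c * w * c⁻¹)⁻¹) *
          ((c * w * c⁻¹) * (c' * w * c'⁻¹)) := by group
      _ = w * ((c * w * c⁻¹) * (c' * w * c'⁻¹)) := by rw [hne]
  · calc z * (z * y * w) = z * (z * y) * w := by group
      _ = z * (y * z) * w := by rw [← hzy]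
      _ = z * y * (z * w) := by group
      _ = z * y * (w * z) := by rw [hzw]
      _ = z * y * w * z := by group
  · calc y * (z * y * w) = (y * z) * (y * w) := by group
      _ = (z * y) * (w * y) := by rw [← hzy, hyw]
      _ = z * y * w * y := by group
  · calc w = (z * z) * (y * y) * w := by rw [h.zz, hyy]; group
      _ = z * (z * y) * (y * w) := by group
      _ = z * (y * z) * (w * y) := by rw [hzy, hyw]
      _ = z * y * (z * w) * y := by group
      _ = z * y * w * z * y := by rw [hzw]; group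

end Cfsg.Agent.OddCyclic.EO.Three
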