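import Mathlib
import Cfsg.Agent.OddCyclic.EOJ.Main
import Cfsg.Agent.OddCyclic.EO.OneOf
import Cfsg.Agent.OddCyclic.EO.NOf
import Cfsg.Agent.OddCyclic.EO.Three
import Cfsg.Agent.OddCyclic.EO.TF.End
import Cfsg.Agent.OddCyclic.EO.Red

/-!
# (E1)(b), `V_z` abelian, `C(z)/K_z` solvable: contradiction

`Main.false_of_odd`: in a finite simple group `G` all of whose proper simple sections are in the list, there is no line
`V` with `ws V z` abelian and `C(z) / kq V z` solvable.
-/

set_option autoImplicit false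
set_option linter.unusedSectionVars false

namespace Cfsg.Agent.OddCyclic.EO.Main

open Subgroup Cfsg Cfsg.Agent.ZN Cfsg.Agent.MinSimple.Geo Cfsg.Agent.OddCyclic.GeoC
  Cfsg.Agent.OddCyclic.EO.Line Cfsg.Agent.OddCyclic.EO.Base

universe u

variable {G : Type u} [Group G] [Finite G] {T V : Subgroup G} {z : G}

/-- **`V_z` abelian, `C(z)/K_z` solvable: impossible** -/
theorem false_of_odd [IsSimpleGroup G] (hs : CompStart.SecZero G) (h : Odd T V z) : False := by
  obtain ⟨n, hn⟩ := exists_n h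
  have h1 := EOJ.Main.le_one hn
  have h0 := hn.pos
  obtain rfl : n = 1 := by omega
  obtain ⟨-, -, -, -, a, -, b, -, hab⟩ := hn.crit
  have ho := OneOf.one_of hn
  obtain ⟨y, hy, hy1, hyz⟩ := h.exists_y
  by_cases h8 : Nat.card (ws V z) = 8
  · exact NOf.false_of_eight ho h8
  · by_cases hA : ∀ w ∈ ws V z, w ∈ kq V y → ∀ b ∈ ws V y, b * w = w * b
    · exact Three.false_of_three (Red.ndeg h.cyc hs) ho hy hy1 hyz h8 hA
    · exact TF.End.false_of_tits h.cyc ho h8 hy hy1 hyz hA (Red.nfive h.cyc hs ⟨a, b, hab⟩)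

theorem false_of_solvMod [IsSimpleGroup G] (hs : CompStart.SecZero G) (h : GeoC T V z)
    (hab : ∀ a ∈ ws V z, ∀ b ∈ ws V z, a * b = b * a)
    (hsm : SolvMod (centralizer ({z} : Set G)) (kq V z)) : False :=
  false_of_odd hs { toGeoC := h, ab := hab, sm := hsm }

theorem false_of_solv [IsSimpleGroup G] (hs : CompStart.SecZero G) (h : GeoC T V z)
    (hab : ∀ a ∈ ws V z, ∀ b ∈ ws V z, a * b = b * a) (hn : ((kq V z).subgroupOf (centralizer ({z} : Set G))).Normal)
    (hsol : Group.IsSolvable (↥(centralizer ({z} : Set G)) ⧸ (kq V z).subgroupOf (centralizer ({z} : Set G)))) :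
    False :=
  false_of_solvMod hs h hab (solvMod_of_isSolvable hsol)

end Cfsg.Agent.OddCyclic.EO.Main
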