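import Cfsg.Agent.OddCyclic.FFStruct
import Cfsg.Agent.OddCyclic.L2Model
import Cfsg.Agent.OddCyclic.JFacts

/-!
# The local theorems [D3] and [D5]: common part

`H` finite, all odd Sylow subgroups cyclic, `O₂(H) = 1`.
* `eq_one_of_cent` : a 2-element centralising the Fitting subgroup and all components is trivial.
* `comm_fitting` : commutators centralise the (cyclic) Fitting subgroup.
* `no_sq` : facts on elements `t` with `t⁴ = 1` of the simple groups.
-/

set_option autoImplicit false
set_option linter.unusedSectionVars false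
set_option linter.dupNamespace false

namespace Cfsg.Agent.OddCyclic.EO.DegBase5

open Subgroup Cfsg Cfsg.Agent.OddCyclic.T1Defs Cfsg.Agent.OddCyclic.FFStruct Cfsg.Agent.OddCyclic.CompBasic
open Cfsg.Agent.OddCyclic.PumpMain (KZero)
open Cfsg.Agent.SignalizersComponents.Components
open Cfsg.Agent.SporRec.J1.Defs (Local)

variable {H : Type*} [Group H] [Finite H]

/-- a 2-element centralising `F*(H)` is trivial -/
theorem eq_one_of_cent (h2 : pCore 2 H = ⊥) {a : H} (ha : ∃ k : ℕ, a ^ 2 ^ k = 1)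
    (h1 : ∀ x ∈ fittingSubgroup H, a * x = x * a)
    (h3 : ∀ K : Subgroup H, IsComponent K → a ∈ centralizer (K : Set H)) : a = 1 := by
  have : Fact (Nat.Prime 2) := ⟨Nat.prime_two⟩
  obtain ⟨k, hk⟩ := ha
  set C := centralizer (generalizedFittingSubgroup H : Set H) with hC
  have hFn : (generalizedFittingSubgroup H).Normal := Cfsg.Agent.Lib.GenFitting.genFitting_normal
  have hCn : C.Normal := by rw [hC]; infer_instance
  have hle : C ≤ generalizedFittingSubgroup H := Cfsg.Agent.Lib.GenFitting.centralizer_genFitting_le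
  have haC : a ∈ C := by
    rw [hC, mem_centralizer_iff]
    have h4 : generalizedFittingSubgroup H ≤ centralizer ({a} : Set H) := by
      rw [Cfsg.Agent.Lib.GenFitting.genFitting_def, sup_le_iff]
      constructor
      · rw [layer_le_iff]
        intro K hK k hk
        rw [mem_centralizer_singleton_iff]
        exact (mem_centralizer_iff.mp (h3 K hK)) k hk
      · intro x hx
        rw [mem_centralizer_singleton_iff]
        exact (h1 x hx).symm
    intro x hx
    exact mem_centralizer_singleton_iff.mp (h4 hx)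
  have hab : ∀ u ∈ C, ∀ v ∈ C, u * v = v * u := by
    intro u hu v hv
    exact ((mem_centralizer_iff.mp hv) u (hle hu))
  have hnil : Group.IsNilpotent C := by
    let _ : CommGroup C := { (inferInstance : Group C) with mul_comm := fun u v => Subtype.ext (hab u u.2 v v.2) }
    infer_instance
  have haF : a ∈ fittingSubgroup H := Cfsg.Agent.Lib.Cores.le_fittingSubgroup hCn hnil haC
  have h4 : a ∈ pCore 2 H := Cfsg.Agent.Lib.GenFitting.mem_pCore_of_mem_fitting haF (k := k) hk
  rwa [h2, Subgroup.mem_bot] at h4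

theorem mulAut_comm {Q : Type*} [Group Q] [IsCyclic Q] (σ τ : MulAut Q) : σ * τ = τ * σ := by
  obtain ⟨g, hg⟩ := IsCyclic.exists_generator (α := Q)
  obtain ⟨m, hm⟩ := hg (σ g)
  obtain ⟨n, hn⟩ := hg (τ g)
  have hm' : σ g = g ^ m := hm.symm
  have hn' : τ g = g ^ n := hn.symm
  ext x
  obtain ⟨k, rfl⟩ := hg x
  have h1 : σ (τ (g ^ k)) = g ^ (m * n * k) := by
    rw [map_zpow, map_zpow, hn', map_zpow, hm', ← zpow_mul, ← zpow_mul, mul_assoc]
  have h2 : τ (σ (g ^ k)) = g ^ (n * m * k) := by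
    rw [map_zpow, map_zpow, hm', map_zpow, hn', ← zpow_mul, ← zpow_mul, mul_assoc]
  show σ (τ (g ^ k)) = τ (σ (g ^ k))
  rw [h1, h2, mul_comm m n]

/-- commutators centralise the Fitting subgroup -/
theorem comm_fitting (hc : OddCyc H) (h2 : pCore 2 H = ⊥) (g h : H) : ∀ x ∈ fittingSubgroup H,
    (g * h * g⁻¹ * h⁻¹) * x = x * (g * h * g⁻¹ * h⁻¹) := by
  intro x hx
  have hcyc := isCyclic_fitting hc h2
  have hn : (fittingSubgroup H).Normal := Cfsg.Agent.Lib.Cores.fittingSubgroup_normal
  have h1 : (MulAut.conjNormal (g * h * g⁻¹ * h⁻¹) : MulAut (fittingSubgroup H)) = 1 := by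
    rw [map_mul, map_mul, map_mul, mulAut_comm (MulAut.conjNormal g) (MulAut.conjNormal h), mul_assoc, mul_assoc,
      ← mul_assoc (MulAut.conjNormal g), ← map_mul, mul_inv_cancel, map_one, one_mul, ← map_mul, mul_inv_cancel,
      map_one]
  have h3 := congrArg (fun α : MulAut (fittingSubgroup H) => ((α ⟨x, hx⟩ : fittingSubgroup H) : H)) h1
  simp only [MulAut.conjNormal_apply, MulAut.one_apply] at h3
  exact mul_inv_eq_iff_eq_mul.1 h3

/-! ### the action on a normal subgroup -/

section act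

variable {K : Subgroup H} [K.Normal]

local notation "ψ" => (MulAut.conjNormal (H := K))

theorem mem_cent_iff {a : H} : a ∈ centralizer (K : Set H) ↔ ψ a = 1 := by
  constructor
  · intro h
    ext k
    rw [MulAut.conjNormal_apply, MulAut.one_apply, ← (mem_centralizer_iff.1 h) k k.2, mul_inv_cancel_right]
  · intro h
    rw [mem_centralizer_iff]
    intro k hk
    have h3 := congrArg (fun α : MulAut K => ((α ⟨k, hk⟩ : K) : H)) h
    simp only [MulAut.conjNormal_apply, MulAut.one_apply] at h3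
    exact (mul_inv_eq_iff_eq_mul.1 h3).symm

/-- the conjugation is faithful -/
theorem conj_injective (hK : ∀ z ∈ K, z ∈ centralizer (K : Set H) → z = 1) :
    Function.Injective (MulAut.conj : K →* MulAut K) := by
  rw [injective_iff_map_eq_one]
  intro k hk
  apply Subtype.ext
  apply hK k k.2
  rw [mem_centralizer_iff]
  intro x hx
  have h3 := congrArg (fun α : MulAut K => ((α ⟨x, hx⟩ : K) : H)) hk
  simp only [MulAut.conj_apply, MulAut.one_apply] at h3
  have h4 : (k : H) * x * (k : H)⁻¹ = x := h3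
  exact (mul_inv_eq_iff_eq_mul.1 h4).symm

theorem psi_mem {g : H} (hg : g ∈ K) : ψ g = MulAut.conj (⟨g, hg⟩ : K) := by
  ext k
  rw [MulAut.conjNormal_apply, MulAut.conj_apply]
  rfl

end act

/-! ### 2-elements of the simple groups -/

section elts

variable {K : Type*} [Group K] [Finite K]

/-- two involutions generating a dihedral group lie in a Sylow 2-subgroup -/
theorem exists_sylow {a b : K} (ha : a * a = 1) (hb : b * b = 1) (h : ∃ n : ℕ, (a * b) ^ 2 ^ n = 1) :
    ∃ P : Sylow 2 K, a ∈ P ∧ b ∈ P := by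
  have : Fact (Nat.Prime 2) := ⟨Nat.prime_two⟩
  obtain ⟨n, hn⟩ := h
  have h1 : IsPGroup 2 (zpowers (a * b)) := by
    rintro ⟨x, k, rfl⟩
    refine ⟨n, ?_⟩
    apply Subtype.ext
    show ((a * b) ^ k) ^ 2 ^ n = 1
    rw [← zpow_natCast, ← zpow_mul, mul_comm, zpow_mul, zpow_natCast, hn, one_zpow]
  have h3 : IsPGroup 2 (zpowers a) := by
    rintro ⟨x, k, rfl⟩
    refine ⟨1, ?_⟩
    apply Subtype.ext
    show (a ^ k) ^ 2 ^ 1 = 1
    rw [pow_one, ← zpow_natCast, ← zpow_mul, mul_comm, zpow_mul, zpow_natCast, pow_two, ha, one_zpow]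
  have ha' : a⁻¹ = a := inv_eq_of_mul_eq_one_left ha
  have hb' : b⁻¹ = b := inv_eq_of_mul_eq_one_left hb
  have h4 : zpowers a ≤ normalizer (zpowers (a * b) : Set K) := by
    rw [zpowers_le, mem_normalizer_iff]
    have h5 : ∀ x, x ∈ zpowers (a * b) → a * x * a⁻¹ ∈ zpowers (a * b) := by
      rintro _ ⟨k, rfl⟩
      show a * (a * b) ^ k * a⁻¹ ∈ _
      rw [← conj_zpow]
      apply zpow_mem
      have : a * (a * b) * a⁻¹ = (a * b)⁻¹ := by
        rw [mul_inv_rev, ← mul_assoc, ha, one_mul, hb', ha']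
      rw [this]
      exact inv_mem (mem_zpowers _)
    intro x
    refine ⟨h5 x, fun hx => ?_⟩
    have h6 := h5 _ hx
    have h7 : a * (a * x * a⁻¹) * a⁻¹ = x := by
      rw [ha']
      calc a * (a * x * a) * a = (a * a) * x * (a * a) := by group
        _ = x := by rw [ha]; group
    rwa [h7] at h6
  obtain ⟨P, hP⟩ := (h3.to_sup_of_normal_right' h1 h4).exists_le_sylow
  have haP : a ∈ P := hP (mem_sup_left (mem_zpowers a))
  refine ⟨P, haP, ?_⟩
  have h8 : a * b ∈ P := hP (mem_sup_right (mem_zpowers _))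
  have h9 : b = a⁻¹ * (a * b) := by group
  rw [h9]
  exact mul_mem (inv_mem haP) h8

/-- no dihedral subgroups of order 8 -/
def NoD8 (K : Type*) [Group K] : Prop :=
  ∀ a b d : K, a * a = 1 → b * b = 1 → d * d = 1 → d * a = a * d → d * b = b * d → b * a = d * (a * b) → d = 1

theorem NoD8.congr {K L : Type*} [Group K] [Group L] (h : NoD8 K) (e : K ≃* L) : NoD8 L := by
  intro a b d h1 h2 h3 h4 h5 h6
  have h7 := h (e.symm a) (e.symm b) (e.symm d) (by rw [← map_mul, h1, map_one]) (by rw [← map_mul, h2, map_one])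
    (by rw [← map_mul, h3, map_one]) (by rw [← map_mul, h4, map_mul]) (by rw [← map_mul, h5, map_mul])
    (by rw [← map_mul, h6, map_mul, map_mul])
  have h8 := congrArg e h7
  rwa [e.apply_symm_apply, map_one] at h8

theorem sq_of_rel {K : Type*} [Group K] {a b d : K} (ha : a * a = 1) (hb : b * b = 1) (hda : d * a = a * d)
    (h : b * a = d * (a * b)) : (a * b) * (a * b) = d := by
  calc (a * b) * (a * b) = a * (b * a) * b := by group
    _ = (a * d) * (a * b) * b := by rw [h]; group
    _ = (d * a) * (a * b) * b := by rw [hda]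
    _ = d * (a * a) * (b * b) := by group
    _ = d := by rw [ha, hb]; group

theorem noD8_sz (hs : Cfsg.Lie.IsoSuzuki K) : NoD8 K := by
  intro a b d ha hb hd hda hdb h
  have h1 := sq_of_rel ha hb hda h
  obtain ⟨P, haP, hbP⟩ := exists_sylow ha hb ⟨2, by
    show (a * b) ^ 4 = 1
    have : (a * b) ^ 4 = ((a * b) * (a * b)) * ((a * b) * (a * b)) := by
      rw [← pow_two, ← pow_two, ← pow_mul]
    rw [this, h1, hd]⟩
  have h3 := ((T1SzFacts.szMore hs P).sq_iff a haP).1 ha b hbP
  rw [← h3] at h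
  exact (mul_eq_right.1 h.symm)

theorem noD8_j (hJ : Local K) : NoD8 K := by
  intro a b d ha hb hd hda hdb h
  by_contra hd1
  have h1 := sq_of_rel ha hb hda h
  obtain ⟨e⟩ := hJ.cent d (JInner.two_of_sq hd hd1)
  set t : centralizer ({d} : Set K) := ⟨a * b, mem_centralizer_singleton_iff.2 (by
    rw [mul_assoc, ← hdb, ← mul_assoc, ← hda, mul_assoc])⟩ with ht
  set z : centralizer ({d} : Set K) := ⟨d, mem_centralizer_singleton_iff.2 rfl⟩ with hz
  have h3 : t * t = z := Subtype.ext h1
  have h4 : ∀ x, z * x = x * z := fun x => Subtype.ext (mem_centralizer_singleton_iff.1 x.2).symm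
  have h5 : (e z).2 = 1 := by
    have : ∀ τ : alternatingGroup (Fin 5), (∀ x : alternatingGroup (Fin 5), τ * x = x * τ) → τ = 1 := by decide +kernel
    apply this
    intro x
    have h6 := congrArg e (h4 (e.symm (1, x)))
    rw [map_mul, map_mul, e.apply_symm_apply] at h6
    exact congrArg Prod.snd h6
  have h6 : (e z).1 = 1 := by
    rw [← h3, map_mul, Prod.fst_mul]
    have : ∀ x : Multiplicative (ZMod 2), x * x = 1 := by decide
    exact this _
  have h7 : e z = 1 := Prod.ext h6 h5
  have h8 : z = 1 := e.injective (by rw [h7, map_one])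
  exact hd1 (congrArg Subtype.val h8)

end elts

section sl

open Cfsg.Agent.OddCyclic.T1Sl2

variable {F : Type*} [Field F] [Fintype F] [CharP F 2]

theorem comm_of_mem {P : Sylow 2 (Matrix.SpecialLinearGroup (Fin 2) F)} {a b : Matrix.SpecialLinearGroup (Fin 2) F}
    (ha : a ∈ P) (hb : b ∈ P) : a * b = b * a := by
  have : Fact (Nat.Prime 2) := ⟨Nat.prime_two⟩
  obtain ⟨g, rfl⟩ := MulAction.exists_smul_eq (Matrix.SpecialLinearGroup (Fin 2) F) (T1Sl2.SU F) P
  rw [mem_smul] at ha hb
  have ha' := eq_up (show g⁻¹ * a * g ∈ UI F from ha)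
  have hb' := eq_up (show g⁻¹ * b * g ∈ UI F from hb)
  have h1 : (g⁻¹ * a * g) * (g⁻¹ * b * g) = (g⁻¹ * b * g) * (g⁻¹ * a * g) := by
    rw [ha', hb', up_mul, up_mul, add_comm]
  have h3 : a * b = g * ((g⁻¹ * a * g) * (g⁻¹ * b * g)) * g⁻¹ := by group
  rw [h3, h1]; group

theorem noD8_sl : NoD8 (Matrix.SpecialLinearGroup (Fin 2) F) := by
  intro a b d ha hb hd hda hdb h
  have h1 := sq_of_rel ha hb hda h
  obtain ⟨P, haP, hbP⟩ := exists_sylow ha hb ⟨2, by
    show (a * b) ^ 4 = 1
    have : (a * b) ^ 4 = ((a * b) * (a * b)) * ((a * b) * (a * b)) := by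
      rw [← pow_two, ← pow_two, ← pow_mul]
    rw [this, h1, hd]⟩
  rw [comm_of_mem haP hbP] at h
  exact (mul_eq_right.1 h.symm)

end sl

end Cfsg.Agent.OddCyclic.EO.DegBase5
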