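import Cfsg.Agent.OddCyclic.EO.Fit

/-!
# FF-offenders and quadratic subgroups in groups with cyclic self-centralizing Fitting subgroup

* `ff_main`: an elementary abelian subgroup `A` fixing the generating vector `l` with `|M : C_M(A)| ≤ |A|` has order at most
  2 and its involution is a transvection on `M = [M, g] ⊕ C_M(g)`, `|[M, g]| = 4`.
-/

set_option autoImplicit false
set_option linter.unusedSectionVars false
set_option linter.style.haveILetI false

namespace Cfsg.Agent.OddCyclic.EO.FitB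

open Subgroup Cfsg.Agent.OddCyclic.EO.Fit

universe u v

variable {X : Type u} {M : Type v} [Group X] [AddCommGroup M] [DistribMulAction X M] [Finite X] [Finite M]

theorem mem_zpowers_pow {g : X} {k : ℕ} (hco : Nat.Coprime k (orderOf g)) : g ∈ zpowers (g ^ k) := by
  have h3 := Nat.gcd_eq_gcd_ab k (orderOf g)
  have h4 : g = (g ^ k) ^ (Nat.gcdA k (orderOf g)) := by
    have h5 : g ^ ((Nat.gcd k (orderOf g) : ℕ) : ℤ) = (g ^ k) ^ (Nat.gcdA k (orderOf g)) := by
      rw [h3, zpow_add, zpow_mul, zpow_mul, zpow_natCast, zpow_natCast, pow_orderOf_eq_one, one_zpow, mul_one]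
    rw [hco.gcd_eq_one] at h5
    simpa using h5
  exact ⟨_, h4.symm⟩

theorem odd_of_mem {F : Subgroup X} (hodd : Odd (Nat.card F)) {g : X} (hg : g ∈ F) : Odd (orderOf g) := by
  have h1 : orderOf g ∣ Nat.card F := by
    rw [← Nat.card_zpowers]; exact card_dvd_of_le (zpowers_le.mpr hg)
  exact Odd.of_dvd_nat hodd h1

/-- `g³` is trivial on a subgroup of order at most 4 on which `g` has no fixed points -/
theorem cube {W : AddSubgroup M} (hW : Nat.card W ≤ 4) {g : X} (hodd : Odd (orderOf g)) (hg : ∀ w ∈ W, g • w ∈ W)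
    (h0 : ∀ w ∈ W, g • w = w → w = 0) : ∀ w ∈ W, g ^ 3 • w = w := by
  classical
  intro w hw
  by_cases hw0 : w = 0
  · rw [hw0, smul_zero]
  have hinj : Function.Injective fun m : M => g • m := MulAction.injective g
  have hs : ∀ {u v : M}, g • u = g • v → u = v := fun h => hinj h
  have h1 : g • w ≠ w := fun e => hw0 (h0 w hw e)
  have h2 : g • g • w ≠ g • w := fun e => h1 (hs e)
  have h3 : g • g • w ≠ w := by
    intro e
    apply h1
    have e2 : (g ^ 2) • w = w := by rw [pow_two, mul_smul, e]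
    refine smul_zpowers e2 (mem_zpowers_pow ?_)
    exact (Nat.coprime_two_left).mpr hodd
  have k1 : g • w ≠ 0 := fun e => hw0 (hs (by rw [e, smul_zero]))
  have k2 : g • g • w ≠ 0 := fun e => k1 (hs (by rw [e, smul_zero]))
  have k3 : g • g • g • w ≠ 0 := fun e => k2 (hs (by rw [e, smul_zero]))
  have hsub : ({0, w, g • w, g • g • w} : Set M) ⊆ (W : Set M) := by
    rintro x (rfl | rfl | rfl | rfl)
    · exact W.zero_mem
    · exact hw
    · exact hg _ hw
    · exact hg _ (hg _ hw)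
  have hc : ({0, w, g • w, g • g • w} : Set M).ncard = 4 := by
    rw [Set.ncard_insert_of_notMem, Set.ncard_insert_of_notMem, Set.ncard_pair (Ne.symm h2)]
    · rintro (e | e)
      · exact h1 e.symm
      · exact h3 e.symm
    · rintro (e | e | e)
      · exact hw0 e.symm
      · exact k1 e.symm
      · exact k2 e.symm
  have heq : ({0, w, g • w, g • g • w} : Set M) = (W : Set M) :=
    Set.eq_of_subset_of_ncard_le hsub (by rw [hc]; exact hW) (Set.toFinite _)
  have hmem : g • g • g • w ∈ ({0, w, g • w, g • g • w} : Set M) := by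
    rw [heq]; exact hg _ (hg _ (hg _ hw))
  have e3 : g ^ 3 • w = g • g • g • w := by
    rw [pow_succ, pow_two, mul_smul, mul_smul]
  rw [e3]
  rcases hmem with e | e | e | e
  · exact absurd e k3
  · exact e
  · exact absurd (hs e) h3
  · exact absurd (hs (hs e)) h1

variable {F A : Subgroup X} {l : M}

theorem prime_ne_two {g : X} {r j : ℕ} (hodd : Odd (orderOf g)) (hgo : orderOf g = r ^ j) (hg1 : g ≠ 1) : r ≠ 2 := by
  rintro rfl
  rw [hgo] at hodd
  have hj : j = 0 := by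
    by_contra hj
    exact (Nat.not_even_iff_odd.mpr hodd) ((Nat.even_pow).mpr ⟨even_two, hj⟩)
  rw [hj, pow_zero, orderOf_eq_one_iff] at hgo
  exact hg1 hgo

theorem not_comm {b g : X} (hodd : Odd (orderOf g)) (hg1 : g ≠ 1) (hbg : b * g * b⁻¹ = g⁻¹) : b * g ≠ g * b := by
  intro e
  have e2 : g = g⁻¹ := by rw [← hbg, e]; group
  have e3 : g * g = 1 := by nth_rw 1 [e2]; group
  have e4 : orderOf g ∣ 2 := orderOf_dvd_of_pow_eq_one (by rw [pow_two, e3])
  rcases (Nat.dvd_prime Nat.prime_two).mp e4 with e5 | e5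
  · exact hg1 (orderOf_eq_one_iff.mp e5)
  · rw [e5] at hodd
    exact absurd hodd (by decide)

theorem ff_three (h : Amb M F A) (hg : Good F A (⊤ : AddSubgroup M) l)
    (hf : ∀ a ∈ A, (∀ m : M, a • m = m) → a = 1)
    (hle : Nat.card M ≤ Nat.card (fx A (⊤ : AddSubgroup M)) * Nat.card A) {b g : X} (hb : b ∈ A) (hgF : g ∈ F)
    {r j : ℕ} (hr : r.Prime) (hgo : orderOf g = r ^ j) (hbg : b * g * b⁻¹ = g⁻¹) (hgv : ∃ v : M, g • v ≠ v) : r = 3 := by
  by_contra hr3
  obtain ⟨v, hv⟩ := hgv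
  have hg1 : g ≠ 1 := by rintro rfl; rw [one_smul] at hv; exact hv rfl
  have hgodd := odd_of_mem h.odd hgF
  have hr2 := prime_ne_two hgodd hgo hg1
  have hP : zpowers g ≤ F := zpowers_le.mpr hgF
  have hPo : Odd (Nat.card (zpowers g)) := Odd.of_dvd_nat h.odd (card_dvd_of_le hP)
  have hN2 := hg.fx h.cyc h.odd h.two h.norm hP
  have hN1 := hg.ker h.cyc h.odd h.two h.norm hP
  set N2 := fx (zpowers g) (⊤ : AddSubgroup M) with hN2d
  set N1 := (⊤ : AddSubgroup M) ⊓ (av (zpowers g) : M →+ M).ker with hN1d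
  have hsplit : Nat.card M = Nat.card N2 * Nat.card N1 := by
    have := card_split' h hg hP
    rwa [AddSubgroup.card_top] at this
  have hsplitA : Nat.card (fx A (⊤ : AddSubgroup M)) = Nat.card (fx A N2) * Nat.card (fx A N1) := card_split_fx h hg hP
  set l1 := l - av (zpowers g) l with hl1
  have hl10 : l1 ≠ 0 := by
    intro e
    apply hv
    have h1 : (⊤ : AddSubgroup M) ≤ fx (zpowers g) (⊤ : AddSubgroup M) := by
      refine hg.gen _ fun f hf => ⟨AddSubgroup.mem_top _, fun p hp => ?_⟩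
      have h2 : l = av (zpowers g) l := sub_eq_zero.mp e
      have h3 : p • l = l := by rw [h2]; exact smul_av hp l
      rw [smul_smul, comm_of_cyclic h.cyc (hP hp) hf, mul_smul, h3]
    exact (h1 (AddSubgroup.mem_top v)).2 g (mem_zpowers g)
  set A1 := kn A N2 with hA1
  set A0 := A1 ⊓ centralizer ({g} : Set X) with hA0
  have hA1A : A1 ≤ A := kn_le _ _
  have hA0A : A0 ≤ A := inf_le_left.trans hA1A
  -- (1)
  have i1 := ineq h _ N2 _ A rfl le_rfl hN2
  have i3 := ineq h _ N1 _ A0 rfl hA0A hN1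
  have hker : Nat.card (kn A0 N1) = 1 := by
    rw [Subgroup.card_eq_one, eq_bot_iff]
    intro x hx
    rw [mem_bot]
    refine hf x (hA0A hx.1) fun m => ?_
    have h1 : x • av (zpowers g) m = av (zpowers g) m :=
      hx.1.1.2 _ ⟨AddSubgroup.mem_top _, fun p hp => smul_av hp _⟩
    have h2 : x • (m - av (zpowers g) m) = m - av (zpowers g) m := by
      refine hx.2 _ ⟨AddSubgroup.mem_top _, ?_⟩
      change av (zpowers g) (m - av (zpowers g) m) = 0
      rw [map_sub, av_fixed hPo h.two (m := av (zpowers g) m) fun p hp => smul_av hp _, sub_self]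
    rw [smul_sub, h1] at h2
    exact sub_left_inj.mp h2
  rw [hker, mul_one] at i3
  -- index at most two
  have hcard : Nat.card A1 ≤ 2 * Nat.card A0 := by
    by_cases hcen : A1 ≤ centralizer ({g} : Set X)
    · have e : A0 = A1 := inf_eq_left.mpr hcen
      rw [e]; omega
    · obtain ⟨b1, hb1, hb1g⟩ := Set.not_subset.mp hcen
      have hpm : ∀ x ∈ A1, x ∉ A0 → x * g * x⁻¹ = g⁻¹ := by
        intro x hx hx0
        rcases pm h.cyc h.norm (h.sq x (hA1A hx)) hgF hr hr2 hgo with e | e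
        · exact absurd (mem_inf.mpr ⟨hx, mem_centralizer_singleton_iff.mpr e⟩) hx0
        · exact e
      refine two_mul_le (fun x hx y hy hx0 hy0 => ?_) ⟨b1, hb1, fun e => hb1g e.2⟩
      refine mem_inf.mpr ⟨mul_mem hx hy, mem_centralizer_singleton_iff.mpr ?_⟩
      have e1 := hpm x hx hx0
      have e2 := hpm y hy hy0
      have e3 : x * y * g * (x * y)⁻¹ = g := by
        calc x * y * g * (x * y)⁻¹ = x * (y * g * y⁻¹) * x⁻¹ := by group
          _ = (x * g * x⁻¹)⁻¹ := by rw [e2]; group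
          _ = g := by rw [e1, inv_inv]
      exact mul_inv_eq_iff_eq_mul.mp e3
  have hbi : ∀ n ∈ fx A0 N1, b • n ∈ fx A0 N1 := by
    intro n hn
    refine ⟨hN1.inv' h.norm b hb n hn.1, fun c hc => ?_⟩
    rw [smul_smul, h.ab c (hA0A hc) b hb, mul_smul, hn.2 c hc]
  have hgi : ∀ n ∈ fx A0 N1, g • n ∈ fx A0 N1 := by
    intro n hn
    refine ⟨hN1.inv g hgF n hn.1, fun c hc => ?_⟩
    rw [smul_smul, mem_centralizer_singleton_iff.mp hc.2, mul_smul, hn.2 c hc]
  have h0 : ∀ n ∈ fx A0 N1, g • n = n → n = 0 := fun n hn hgn => fpf h hgF hn.1 hgn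
  have hd := dih h.two hbi hgi (h.sq b hb) hbg h0
  set Y := fx (zpowers b) (fx A0 N1) with hY
  have hYle : Nat.card (fx A N1) ≤ Nat.card Y := by
    refine card_mono fun n hn => ⟨⟨hn.1, fun c hc => hn.2 c (hA0A hc)⟩, fun c hc => ?_⟩
    exact hn.2 c ((zpowers_le.mpr hb) hc)
  have hN2pos : 0 < Nat.card N2 := Nat.card_pos
  have hA0pos : 0 < Nat.card A0 := Nat.card_pos
  have hYpos : 0 < Nat.card Y := Nat.card_pos
  -- `|N1| ≤ t |A1|`
  have i2 : Nat.card N1 ≤ Nat.card (fx A N1) * Nat.card A1 := by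
    refine Nat.le_of_mul_le_mul_left ?_ hN2pos
    calc Nat.card N2 * Nat.card N1 = Nat.card M := hsplit.symm
      _ ≤ (Nat.card (fx A N2) * Nat.card (fx A N1)) * Nat.card A := by rw [← hsplitA]; exact hle
      _ = Nat.card (fx A N1) * (Nat.card (fx A N2) * Nat.card A) := by ring
      _ ≤ Nat.card (fx A N1) * (Nat.card N2 * Nat.card A1) := Nat.mul_le_mul_left _ i1
      _ = Nat.card N2 * (Nat.card (fx A N1) * Nat.card A1) := by ring
  have i4 : Nat.card Y ≤ 2 := by
    refine Nat.le_of_mul_le_mul_left (a := Nat.card Y) ?_ hYpos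
    refine Nat.le_of_mul_le_mul_right ?_ hA0pos
    calc Nat.card Y * Nat.card Y * Nat.card A0 = Nat.card (fx A0 N1) * Nat.card A0 := by rw [hd]
      _ ≤ Nat.card N1 := i3
      _ ≤ Nat.card (fx A N1) * Nat.card A1 := i2
      _ ≤ Nat.card Y * (2 * Nat.card A0) := Nat.mul_le_mul hYle hcard
      _ = Nat.card Y * 2 * Nat.card A0 := by ring
  have hW : Nat.card (fx A0 N1) ≤ 4 := by
    rw [hd]
    calc Nat.card Y * Nat.card Y ≤ 2 * 2 := Nat.mul_le_mul i4 i4
      _ = 4 := rfl
  have hl1W : l1 ∈ fx A0 N1 := ⟨hN1.mem, fun c hc => hN1.fix c (hA0A hc)⟩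
  have hcube := cube hW hgodd hgi h0 l1 hl1W
  apply hl10
  refine h0 l1 hl1W (smul_zpowers hcube (mem_zpowers_pow ?_))
  rw [hgo]
  refine Nat.Coprime.pow_right j ?_
  exact (Nat.coprime_primes Nat.prime_three hr).mpr (Ne.symm hr3)

/-- `F` acts faithfully via elements of prime power order -/
theorem central_of_pp {c : X} (hc : ∀ g ∈ F, ∀ r j : ℕ, r.Prime → orderOf g = r ^ j → c * g = g * c) :
    ∀ f ∈ F, c * f = f * c := by
  intro f hf
  have h1 : f ∈ centralizer ({c} : Set X) := by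
    refine mem_of_pp _ f rfl fun g hg r j hr ho => ?_
    rw [mem_centralizer_singleton_iff]
    exact (hc g ((zpowers_le.mpr hf) hg) r j hr ho).symm
  exact (mem_centralizer_singleton_iff.mp h1).symm

/-- an involution centralizing `F` is trivial -/
theorem eq_one_of_central (h : Amb M F A) (hc : centralizer (F : Set X) ≤ F) {a : X} (haa : a * a = 1)
    (h1 : ∀ f ∈ F, a * f = f * a) : a = 1 := by
  have h2 : a ∈ F := hc (mem_centralizer_iff.mpr fun f hf => (h1 f hf).symm)
  have h3 := odd_of_mem h.odd h2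
  have h4 : orderOf a ∣ 2 := orderOf_dvd_of_pow_eq_one (by rw [pow_two, haa])
  rcases (Nat.dvd_prime Nat.prime_two).mp h4 with e5 | e5
  · exact orderOf_eq_one_iff.mp e5
  · rw [e5] at h3
    exact absurd h3 (by decide)

/-- two elements inverting only elements of order a power of 3 are equal -/
theorem eq_of_three (h : Amb M F A) (hc : centralizer (F : Set X) ≤ F)
    (h3 : ∀ a ∈ A, ∀ g ∈ F, ∀ r j : ℕ, r.Prime → orderOf g = r ^ j → g ≠ 1 → a * g * a⁻¹ = g⁻¹ → r = 3)
    {a b : X} (ha : a ∈ A) (hb : b ∈ A) (ha1 : a ≠ 1) (hb1 : b ≠ 1) : a = b := by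
  have hinv : ∀ {x}, x ∈ A → x⁻¹ = x := fun hx => inv_eq_of_mul_eq_one_left (h.sq _ hx)
  -- a nontrivial element inverts all elements of order a power of 3
  have key : ∀ x ∈ A, x ≠ 1 → ∀ g ∈ F, ∀ j : ℕ, orderOf g = 3 ^ j → x * g * x⁻¹ = g⁻¹ := by
    intro x hx hx1 g hg j hj
    obtain ⟨g0, hg0, r, k, hr, ho, hn⟩ : ∃ g ∈ F, ∃ r j : ℕ, r.Prime ∧ orderOf g = r ^ j ∧ x * g ≠ g * x := by
      by_contra hcon
      push Not at hcon
      exact hx1 (eq_one_of_central h hc (h.sq x hx) (central_of_pp hcon))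
    have hg01 : g0 ≠ 1 := by rintro rfl; exact hn (by rw [mul_one, one_mul])
    have hr2 := prime_ne_two (odd_of_mem h.odd hg0) ho hg01
    have hi : x * g0 * x⁻¹ = g0⁻¹ := (pm h.cyc h.norm (h.sq x hx) hg0 hr hr2 ho).resolve_left hn
    have hr3 := h3 x hx g0 hg0 r k hr ho hg01 hi
    subst hr3
    rcases pm h.cyc h.norm (h.sq x hx) hg Nat.prime_three (by norm_num) hj with e | e
    · -- centralized: then `g ∈ ⟨g0⟩` is inverted or `g0 ∈ ⟨g⟩` is centralized
      rcases le_total j k with hjk | hjk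
      · have h4 := mem_zpowers_of_dvd h.cyc hg hg0 (by rw [hj, ho]; exact pow_dvd_pow 3 hjk)
        obtain ⟨i, hi'⟩ := h4
        change g0 ^ i = g at hi'
        rw [← hi', ← conj_zpow, hi, inv_zpow]
      · exfalso
        have h4 := mem_zpowers_of_dvd h.cyc hg0 hg (by rw [hj, ho]; exact pow_dvd_pow 3 hjk)
        obtain ⟨i, hi'⟩ := h4
        change g ^ i = g0 at hi'
        apply hn
        rw [← hi']
        exact (show Commute x g from e).zpow_right i
    · exact e
  have hab : (a * b) * (a * b) = 1 := by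
    calc (a * b) * (a * b) = a * (b * a) * b := by group
      _ = (a * a) * (b * b) := by rw [h.ab b hb a ha]; group
      _ = 1 := by rw [h.sq a ha, h.sq b hb, one_mul]
  have h5 : a * b = 1 := by
    refine eq_one_of_central h hc hab (central_of_pp fun g hg r j hr ho => ?_)
    by_cases hg1 : g = 1
    · rw [hg1, mul_one, one_mul]
    have hr2 := prime_ne_two (odd_of_mem h.odd hg) ho hg1
    by_cases hr3 : r = 3
    · subst hr3
      have e1 := key a ha ha1 g hg j ho
      have e2 := key b hb hb1 g hg j ho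
      have e3 : a * b * g * (a * b)⁻¹ = g := by
        calc a * b * g * (a * b)⁻¹ = a * (b * g * b⁻¹) * a⁻¹ := by group
          _ = (a * g * a⁻¹)⁻¹ := by rw [e2]; group
          _ = g := by rw [e1, inv_inv]
      exact mul_inv_eq_iff_eq_mul.mp e3
    · have e1 : a * g = g * a := (pm h.cyc h.norm (h.sq a ha) hg hr hr2 ho).resolve_right
        fun e => hr3 (h3 a ha g hg r j hr ho hg1 e)
      have e2 : b * g = g * b := (pm h.cyc h.norm (h.sq b hb) hg hr hr2 ho).resolve_right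
        fun e => hr3 (h3 b hb g hg r j hr ho hg1 e)
      rw [mul_assoc, e2, ← mul_assoc, e1, mul_assoc]
  have h6 := eq_inv_of_mul_eq_one_left h5
  rw [hinv hb] at h6
  exact h6

/-- **FF-offenders** -/
theorem ff_main (h : Amb M F A) (hg : Good F A (⊤ : AddSubgroup M) l) (hc : centralizer (F : Set X) ≤ F)
    (hf : ∀ x : X, (∀ m : M, x • m = m) → x = 1)
    (hle : Nat.card M ≤ Nat.card (fx A (⊤ : AddSubgroup M)) * Nat.card A) :
    (∀ a ∈ A, ∀ b ∈ A, a ≠ 1 → b ≠ 1 → a = b) ∧ ∀ b ∈ A, b ≠ 1 → ∃ g ∈ F, b * g * b⁻¹ = g⁻¹ ∧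
      (∃ v : M, g • v ≠ v) ∧ Nat.card ↥(av (zpowers g) : M →+ M).ker = 4 ∧
      ∀ m ∈ fx (zpowers g) (⊤ : AddSubgroup M), b • m = m := by
  have hmov : ∀ {g : X}, g ≠ 1 → ∃ v : M, g • v ≠ v := by
    intro g hg1
    by_contra hcon
    push Not at hcon
    exact hg1 (hf g hcon)
  have h3 : ∀ a ∈ A, ∀ g ∈ F, ∀ r j : ℕ, r.Prime → orderOf g = r ^ j → g ≠ 1 → a * g * a⁻¹ = g⁻¹ → r = 3 :=
    fun a ha g hgF r j hr ho hg1 hi => ff_three h hg (fun a _ => hf a) hle ha hgF hr ho hi (hmov hg1)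
  have huniq : ∀ a ∈ A, ∀ b ∈ A, a ≠ 1 → b ≠ 1 → a = b := fun a ha b hb ha1 hb1 => eq_of_three h hc h3 ha hb ha1 hb1
  refine ⟨huniq, fun b hb hb1 => ?_⟩
  have hcardA : Nat.card A ≤ 2 := by
    have : (A : Set X) ⊆ {1, b} := by
      intro a ha
      by_cases ha1 : a = 1
      · exact Or.inl ha1
      · exact Or.inr (huniq a ha b hb ha1 hb1)
    have h4 := Set.ncard_le_ncard this (Set.toFinite _)
    have h5 : ({1, b} : Set X).ncard ≤ 2 := by
      refine (Set.ncard_insert_le _ _).trans ?_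
      rw [Set.ncard_singleton]
    exact h4.trans h5
  obtain ⟨m, hm⟩ := hmov hb1
  obtain ⟨g, hgF, r, j, hr, ho, hbg, v, -, hgv⟩ := exists_pp h hg hb (AddSubgroup.mem_top m) hm
  have hP : zpowers g ≤ F := zpowers_le.mpr hgF
  have hPo : Odd (Nat.card (zpowers g)) := Odd.of_dvd_nat h.odd (card_dvd_of_le hP)
  have hN2 := hg.fx h.cyc h.odd h.two h.norm hP
  have hN1 := hg.ker h.cyc h.odd h.two h.norm hP
  have hker : (⊤ : AddSubgroup M) ⊓ (av (zpowers g) : M →+ M).ker = (av (zpowers g) : M →+ M).ker := top_inf_eq _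
  have hsplit := card_split' h hg hP
  have hsplitA := card_split_fx (B := A) h hg hP
  rw [AddSubgroup.card_top] at hsplit
  set N2 := fx (zpowers g) (⊤ : AddSubgroup M) with hN2d
  set N1 := (⊤ : AddSubgroup M) ⊓ (av (zpowers g) : M →+ M).ker with hN1d
  have hd := dih h.two (fun n hn => hN1.inv' h.norm b hb n hn) (fun n hn => hN1.inv g hgF n hn) (h.sq b hb) hbg
    (fun n hn hgn => fpf h hgF hn hgn)
  set Y := fx (zpowers b) N1 with hY
  have hfxY : fx A N1 ≤ Y := fun n hn => ⟨hn.1, fun c hc => hn.2 c ((zpowers_le.mpr hb) hc)⟩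
  have h7 : Nat.card (fx A N1) ≤ Nat.card Y := card_mono hfxY
  have h8 : Nat.card (fx A N2) ≤ Nat.card N2 := card_mono (fx_le _ _)
  have hN2pos : 0 < Nat.card N2 := Nat.card_pos
  have hYpos : 0 < Nat.card Y := Nat.card_pos
  have h9 : Nat.card Y ≤ 2 := by
    refine Nat.le_of_mul_le_mul_left (c := Nat.card N2 * Nat.card Y) ?_ (Nat.mul_pos hN2pos hYpos)
    calc Nat.card N2 * Nat.card Y * Nat.card Y = Nat.card M := by rw [hsplit, hd]; ring
      _ ≤ (Nat.card (fx A N2) * Nat.card (fx A N1)) * Nat.card A := by rw [← hsplitA]; exact hle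
      _ ≤ (Nat.card N2 * Nat.card Y) * 2 := Nat.mul_le_mul (Nat.mul_le_mul h8 h7) hcardA
  have hg1 : g ≠ 1 := by rintro rfl; rw [one_smul] at hgv; exact hgv rfl
  set l1 := l - av (zpowers g) l with hl1
  have hl10 : l1 ≠ 0 := by
    intro e
    apply hgv
    have h1 : (⊤ : AddSubgroup M) ≤ fx (zpowers g) (⊤ : AddSubgroup M) := by
      refine hg.gen _ fun f hf => ⟨AddSubgroup.mem_top _, fun p hp => ?_⟩
      have h2 : l = av (zpowers g) l := sub_eq_zero.mp e
      have h3 : p • l = l := by rw [h2]; exact smul_av hp l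
      rw [smul_smul, comm_of_cyclic h.cyc (hP hp) hf, mul_smul, h3]
    exact (h1 (AddSubgroup.mem_top v)).2 g (mem_zpowers g)
  have h10 : 2 ≤ Nat.card Y :=
    two_le_card (m := l1) ⟨hN1.mem, fun c hc => hN1.fix c ((zpowers_le.mpr hb) hc)⟩ hl10
  have hY2 : Nat.card Y = 2 := le_antisymm h9 h10
  refine ⟨g, hgF, hbg, ⟨v, hgv⟩, ?_, ?_⟩
  · rw [← hker, hd, hY2]
  · -- equality in the count
    have h11 : Nat.card N2 ≤ Nat.card (fx A N2) := by
      refine Nat.le_of_mul_le_mul_right (c := 4) ?_ (by norm_num)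
      calc Nat.card N2 * 4 = Nat.card M := by rw [hsplit, hd, hY2]
        _ ≤ (Nat.card (fx A N2) * Nat.card (fx A N1)) * Nat.card A := by rw [← hsplitA]; exact hle
        _ ≤ (Nat.card (fx A N2) * 2) * 2 :=
          Nat.mul_le_mul (Nat.mul_le_mul_left _ (h7.trans h9)) hcardA
        _ = Nat.card (fx A N2) * 4 := by ring
    have h12 : fx A N2 = N2 := by
      apply SetLike.coe_injective
      exact Set.eq_of_subset_of_ncard_le (fx_le _ _) h11 (Set.toFinite _)
    intro m hm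
    have hm' : m ∈ fx A N2 := by rw [h12]; exact hm
    exact hm'.2 b hb

/-! ### quadratic action -/

/-- `c` is trivial on `[M, g]` if `a` inverts `g`, `c` centralizes `g` and `[M, a, c] = 0` -/
theorem quad_triv (h : Amb M F A) {l : M} (hg : Good F A (⊤ : AddSubgroup M) l) {a c g : X} (ha : a ∈ A) (hgF : g ∈ F)
    (hag : a * g * a⁻¹ = g⁻¹) (hcg : c * g = g * c) (hq : ∀ m : M, c • (a • m - m) = a • m - m) :
    ∀ n ∈ (av (zpowers g) : M →+ M).ker, c • n = n := by
  have hP : zpowers g ≤ F := zpowers_le.mpr hgF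
  have hN1 := hg.ker h.cyc h.odd h.two h.norm hP
  have hN1e : (⊤ : AddSubgroup M) ⊓ (av (zpowers g) : M →+ M).ker = (av (zpowers g) : M →+ M).ker := top_inf_eq _
  rw [hN1e] at hN1
  set N1 := (av (zpowers g) : M →+ M).ker with hN1d
  have hfpf : ∀ n ∈ N1, g • n = n → n = 0 := fun n hn hgn => fpf (N := ⊤) h hgF ⟨AddSubgroup.mem_top _, hn⟩ hgn
  have hai := hN1.inv' h.norm a ha
  have hgi := hN1.inv g hgF
  have hd := dih h.two hai hgi (h.sq a ha) hag hfpf
  have hgodd := odd_of_mem h.odd hgF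
  -- `W = [N1, a]`
  let φ : N1 →+ M :=
    { toFun := fun n => a • (n : M) - n
      map_zero' := by simp
      map_add' := fun x y => by
        change a • ((x : M) + y) - (x + y) = (a • (x : M) - x) + (a • (y : M) - y)
        rw [smul_add]; abel }
  set W := φ.range with hW
  have hWN : W ≤ N1 := by
    rintro _ ⟨n, rfl⟩
    exact N1.sub_mem (hai n n.2) n.2
  have hWcard : Nat.card N1 = Nat.card φ.ker * Nat.card W := by
    rw [AddSubgroup.card_eq_card_quotient_mul_card_addSubgroup φ.ker, mul_comm,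
      Nat.card_congr (QuotientAddGroup.quotientKerEquivRange φ).toEquiv]
  have hkerle : Nat.card φ.ker ≤ Nat.card (fx (zpowers a) N1) := by
    refine Nat.card_le_card_of_injective (fun n : φ.ker => (⟨((n : N1) : M), fx_zpowers (n : N1).2 ?_⟩ :
      fx (zpowers a) N1)) ?_
    · have h1 : a • ((n : N1) : M) - (n : N1) = 0 := n.2
      exact sub_eq_zero.mp h1
    · intro x y hxy
      have h1 : ((x : N1) : M) = ((y : N1) : M) := congrArg (fun z : fx (zpowers a) N1 => (z : M)) hxy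
      exact Subtype.ext (Subtype.ext h1)
  have hWle : Nat.card (fx (zpowers a) N1) ≤ Nat.card W := by
    by_contra hcon
    push Not at hcon
    have h1 : Nat.card φ.ker * Nat.card W < Nat.card (fx (zpowers a) N1) * Nat.card (fx (zpowers a) N1) :=
      lt_of_le_of_lt (Nat.mul_le_mul_right _ hkerle) (Nat.mul_lt_mul_of_pos_left hcon Nat.card_pos)
    rw [← hWcard, hd] at h1
    exact lt_irrefl _ h1
  -- `gW`
  set gW : AddSubgroup M := pb g⁻¹ W with hgW
  have hgWcard : Nat.card gW = Nat.card W := by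
    refine Nat.card_congr ⟨fun x => ⟨g⁻¹ • (x : M), x.2⟩, fun y => ⟨g • (y : M), ?_⟩, fun x => ?_, fun y => ?_⟩
    · change g⁻¹ • g • (y : M) ∈ W
      rw [inv_smul_smul]; exact y.2
    · apply Subtype.ext; exact smul_inv_smul g (x : M)
    · apply Subtype.ext; exact inv_smul_smul g (y : M)
  have hgWN : gW ≤ N1 := by
    intro x hx
    have h1 := hgi _ (hWN hx)
    rwa [smul_inv_smul] at h1
  have haW : ∀ w ∈ W, a • w = w := by
    rintro _ ⟨n, rfl⟩
    change a • (a • (n : M) - n) = a • (n : M) - n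
    rw [smul_sub, smul_smul, h.sq a ha, one_smul]
    have h2 : a • (n : M) + a • (n : M) = 0 := h.two _
    have h3 : (n : M) + n = 0 := h.two _
    rw [sub_eq_sub_iff_add_eq_add, h3, h2]
  have hinf : W ⊓ gW = ⊥ := by
    rw [eq_bot_iff]
    rintro w ⟨hw, hw2⟩
    rw [AddSubgroup.mem_bot]
    refine hfpf w (hWN hw) ?_
    have e1 : a • w = w := haW w hw
    have e2 : a • g⁻¹ • w = g⁻¹ • w := haW _ hw2
    have e3 : a * g⁻¹ = g * a := by
      calc a * g⁻¹ = (a * g * a⁻¹)⁻¹ * a := by group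
        _ = g * a := by rw [hag, inv_inv]
    rw [smul_smul, e3, mul_smul, e1] at e2
    have e4 : g ^ 2 • w = w := by
      rw [pow_two, mul_smul, e2, smul_inv_smul]
    exact smul_zpowers e4 (mem_zpowers_pow ((Nat.coprime_two_left).mpr hgodd))
  -- `U = C_{N1}(c)`
  set U : AddSubgroup M := fx (zpowers c) N1 with hU
  have hWU : W ≤ U := by
    rintro _ ⟨n, rfl⟩
    exact fx_zpowers (hWN ⟨n, rfl⟩) (hq n)
  have hgWU : gW ≤ U := by
    intro x hx
    refine fx_zpowers (hgWN hx) ?_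
    have h1 : c • g⁻¹ • x = g⁻¹ • x := (hWU hx).2 c (mem_zpowers c)
    have h2 : c * g⁻¹ = g⁻¹ * c := by
      calc c * g⁻¹ = g⁻¹ * (g * c) * g⁻¹ := by group
        _ = g⁻¹ * c := by rw [← hcg]; group
    rw [smul_smul, h2, mul_smul] at h1
    exact smul_left_cancel _ h1
  have hcard := inf_le_card hWU hgWU hinf
  rw [hgWcard] at hcard
  have h5 : Nat.card N1 ≤ Nat.card U := by
    rw [hd]
    exact (Nat.mul_le_mul hWle hWle).trans hcard
  have h6 : U = N1 := by
    apply SetLike.coe_injective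
    exact Set.eq_of_subset_of_ncard_le (fx_le _ _) h5 (Set.toFinite _)
  intro n hn
  rw [← h6] at hn
  exact hn.2 c (mem_zpowers c)

theorem exists_gen {P : Subgroup X} (hF : IsCyclic F) (hP : P ≤ F) : ∃ g ∈ F, P = zpowers g := by
  haveI := hF
  haveI : IsCyclic (P.subgroupOf F) := inferInstance
  haveI : IsCyclic P := isCyclic_of_injective (Subgroup.subgroupOfEquivOfLe hP).symm.toMonoidHom
    (Subgroup.subgroupOfEquivOfLe hP).symm.injective
  obtain ⟨g, hg⟩ := IsCyclic.exists_generator (α := P)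
  refine ⟨g, hP g.2, le_antisymm (fun x hx => ?_) (zpowers_le.mpr g.2)⟩
  obtain ⟨k, hk⟩ := hg ⟨x, hx⟩
  exact ⟨k, by simpa using congrArg Subtype.val hk⟩

/-- `av P l = 0` if `a • n = n + l` for some `n`, `P` the subgroup inverted by `a` -/
theorem av_eq_zero (h : Amb M F A) {l : M} (hg : Good F A (⊤ : AddSubgroup M) l) {a : X} (ha : a ∈ A) {n : M}
    (hn : a • n = n + l) : av (iv F (fun _ hx _ hy => comm_of_cyclic h.cyc hx hy) a) l = 0 := by
  set P := iv F (fun _ hx _ hy => comm_of_cyclic h.cyc hx hy) a with hPd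
  have hP : P ≤ F := fun f hf => hf.1
  haveI := normal_of_le h.cyc h.norm hP
  have h1 : a • av P n = av P n := triv_fx h hg ha _ ⟨AddSubgroup.mem_top _, fun p hp => smul_av hp _⟩
  rw [smul_av_comm, hn, map_add] at h1
  exact add_eq_left.mp h1

/-- **quadratic subgroups with a large almost centralized subgroup have order at most two** -/
theorem quad_main (h : Amb M F A) {l : M} (hg : Good F A (⊤ : AddSubgroup M) l) (hc : centralizer (F : Set X) ≤ F)
    (hf : ∀ x : X, (∀ m : M, x • m = m) → x = 1)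
    (hq : ∀ a ∈ A, ∀ b ∈ A, ∀ m : M, a • (b • m - m) = b • m - m)
    {N0 : AddSubgroup M} (hN0 : Nat.card M ≤ Nat.card N0 * Nat.card A)
    (hN : ∀ n ∈ N0, ∀ a ∈ A, a • n = n ∨ a • n = n + l) : ∀ a ∈ A, ∀ b ∈ A, a ≠ 1 → b ≠ 1 → a = b := by
  by_contra hcon
  push Not at hcon
  obtain ⟨a1, ha1, b1, hb1, ha11, hb11, hab1⟩ := hcon
  by_cases hall : ∀ n ∈ N0, ∀ a ∈ A, a • n = n
  · -- FF
    have hle : Nat.card M ≤ Nat.card (fx A (⊤ : AddSubgroup M)) * Nat.card A := by
      refine hN0.trans (Nat.mul_le_mul_right _ (card_mono fun n hn => ⟨AddSubgroup.mem_top _, fun a ha => hall n hn a ha⟩))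
    exact hab1 ((ff_main h hg hc hf hle).1 a1 ha1 b1 hb1 ha11 hb11)
  push Not at hall
  obtain ⟨n, hn, a, ha, hna⟩ := hall
  have hnl : a • n = n + l := (hN n hn a ha).resolve_left hna
  have ha0 : a ≠ 1 := by rintro rfl; exact hna (one_smul _ _)
  -- another element `c`
  obtain ⟨c, hcA, hc1, hca⟩ : ∃ c ∈ A, c ≠ 1 ∧ c ≠ a := by
    by_cases e : a1 = a
    · exact ⟨b1, hb1, hb11, fun e2 => hab1 (e.trans e2.symm)⟩
    · exact ⟨a1, ha1, ha11, e⟩
  set hF : ∀ x ∈ F, ∀ y ∈ F, x * y = y * x := fun _ hx _ hy => comm_of_cyclic h.cyc hx hy with hFd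
  set P := iv F hF a with hPd
  have hP : P ≤ F := fun f hf => hf.1
  have hl0 : av P l = 0 := av_eq_zero h hg ha hnl
  set P1 := P ⊓ centralizer ({c} : Set X) with hP1d
  set P2 := P ⊓ iv F hF c with hP2d
  have hP1 : P1 ≤ F := inf_le_left.trans hP
  have hP2 : P2 ≤ F := inf_le_left.trans hP
  haveI := normal_of_le h.cyc h.norm hP
  haveI := normal_of_le h.cyc h.norm hP1
  haveI := normal_of_le h.cyc h.norm hP2
  have hPo : Odd (Nat.card P) := Odd.of_dvd_nat h.odd (card_dvd_of_le hP)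
  have hP1o : Odd (Nat.card P1) := Odd.of_dvd_nat h.odd (card_dvd_of_le hP1)
  have hP2o : Odd (Nat.card P2) := Odd.of_dvd_nat h.odd (card_dvd_of_le hP2)
  -- `C_M(P) = 0`
  have hfixP : ∀ m : M, (∀ p ∈ P, p • m = m) → m = 0 := by
    intro m hm
    have h1 := (hg.fx h.cyc h.odd h.two h.norm hP).gen ⊥ (fun f _ => by rw [hl0, smul_zero]; exact zero_mem _)
    exact (AddSubgroup.mem_bot).mp (h1 ⟨AddSubgroup.mem_top _, hm⟩)
  -- `c` is trivial on `ker (av P1)`
  obtain ⟨g1, hg1, hPg1⟩ := exists_gen h.cyc hP1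
  obtain ⟨g2, hg2, hPg2⟩ := exists_gen h.cyc hP2
  have hg1P : g1 ∈ P1 := by rw [hPg1]; exact mem_zpowers g1
  have hg2P : g2 ∈ P2 := by rw [hPg2]; exact mem_zpowers g2
  have ht1 : ∀ m ∈ (av P1 : M →+ M).ker, c • m = m := by
    rw [hPg1]
    exact quad_triv h hg ha hg1 hg1P.1.2 (mem_centralizer_singleton_iff.mp hg1P.2).symm (hq c hcA a ha)
  have hac : ∀ m : M, (a * c) • (a • m - m) = a • m - m := by
    intro m
    rw [mul_smul, hq c hcA a ha, hq a ha a ha]
  have ht2 : ∀ m ∈ (av P2 : M →+ M).ker, (a * c) • m = m := by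
    rw [hPg2]
    refine quad_triv h hg ha hg2 hg2P.1.2 ?_ hac
    have e1 : a * g2 * a⁻¹ = g2⁻¹ := hg2P.1.2
    have e2 : c * g2 * c⁻¹ = g2⁻¹ := hg2P.2.2
    have e3 : a * c * g2 * (a * c)⁻¹ = g2 := by
      calc a * c * g2 * (a * c)⁻¹ = a * (c * g2 * c⁻¹) * a⁻¹ := by group
        _ = (a * g2 * a⁻¹)⁻¹ := by rw [e2]; group
        _ = g2 := by rw [e1, inv_inv]
    exact mul_inv_eq_iff_eq_mul.mp e3
  -- the points fixed by `P1` and `P2` are fixed by `P`
  have hP12 : ∀ m : M, (∀ p ∈ P1, p • m = m) → (∀ p ∈ P2, p • m = m) → m = 0 := by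
    intro m h1 h2
    refine hfixP m fun p hp => ?_
    obtain ⟨x, hx, hxc, y, hy, rfl⟩ := exists_mul hF h.odd h.norm (h.sq c hcA) (hP hp)
    have e1 : a * (x * y) * a⁻¹ = (x * y)⁻¹ := hp.2
    -- `x`, `y ∈ P`
    have hac' : a * c = c * a := h.ab a ha c hcA
    have hci : c⁻¹ = c := inv_eq_of_mul_eq_one_left (h.sq c hcA)
    have hy2 : c * y * c⁻¹ = y⁻¹ := hy.2
    have hPc : c * (x * y) * c⁻¹ ∈ P := by
      refine ⟨h.norm.conj_mem _ (mul_mem hx hy.1) c, ?_⟩
      calc a * (c * (x * y) * c⁻¹) * a⁻¹ = (a * c) * (x * y) * (a * c)⁻¹ := by group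
        _ = c * (a * (x * y) * a⁻¹) * c⁻¹ := by rw [hac']; group
        _ = (c * (x * y) * c⁻¹)⁻¹ := by rw [e1]; group
    have e2 : c * (x * y) * c⁻¹ = x * y⁻¹ := by
      calc c * (x * y) * c⁻¹ = (c * x * c⁻¹) * (c * y * c⁻¹) := by group
        _ = x * y⁻¹ := by rw [hxc, hy2]
    rw [e2] at hPc
    have hxy : x * y = y * x := hF x hx y hy.1
    have hpow : ∀ u ∈ F, u * u ∈ P → u ∈ P := by
      intro u hu huu
      have h3 : u ∈ zpowers (u ^ 2) := mem_zpowers_pow ((Nat.coprime_two_left).mpr (odd_of_mem h.odd hu))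
      rw [pow_two] at h3
      exact (zpowers_le.mpr huu) h3
    have hxP : x ∈ P := by
      refine hpow x hx ?_
      have h3 := mul_mem hPc hp
      have e3 : x * y⁻¹ * (x * y) = x * x := by
        rw [hxy]; group
      rwa [e3] at h3
    have hyP : y ∈ P := by
      have h3 := mul_mem (inv_mem hxP) hp
      rwa [inv_mul_cancel_left] at h3
    have hx1 : x ∈ P1 := mem_inf.mpr ⟨hxP, mem_centralizer_singleton_iff.mpr (mul_inv_eq_iff_eq_mul.mp hxc).symm⟩
    rw [mul_smul, h2 y (mem_inf.mpr ⟨hyP, hy⟩), h1 x hx1]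
  -- `C_M(P1) ≤ ker (av P2)`
  have hk2 : ∀ m : M, (∀ p ∈ P1, p • m = m) → m ∈ (av P2 : M →+ M).ker := by
    intro m hm
    change av P2 m = 0
    refine hP12 _ (fun p hp => ?_) (fun p hp => smul_av hp m)
    rw [smul_av_comm, hm p hp]
  -- the element
  have hn1 : n - av P1 n ∈ (av P1 : M →+ M).ker := by
    change av P1 (n - av P1 n) = 0
    rw [map_sub, av_fixed hP1o h.two (m := av P1 n) fun p hp => smul_av hp _, sub_self]
  have e1 := ht1 _ hn1
  have hfx : ∀ p ∈ P1, p • av P1 n = av P1 n := fun p hp => smul_av hp n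
  have e2 := ht2 _ (hk2 _ hfx)
  have haa : a * a = 1 := h.sq a ha
  have e3 : c • av P1 n = a • av P1 n := by
    rw [mul_smul] at e2
    calc c • av P1 n = (a * a) • c • av P1 n := by rw [haa, one_smul]
      _ = a • av P1 n := by rw [mul_smul, e2]
  have e4 : a • av P1 n = av P1 n + av P1 l := by rw [smul_av_comm, hnl, map_add]
  have e5 : c • n = n + av P1 l := by
    have h1 : n = (n - av P1 n) + av P1 n := by abel
    calc c • n = c • ((n - av P1 n) + av P1 n) := by rw [← h1]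
      _ = (n - av P1 n) + (av P1 n + av P1 l) := by rw [smul_add, e1, e3, e4]
      _ = n + av P1 l := by abel
  rcases hN n hn c hcA with e6 | e6
  · -- `av P1 l = 0`
    rw [e6] at e5
    have h1 : av P1 l = 0 := (left_eq_add.mp e5)
    have h2 : (⊤ : AddSubgroup M) ≤ (av P1 : M →+ M).ker := by
      refine hg.gen _ fun f hf => ?_
      change av P1 (f • l) = 0
      rw [← smul_av_comm, h1, smul_zero]
    exact hc1 (hf c fun m => ht1 m (h2 (AddSubgroup.mem_top m)))
  · have h1 : av P1 l = l := by rw [e6] at e5; exact (add_left_cancel e5).symm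
    have h2 : (⊤ : AddSubgroup M) ≤ fx P1 (⊤ : AddSubgroup M) := by
      refine hg.gen _ fun f hf => ⟨AddSubgroup.mem_top _, fun p hp => ?_⟩
      have h3 : p • l = l := by rw [← h1]; exact smul_av hp l
      rw [smul_smul, hF p (hP1 hp) f hf, mul_smul, h3]
    have h4 : a * c = 1 := hf _ fun m => ht2 m (hk2 m (h2 (AddSubgroup.mem_top m)).2)
    have h5 := eq_inv_of_mul_eq_one_left h4
    have hci : c⁻¹ = c := inv_eq_of_mul_eq_one_left (h.sq c hcA)
    rw [hci] at h5
    exact hca h5.symm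

end Cfsg.Agent.OddCyclic.EO.FitB
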