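import Cfsg.Agent.OddCyclic.EO.FitB

/-!
# The trichotomy for one quadratic involution
-/

set_option autoImplicit false
set_option linter.unusedSectionVars false
set_option linter.style.haveILetI false

namespace Cfsg.Agent.OddCyclic.EO.FitC

open Subgroup Cfsg.Agent.OddCyclic.EO.Fit Cfsg.Agent.OddCyclic.EO.FitB

universe u v

variable {X : Type u} {M : Type v} [Group X] [AddCommGroup M] [DistribMulAction X M] [Finite X] [Finite M]

/-- a group acting freely on the nonzero elements -/
theorem free_dvd {H : Subgroup X} {K : AddSubgroup M} (hK : ∀ h ∈ H, ∀ k ∈ K, h • k ∈ K)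
    (h0 : ∀ h ∈ H, ∀ k ∈ K, k ≠ 0 → h • k = k → h = 1) : Nat.card H ∣ Nat.card K - 1 := by
  classical
  let S : SubMulAction H M :=
    { carrier := {m | m ∈ K ∧ m ≠ 0}
      smul_mem' := by
        rintro ⟨h, hh⟩ m ⟨hm, hm0⟩
        refine ⟨hK h hh m hm, fun e => hm0 ?_⟩
        have e' : h • m = 0 := e
        exact smul_left_cancel h (by rw [e', smul_zero]) }
  have hfree : ∀ b : S, MulAction.stabilizer H b = ⊥ := by
    rintro ⟨b, hb, hb0⟩
    rw [eq_bot_iff]
    rintro ⟨h, hh⟩ hs
    rw [mem_bot]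
    have h1 : h • b = b := congrArg (fun x : S => (x : M)) (MulAction.mem_stabilizer_iff.mp hs)
    exact Subtype.ext (h0 h hh b hb hb0 h1)
  have h1 := Nat.card_congr (MulAction.selfEquivOrbitsQuotientProd hfree)
  rw [Nat.card_prod] at h1
  have h2 : Nat.card S = Nat.card K - 1 := by
    have e1 : Nat.card S = (({m | m ∈ K ∧ m ≠ 0} : Set M)).ncard := rfl
    have e2 : ({m | m ∈ K ∧ m ≠ 0} : Set M) = (K : Set M) \ {0} := by
      ext m; simp
    have e3 : (K : Set M).ncard = Nat.card K := rfl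
    rw [e1, e2, Set.ncard_sdiff_singleton_of_mem (zero_mem K), e3]
  rw [← h2, h1]
  exact dvd_mul_left _ _

/-- `|M| ≤ 2 ^ |F|` -/
theorem card_le_pow (two : ∀ m : M, m + m = 0) {F : Subgroup X} {l : M}
    (hgen : ∀ U : AddSubgroup M, (∀ f ∈ F, f • l ∈ U) → U = ⊤) : Nat.card M ≤ 2 ^ Nat.card F := by
  classical
  letI : Module (ZMod 2) M := AddCommGroup.zmodModule (n := 2) (fun m => by rw [two_smul]; exact two m)
  haveI : Fact (Nat.Prime 2) := ⟨Nat.prime_two⟩
  have hspan : Submodule.span (ZMod 2) (Set.range fun f : F => (f : X) • l) = ⊤ := by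
    have h1 := hgen (Submodule.span (ZMod 2) (Set.range fun f : F => (f : X) • l)).toAddSubgroup
      (fun f hf => Submodule.subset_span ⟨⟨f, hf⟩, rfl⟩)
    rw [eq_top_iff]
    intro m _
    have h2 : m ∈ (Submodule.span (ZMod 2) (Set.range fun f : F => (f : X) • l)).toAddSubgroup := by
      rw [h1]; exact AddSubgroup.mem_top m
    exact h2
  letI := Fintype.ofFinite F
  haveI : Module.Finite (ZMod 2) M := Module.Finite.of_finite
  have h3 : Module.finrank (ZMod 2) M ≤ Nat.card F := by
    have h4 := finrank_range_le_card (R := ZMod 2) (fun f : F => (f : X) • l)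
    rw [Set.finrank, hspan, finrank_top] at h4
    rwa [Nat.card_eq_fintype_card]
  rw [Module.natCard_eq_pow_finrank (K := ZMod 2) (V := M), Nat.card_zmod]
  exact Nat.pow_le_pow_right (by norm_num) h3

variable {F A : Subgroup X} {l : M}

/-- the stabilizer of `l` in `F` is trivial -/
theorem stab (h : Amb M F A) (hg : Good F A (⊤ : AddSubgroup M) l) (hf : ∀ x : X, (∀ m : M, x • m = m) → x = 1) {f : X}
    (hfF : f ∈ F) (hfl : f • l = l) : f = 1 := by
  refine hf f fun m => ?_
  have h1 : (⊤ : AddSubgroup M) ≤ fx (zpowers f) (⊤ : AddSubgroup M) := by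
    refine hg.gen _ fun f' hf' => fx_zpowers (AddSubgroup.mem_top _) ?_
    rw [smul_smul, comm_of_cyclic h.cyc hfF hf', mul_smul, hfl]
  exact (h1 (AddSubgroup.mem_top m)).2 f (mem_zpowers f)

/-- `q ∣ |[M, y]| - 1` for `y` of prime order -/
theorem prime_dvd (h : Amb M F A) (hg : Good F A (⊤ : AddSubgroup M) l) {y : X} (hy : y ∈ F) {q : ℕ} (hq : q.Prime)
    (ho : orderOf y = q) : q ∣ Nat.card (av (zpowers y) : M →+ M).ker - 1 := by
  have hP : zpowers y ≤ F := zpowers_le.mpr hy
  have hN1 := hg.ker h.cyc h.odd h.two h.norm hP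
  have hN1e : (⊤ : AddSubgroup M) ⊓ (av (zpowers y) : M →+ M).ker = (av (zpowers y) : M →+ M).ker := top_inf_eq _
  rw [hN1e] at hN1
  have h1 := free_dvd (H := zpowers y) (K := (av (zpowers y) : M →+ M).ker) (fun c hc k hk => hN1.inv c (hP hc) k hk) ?_
  · rwa [Nat.card_zpowers, ho] at h1
  · intro c hc k hk hk0 hck
    by_contra hc1
    apply hk0
    -- `y ∈ ⟨c⟩`
    have h2 : zpowers c = zpowers y := by
      obtain ⟨j, hj⟩ := hc
      change y ^ j = c at hj
      have h3 : orderOf c ∣ q := by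
        rw [← ho, ← hj]
        exact orderOf_dvd_of_mem_zpowers ⟨j, rfl⟩
      have h4 : orderOf c = q := ((Nat.dvd_prime hq).mp h3).resolve_left fun e => hc1 (orderOf_eq_one_iff.mp e)
      refine Subgroup.eq_of_le_of_card_ge (zpowers_le.mpr ⟨j, hj⟩) ?_
      rw [Nat.card_zpowers, Nat.card_zpowers, h4, ho]
    have h3 : y • k = k := smul_zpowers hck (by rw [h2]; exact mem_zpowers y)
    exact fpf (N := ⊤) h hy ⟨AddSubgroup.mem_top _, hk⟩ h3

/-- the possible orders of `F` if `|M| = 16` and some `g ∈ F` has no fixed points -/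
theorem card_F (h : Amb M F A) (hg : Good F A (⊤ : AddSubgroup M) l) (hf : ∀ x : X, (∀ m : M, x • m = m) → x = 1)
    (h16 : Nat.card M = 16) {g : X} (hgF : g ∈ F) (hgk : (av (zpowers g) : M →+ M).ker = ⊤) :
    Nat.card F = 5 ∨ Nat.card F = 15 := by
  have hl0 : l ≠ 0 := by
    intro e
    have h1 := hg.gen ⊥ (fun f _ => by rw [e, smul_zero]; exact zero_mem _)
    have h2 : Nat.card M ≤ 1 := by
      rw [← AddSubgroup.card_top (G := M), show (⊤ : AddSubgroup M) = ⊥ from le_bot_iff.mp h1, AddSubgroup.card_bot]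
    omega
  -- upper bound
  have hle : Nat.card F ≤ 15 := by
    let f : F → {m : M // m ≠ 0} := fun x => ⟨(x : X) • l, fun e => hl0 (smul_left_cancel (x : X) (by rw [e, smul_zero]))⟩
    have hinj : Function.Injective f := by
      intro x y hxy
      have h1 : (x : X) • l = (y : X) • l := congrArg Subtype.val hxy
      have h2 : ((y : X)⁻¹ * x) • l = l := by rw [mul_smul, h1, inv_smul_smul]
      have h3 := stab h hg hf (mul_mem (inv_mem y.2) x.2) h2
      exact Subtype.ext (inv_mul_eq_one.mp h3).symm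
    have h1 := Nat.card_le_card_of_injective f hinj
    have h2 : Nat.card {m : M // m ≠ 0} = 15 := by
      have e1 : Nat.card {m : M // m ≠ 0} = ({m : M | m ≠ 0} : Set M).ncard := rfl
      have e2 : ({m : M | m ≠ 0} : Set M) = (Set.univ : Set M) \ {0} := by ext m; simp
      rw [e1, e2, Set.ncard_sdiff_singleton_of_mem (Set.mem_univ _), Set.ncard_univ, h16]
    omega
  have hge : 4 ≤ Nat.card F := by
    have h1 := card_le_pow h.two (F := F) (l := l) (fun U hU => top_le_iff.mp (hg.gen U hU))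
    rw [h16] at h1
    by_contra hcon
    have h2 : Nat.card F ≤ 3 := by omega
    have h3 : 2 ^ Nat.card F ≤ 2 ^ 3 := Nat.pow_le_pow_right (by norm_num) h2
    omega
  obtain ⟨s, hs⟩ := h.odd
  haveI := h.cyc
  obtain ⟨x, hxF, hx⟩ := exists_gen h.cyc (le_refl F)
  have hxo : orderOf x = Nat.card F := by rw [hx, Nat.card_zpowers]
  -- elements of prime order
  have hex : ∀ q : ℕ, q.Prime → q ∣ Nat.card F → ∃ y ∈ F, orderOf y = q := by
    intro q hq hqd
    obtain ⟨e, he⟩ := hqd
    have he0 : e ≠ 0 := by rintro rfl; omega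
    refine ⟨x ^ e, pow_mem hxF e, ?_⟩
    rw [orderOf_pow, hxo, he, Nat.gcd_eq_right (dvd_mul_left e q), Nat.mul_div_cancel _ (Nat.pos_of_ne_zero he0)]
  -- cardinalities of subgroups
  have hcards : ∀ K : AddSubgroup M, Nat.card K ∣ 16 := fun K => by rw [← h16]; exact AddSubgroup.card_addSubgroup_dvd_card K
  have hval : ∀ n : ℕ, n ∣ 16 → n = 1 ∨ n = 2 ∨ n = 4 ∨ n = 8 ∨ n = 16 := by
    intro n hn
    have : n ∈ Nat.divisors 16 := Nat.mem_divisors.mpr ⟨hn, by norm_num⟩
    have e : Nat.divisors 16 = {1, 2, 4, 8, 16} := by decide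
    rw [e] at this
    simpa using this
  have hne : ∀ y ∈ F, y ≠ 1 → Nat.card (av (zpowers y) : M →+ M).ker ≠ 1 := by
    intro y hy hy1 hc
    have hP : zpowers y ≤ F := zpowers_le.mpr hy
    have hsp := card_split' h hg hP
    rw [top_inf_eq, hc, mul_one] at hsp
    have h6 : fx (zpowers y) (⊤ : AddSubgroup M) = ⊤ := by
      apply SetLike.coe_injective
      exact Set.eq_of_subset_of_ncard_le (fx_le _ _) hsp.le (Set.toFinite _)
    apply hy1
    refine hf y fun m => ?_
    have h7 : m ∈ fx (zpowers y) (⊤ : AddSubgroup M) := by rw [h6]; exact AddSubgroup.mem_top m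
    exact h7.2 y (mem_zpowers y)
  have hprime : ∀ q : ℕ, q.Prime → q ∣ Nat.card F → q = 3 ∨ q = 5 ∨ q = 7 := by
    intro q hq hqd
    obtain ⟨y, hy, hyo⟩ := hex q hq hqd
    have h1 := prime_dvd h hg hy hq hyo
    have hy1 : y ≠ 1 := by rintro rfl; rw [orderOf_one] at hyo; exact hq.one_lt.ne hyo
    have h2 := hne y hy hy1
    have hq2 : q ≠ 2 := by rintro rfl; omega
    rcases hval _ (hcards _) with e | e | e | e | e
    · exact absurd e h2
    · rw [e] at h1
      have : q ∣ 1 := h1
      exact absurd (Nat.dvd_one.mp this) hq.one_lt.ne'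
    · rw [e] at h1
      have h3 : q ∣ 3 := h1
      exact Or.inl ((Nat.prime_dvd_prime_iff_eq hq Nat.prime_three).mp h3)
    · rw [e] at h1
      have h3 : q ∣ 7 := h1
      exact Or.inr (Or.inr ((Nat.prime_dvd_prime_iff_eq hq (by norm_num)).mp h3))
    · rw [e] at h1
      have h3 : q ∣ 3 * 5 := h1
      rcases (Nat.Prime.dvd_mul hq).mp h3 with h4 | h4
      · exact Or.inl ((Nat.prime_dvd_prime_iff_eq hq Nat.prime_three).mp h4)
      · exact Or.inr (Or.inl ((Nat.prime_dvd_prime_iff_eq hq (by norm_num)).mp h4))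
  have hg1 : g ≠ 1 := by
    rintro rfl
    have h1 : (av (zpowers (1 : X)) : M →+ M) l = 0 := by
      have : l ∈ (av (zpowers (1 : X)) : M →+ M).ker := by rw [hgk]; exact AddSubgroup.mem_top l
      exact this
    rw [av_fixed (Odd.of_dvd_nat h.odd (card_dvd_of_le (zpowers_le.mpr hgF))) h.two] at h1
    · exact hl0 h1
    · intro p hp
      rw [zpowers_one_eq_bot, mem_bot] at hp
      rw [hp, one_smul]
  -- the remaining values
  have h7 : Nat.card F ≠ 7 := by
    intro h7
    have ho : orderOf g = 7 := by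
      have h8 : orderOf g ∣ 7 := by
        rw [← h7, ← Nat.card_zpowers]; exact card_dvd_of_le (zpowers_le.mpr hgF)
      exact ((Nat.dvd_prime (by norm_num)).mp h8).resolve_left fun e => hg1 (orderOf_eq_one_iff.mp e)
    have h9 := prime_dvd h hg hgF (by norm_num) ho
    rw [hgk, AddSubgroup.card_top, h16] at h9
    omega
  have h9 : Nat.card F ≠ 9 := by
    intro h9
    obtain ⟨y, hy, hyo⟩ := hex 3 Nat.prime_three (by rw [h9]; norm_num)
    have hy1 : y ≠ 1 := by rintro rfl; rw [orderOf_one] at hyo; omega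
    have hP : zpowers y ≤ F := zpowers_le.mpr hy
    have hN1 := hg.ker h.cyc h.odd h.two h.norm hP
    rw [top_inf_eq] at hN1
    have h10 := free_dvd (H := F) (K := (av (zpowers y) : M →+ M).ker) (fun c hc k hk => hN1.inv c hc k hk) ?_
    · rw [h9] at h10
      have h2 := hne y hy hy1
      rcases hval _ (hcards (av (zpowers y) : M →+ M).ker) with e | e | e | e | e
      · exact h2 e
      all_goals rw [e] at h10; omega
    · intro c hc k hk hk0 hck
      by_contra hc1
      apply hk0
      have hco : orderOf y ∣ orderOf c := by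
        have h11 : orderOf c ∣ 9 := by
          rw [← h9, ← Nat.card_zpowers]; exact card_dvd_of_le (zpowers_le.mpr hc)
        have h12 : orderOf c ∈ Nat.divisors 9 := Nat.mem_divisors.mpr ⟨h11, by norm_num⟩
        have e : Nat.divisors 9 = {1, 3, 9} := by decide
        rw [e] at h12
        rw [hyo]
        simp only [Finset.mem_insert, Finset.mem_singleton] at h12
        rcases h12 with e1 | e1 | e1
        · exact absurd (orderOf_eq_one_iff.mp e1) hc1
        · rw [e1]
        · rw [e1]; norm_num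
      have h3 : y • k = k := smul_zpowers hck (mem_zpowers_of_dvd h.cyc hy hc hco)
      exact fpf (N := ⊤) h hy ⟨AddSubgroup.mem_top _, hk⟩ h3
  have h11 : Nat.card F ≠ 11 := by
    intro h11
    rcases hprime 11 (by norm_num) (by rw [h11]) with e | e | e <;> omega
  have h13 : Nat.card F ≠ 13 := by
    intro h13
    rcases hprime 13 (by norm_num) (by rw [h13]) with e | e | e <;> omega
  omega

/-- **the trichotomy** -/
theorem tri (h : Amb M F A) (hg : Good F A (⊤ : AddSubgroup M) l)
    (hf : ∀ x : X, (∀ m : M, x • m = m) → x = 1) {a : X} (ha : a ∈ A) (ha1 : a ≠ 1) {N0 : AddSubgroup M}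
    (hN0 : Nat.card M ≤ Nat.card N0 * 2) (hN : ∀ n ∈ N0, a • n = n ∨ a • n = n + l) :
    (∃ g ∈ F, a * g * a⁻¹ = g⁻¹ ∧ orderOf g = 3 ∧ Nat.card (av (zpowers g) : M →+ M).ker = 4 ∧
      ∀ m ∈ fx (zpowers g) (⊤ : AddSubgroup M), a • m = m) ∨
    (Nat.card M = 16 ∧ Nat.card (fx (zpowers a) (⊤ : AddSubgroup M)) = 4 ∧ (Nat.card F = 5 ∨ Nat.card F = 15) ∧
      ∃ n ∈ N0, a • n = n + l) := by
  set hFc : ∀ x ∈ F, ∀ y ∈ F, x * y = y * x := fun _ hx _ hy => comm_of_cyclic h.cyc hx hy with hFd
  set P := iv F hFc a with hPd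
  have hP : P ≤ F := fun f hf => hf.1
  obtain ⟨g, hgF, hPg⟩ := exists_gen h.cyc hP
  have hgP : g ∈ P := by rw [hPg]; exact mem_zpowers g
  have hag : a * g * a⁻¹ = g⁻¹ := hgP.2
  have hPz : zpowers g ≤ F := zpowers_le.mpr hgF
  have hPo : Odd (Nat.card (zpowers g)) := Odd.of_dvd_nat h.odd (card_dvd_of_le hPz)
  have htriv : ∀ m ∈ fx (zpowers g) (⊤ : AddSubgroup M), a • m = m := by
    rw [← hPg]; exact triv_fx h hg ha
  have hN1 := hg.ker h.cyc h.odd h.two h.norm hPz
  rw [top_inf_eq] at hN1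
  have hsplit := card_split' h hg hPz
  have hsplitA := card_split_fx (B := zpowers a) h hg hPz
  rw [AddSubgroup.card_top, top_inf_eq] at hsplit
  rw [top_inf_eq] at hsplitA
  set N2 := fx (zpowers g) (⊤ : AddSubgroup M) with hN2d
  set N1 := (av (zpowers g) : M →+ M).ker with hN1d
  have hfpf : ∀ n ∈ N1, g • n = n → n = 0 := fun n hn hgn => fpf (N := ⊤) h hgF ⟨AddSubgroup.mem_top _, hn⟩ hgn
  have hd := dih h.two (fun n hn => hN1.inv' h.norm a ha n hn) (fun n hn => hN1.inv g hgF n hn) (h.sq a ha) hag hfpf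
  set Y := fx (zpowers a) N1 with hY
  have hfxN2 : fx (zpowers a) N2 = N2 :=
    le_antisymm (fx_le _ _) fun n hn => fx_zpowers hn (htriv n hn)
  rw [hfxN2] at hsplitA
  -- `l1 ≠ 0`
  set l1 := l - av (zpowers g) l with hl1
  have hl10 : l1 ≠ 0 := by
    intro e
    apply ha1
    refine hf a fun m => htriv m ?_
    have h1 : (⊤ : AddSubgroup M) ≤ fx (zpowers g) (⊤ : AddSubgroup M) := by
      refine hg.gen _ fun f hf' => ⟨AddSubgroup.mem_top _, fun p hp => ?_⟩
      have h2 : l = av (zpowers g) l := sub_eq_zero.mp e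
      have h3 : p • l = l := by rw [h2]; exact smul_av hp l
      rw [smul_smul, comm_of_cyclic h.cyc (hPz hp) hf', mul_smul, h3]
    exact h1 (AddSubgroup.mem_top m)
  have hl1Y : l1 ∈ Y := fx_zpowers hN1.mem (hN1.fix a ha)
  have hY2 : 2 ≤ Nat.card Y := two_le_card hl1Y hl10
  have hYeven : 2 ∣ Nat.card Y := by
    have h1 : addOrderOf (⟨l1, hl1Y⟩ : Y) = 2 := by
      refine addOrderOf_eq_prime ?_ (fun e => hl10 (congrArg Subtype.val e))
      rw [two_nsmul]
      exact Subtype.ext (h.two l1)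
    rw [← h1]; exact addOrderOf_dvd_natCard _
  have hN2pos : 0 < Nat.card N2 := Nat.card_pos
  have hYpos : 0 < Nat.card Y := Nat.card_pos
  -- `N00`
  set C := fx (zpowers a) (⊤ : AddSubgroup M) with hC
  have hN00 : Nat.card N0 ≤ 2 * Nat.card C := by
    let φ : N0 →+ M :=
      { toFun := fun n => a • (n : M) - n
        map_zero' := by simp
        map_add' := fun x y => by
          change a • ((x : M) + y) - (x + y) = (a • (x : M) - x) + (a • (y : M) - y)
          rw [smul_add]; abel }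
    have h1 : Nat.card N0 = Nat.card φ.ker * Nat.card φ.range := by
      rw [AddSubgroup.card_eq_card_quotient_mul_card_addSubgroup φ.ker, mul_comm,
        Nat.card_congr (QuotientAddGroup.quotientKerEquivRange φ).toEquiv]
    have h2 : Nat.card φ.ker ≤ Nat.card C := by
      refine Nat.card_le_card_of_injective (fun n : φ.ker => (⟨((n : N0) : M), fx_zpowers (AddSubgroup.mem_top _) ?_⟩ : C)) ?_
      · have h3 : a • ((n : N0) : M) - (n : N0) = 0 := n.2
        exact sub_eq_zero.mp h3
      · intro x y hxy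
        have h3 : ((x : N0) : M) = ((y : N0) : M) := congrArg (fun z : C => (z : M)) hxy
        exact Subtype.ext (Subtype.ext h3)
    have h3 : Nat.card φ.range ≤ 2 := by
      have h4 : (φ.range : Set M) ⊆ {0, l} := by
        rintro _ ⟨n, rfl⟩
        change a • (n : M) - n ∈ ({0, l} : Set M)
        rcases hN n n.2 with e | e
        · left; rw [e, sub_self]
        · right; rw [e]; exact add_sub_cancel_left _ _
      refine (Set.ncard_le_ncard h4 (Set.toFinite _)).trans ((Set.ncard_insert_le _ _).trans ?_)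
      rw [Set.ncard_singleton]
    rw [h1, mul_comm 2]
    exact Nat.mul_le_mul h2 h3
  have hYle : Nat.card Y ≤ 4 := by
    refine Nat.le_of_mul_le_mul_left (c := Nat.card N2 * Nat.card Y) ?_ (Nat.mul_pos hN2pos hYpos)
    calc Nat.card N2 * Nat.card Y * Nat.card Y = Nat.card M := by rw [hsplit, hd]; ring
      _ ≤ Nat.card N0 * 2 := hN0
      _ ≤ (2 * Nat.card C) * 2 := Nat.mul_le_mul_right _ hN00
      _ = Nat.card N2 * Nat.card Y * 4 := by rw [hsplitA]; ring
  have hYcases : Nat.card Y = 2 ∨ Nat.card Y = 4 := by omega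
  rcases hYcases with hYc | hYc
  · left
    have hN1c : Nat.card N1 = 4 := by rw [hd, hYc]
    refine ⟨g, hgF, hag, ?_, hN1c, htriv⟩
    have hcube : ∀ m : M, g ^ 3 • m = m := by
      intro m
      have h1 := cube hN1c.le (odd_of_mem h.odd hgF) (fun n hn => hN1.inv g hgF n hn) hfpf (m - av (zpowers g) m) ?_
      · have h2 : g ^ 3 • av (zpowers g) m = av (zpowers g) m := smul_av (pow_mem (mem_zpowers g) 3) m
        rw [smul_sub, h2] at h1
        exact sub_left_inj.mp h1
      · change av (zpowers g) (m - av (zpowers g) m) = 0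
        rw [map_sub, av_fixed hPo h.two (m := av (zpowers g) m) fun p hp => smul_av hp _, sub_self]
    refine orderOf_eq_prime (hf _ hcube) ?_
    rintro rfl
    exact hl10 (hfpf l1 hN1.mem (one_smul _ _))
  · right
    have hex : ∃ n ∈ N0, a • n = n + l := by
      by_contra hcon
      push Not at hcon
      have h1 : N0 ≤ C := fun n hn => fx_zpowers (AddSubgroup.mem_top _) ((hN n hn).resolve_right (hcon n hn))
      have h2 := card_mono h1
      have h3 : Nat.card N2 * 16 = Nat.card M := by rw [hsplit, hd, hYc]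
      have h4 : Nat.card C = Nat.card N2 * 4 := by rw [hsplitA, hYc]
      omega
    obtain ⟨n, hn, hnl⟩ := hex
    have hl0 : av P l = 0 := av_eq_zero h hg ha hnl
    have hN2bot : N2 = ⊥ := by
      rw [hPg] at hl0
      rw [eq_bot_iff]
      exact (hg.fx h.cyc h.odd h.two h.norm hPz).gen ⊥ (fun f _ => by rw [hl0, smul_zero]; exact zero_mem _)
    have hM : Nat.card M = 16 := by
      rw [hsplit, hd, hYc, hN2bot, AddSubgroup.card_bot]
    have hN1top : N1 = ⊤ := by
      apply SetLike.coe_injective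
      refine Set.eq_of_subset_of_ncard_le (le_top (a := N1)) ?_ (Set.toFinite _)
      have e1 : ((⊤ : AddSubgroup M) : Set M).ncard = Nat.card M := AddSubgroup.card_top
      have e2 : (N1 : Set M).ncard = Nat.card N1 := rfl
      rw [e1, e2, hd, hYc, hM]
    refine ⟨hM, ?_, card_F h hg hf hM hgF hN1top, n, hn, hnl⟩
    rw [hsplitA, hYc, hN2bot, AddSubgroup.card_bot]

end Cfsg.Agent.OddCyclic.EO.FitC
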