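import Mathlib
import Cfsg.Agent.OddCyclic.EO.Small

/-!
# (E1)(b), `n = 1`, `k = 1`

`One T V z`: `ws V y` induces a group of order two on `ws V x / ⟨x⟩` for all distinct collinear points `x`, `y`.
Facts on this involution `a`: it depends only on the vector `π y`; either `a` is a transvection or
`[M, a] = {0, π y, m₀, π y + m₀}` has order four.
-/

set_option autoImplicit false
set_option linter.unusedSectionVars false

namespace Cfsg.Agent.OddCyclic.EO.One

open Subgroup Cfsg Cfsg.Agent.ZN Cfsg.Agent.MinSimple.Geo Cfsg.Agent.OddCyclic.GeoC Cfsg.Agent.OddCyclic.BTwoA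
  Cfsg.Agent.OddCyclic.EO.Line Cfsg.Agent.OddCyclic.EO.Base Cfsg.Agent.MinSimple.SecRep
  Cfsg.Agent.OddCyclic.EO.RepM
open Cfsg.Agent.ZN.Block (conj_mem_of_normalizer conj_mem_of_normalizer' le_normalizer_of_forall
  mem_normalizer_of)

universe u

variable {G : Type u} [Group G]

/-- `n = 1`, `k = 1` -/
structure One (T V : Subgroup G) (z : G) : Prop extends Odd T V z where
  k1 : ∀ x y, Pt z x → Col V x y → (kq V x).relIndex (ws V y) = 2

variable [Finite G] {T V : Subgroup G} {z x y : G}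

theorem One.conj (h : One T V z) (g : G) : One (cj g T) (cj g V) (g * z * g⁻¹) where
  toOdd := h.toOdd.conj g
  k1 := by
    intro x y hx hc
    rw [kq_cj_left, ws_cj]
    rw [col_cj_left] at hc
    exact h.k1 x y (Pt.trans ⟨g, rfl⟩ hx) hc

/-- `ws V y` centralizes `x` -/
theorem ws_le_cent (h : Odd T V z) (hc : Col V x y) : ws V y ≤ centralizer ({x} : Set G) := by
  intro b hb
  rw [mem_centralizer_singleton_iff]
  exact Base.ws_comm h (hc.pt h.toGeoC) hb hc.symm.mem_ws

theorem ws_le_norm (h : Odd T V z) (hc : Col V x y) : ws V y ≤ normalizer ((ws V x : Subgroup G) : Set G) :=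
  (ws_le_cent h hc).trans (Cfsg.Agent.MinSimple.Geo.centralizer_le_normalizer_ws V x)

/-- commutators of `ws V x` and `ws V y` -/
theorem comm_mem (h : Odd T V z) (hc : Col V x y) {a b : G} (ha : a ∈ ws V x) (hb : b ∈ ws V y) :
    b * a * b⁻¹ * a⁻¹ ∈ ws V x ⊓ ws V y := by
  have ha' : a⁻¹ ∈ ws V x := inv_mem ha
  have hb' : b⁻¹ ∈ ws V y := inv_mem hb
  refine ⟨mul_mem (conj_mem_of_normalizer (ws_le_norm h hc) hb ha) ha', ?_⟩
  have e : b * a * b⁻¹ * a⁻¹ = b * (a * b⁻¹ * a⁻¹) := by group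
  rw [e]
  exact mul_mem hb (conj_mem_of_normalizer (ws_le_norm h hc.symm) ha hb')

namespace One

theorem exists_not_mem (h : One T V z) (hc : Col V x y) : ∃ b ∈ ws V y, b ∉ kq V x := by
  by_contra hcon
  push Not at hcon
  have h1 : (kq V x).relIndex (ws V y) = 1 := by
    rw [relIndex_eq_one]; exact hcon
  rw [h.k1 x y (hc.pt_left h.toGeoC) hc] at h1
  norm_num at h1

theorem mul_mem_kq (h : One T V z) (hc : Col V x y) {b b' : G} (hb : b ∈ ws V y) (hb' : b' ∈ ws V y)
    (hn : b ∉ kq V x) (hn' : b' ∉ kq V x) : b * b' ∈ kq V x := by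
  have h2 := h.k1 x y (hc.pt_left h.toGeoC) hc
  rw [relIndex] at h2
  have := (Subgroup.mul_mem_iff_of_index_two h2 (a := ⟨b, hb⟩) (b := ⟨b', hb'⟩))
  rw [mem_subgroupOf, mem_subgroupOf, mem_subgroupOf] at this
  exact this.mpr ⟨fun h => absurd h hn, fun h => absurd h hn'⟩

variable {M X : Type u} [AddCommGroup M] [Group X] [DistribMulAction X M]

/-- all elements of `ws V y ∖ kq V x` induce the same automorphism -/
theorem rho_eq (h : One T V z) (R : Rep V x M X) (hc : Col V x y) {b b' : G} (hb : b ∈ ws V y)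
    (hb' : b' ∈ ws V y) (hn : b ∉ kq V x) (hn' : b' ∉ kq V x) : R.rho b = R.rho b' := by
  have hy := hc.pt h.toGeoC
  rw [RepM.Rep.rho_eq_rho R (ws_le_cent h.toOdd hc hb) (ws_le_cent h.toOdd hc hb'),
    Base.ws_inv h.toOdd hy hb']
  exact h.mul_mem_kq hc hb hb' hn hn'

theorem rho_sq (h : One T V z) (R : Rep V x M X) (hc : Col V x y) {b : G} (hb : b ∈ ws V y) :
    R.rho b * R.rho b = 1 := by
  have hbc := ws_le_cent h.toOdd hc hb
  rw [← R.rho_mul b hbc b hbc, Base.ws_sq h.toOdd (hc.pt h.toGeoC) hb, R.rho_one]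

theorem rho_ne_one (h : One T V z) (R : Rep V x M X) (hc : Col V x y) {b : G} (hb : b ∈ ws V y)
    (hn : b ∉ kq V x) : R.rho b ≠ 1 := by
  rw [Ne, RepM.Rep.rho_eq_one R (ws_le_cent h.toOdd hc hb)]; exact hn

/-- the action of `b ∈ ws V y` on `π w` -/
theorem smul_add (h : One T V z) (R : Rep V x M X) (hc : Col V x y) {b w : G} (hb : b ∈ ws V y)
    (hw : w ∈ ws V x) : R.rho b • R.pi w + R.pi w = R.pi (b * w * b⁻¹ * w⁻¹) := by
  have hx := hc.pt_left h.toGeoC
  have hbc := ws_le_cent h.toOdd hc hb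
  rw [R.smul_pi b hbc w hw, Base.ws_inv h.toOdd hx hw, R.pi_mul _ (R.conj_mem hbc hw) _ hw]

/-- the involution depends only on the vector `π y` -/
theorem rho_eq_of_pi_eq (h : One T V z) (R : Rep V x M X) {y' : G} (hc : Col V x y) (hc' : Col V x y')
    (hpi : R.pi y = R.pi y') {b b' : G} (hb : b ∈ ws V y) (hb' : b' ∈ ws V y') (hn : b ∉ kq V x)
    (hn' : b' ∉ kq V x) : R.rho b = R.rho b' := by
  have hx := hc.pt_left h.toGeoC
  rcases (RepM.Rep.pi_eq_pi h.toOdd hx R hc.mem_ws hc'.mem_ws).mp hpi with rfl | e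
  · exact h.rho_eq R hc hb hb' hn hn'
  · -- an element of `kq V x` moves `y` to `x * y`
    obtain ⟨g, hg, ho⟩ := exists_odd h.toOdd hx
    obtain ⟨_, _, hxy', L, hL, hyL⟩ := id hc'
    rw [← lines_cj V g] at hL
    obtain ⟨T', h1⟩ := ho.line' hL
    obtain ⟨t, ht, ht2⟩ := h1.exists_swap
    have hLV : L ∈ lines V x := by rwa [lines_cj] at hL
    have htk : t ∈ kq V x := by
      obtain ⟨⟨k, rfl⟩, _⟩ := hLV
      have := ht.2
      rwa [kq_cj_left] at this
    have h2 := ht2 y' hyL hc'.2.1 (Ne.symm hxy')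
    have h3 : t * b' * t⁻¹ ∈ ws V y := by
      have : t * b' * t⁻¹ ∈ cj t (ws V y') := conj_mem_cj hb'
      rw [cj_ws, h2, ← e] at this
      exact this
    have htc := BTwoB.kq_le V x htk
    have h4 : t * b' * t⁻¹ ∉ kq V x := by
      intro h5
      apply hn'
      have h6 := mul_mem (mul_mem (inv_mem htk) h5) htk
      have e6 : t⁻¹ * (t * b' * t⁻¹) * t = b' := by group
      rwa [e6] at h6
    rw [h.rho_eq R hc hb h3 hn h4, R.rho_conj htc (ws_le_cent h.toOdd hc' hb'),
      (RepM.Rep.rho_eq_one R htc).mpr htk, one_mul, inv_one, mul_one]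

/-- equivariance -/
theorem rho_conj_eq (h : One T V z) (R : Rep V x M X) {y' : G} (hc : Col V x y) (hc' : Col V x y') {g : X}
    (hg : g • R.pi y = R.pi y') {b b' : G} (hb : b ∈ ws V y) (hb' : b' ∈ ws V y') (hn : b ∉ kq V x)
    (hn' : b' ∉ kq V x) : g * R.rho b * g⁻¹ = R.rho b' := by
  obtain ⟨c, hcc, rfl⟩ := R.rho_surj g
  have hbc := ws_le_cent h.toOdd hc hb
  rw [← R.rho_conj hcc hbc]
  rw [R.smul_pi c hcc y hc.mem_ws] at hg
  have hcx : c * x * c⁻¹ = x := by
    rw [mem_centralizer_singleton_iff.mp hcc]; group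
  have hcol : Col V x (c * y * c⁻¹) := by
    have := hc.conj c
    rwa [hcx] at this
  refine h.rho_eq_of_pi_eq R hcol hc' hg ?_ hb' ?_ hn'
  · have : c * b * c⁻¹ ∈ cj c (ws V y) := conj_mem_cj hb
    rwa [cj_ws] at this
  · intro h5
    apply hn
    have h6 := conj_mem_of_normalizer' (BTwoB.centralizer_le_normalizer_kq V x) hcc h5
    have e6 : c⁻¹ * (c * b * c⁻¹) * c = b := by group
    rwa [e6] at h6

/-- the centralizer of the vector `π y` centralizes the involution -/
theorem rho_comm (h : One T V z) (R : Rep V x M X) (hc : Col V x y) {g : X} (hg : g • R.pi y = R.pi y)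
    {b : G} (hb : b ∈ ws V y) (hn : b ∉ kq V x) : g * R.rho b = R.rho b * g := by
  have := h.rho_conj_eq R hc hc hg hb hb hn hn
  exact mul_inv_eq_iff_eq_mul.mp this

theorem smul_add_of_mem (h : One T V z) (R : Rep V x M X) (hc : Col V x y) {b w : G} (hb : b ∈ ws V y)
    (hw : w ∈ ws V x) (hwk : w ∈ kq V y) :
    R.rho b • R.pi w + R.pi w = 0 ∨ R.rho b • R.pi w + R.pi w = R.pi y := by
  have hy := hc.pt h.toGeoC
  rw [h.smul_add R hc hb hw]
  have h1 := inv_mem (hwk.2.1 b hb)
  have e : (w * b * w⁻¹ * b⁻¹)⁻¹ = b * w * b⁻¹ * w⁻¹ := by group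
  rw [e, mem_zpowers_iff_of_mul_self (Base.Pt.sq h.toGeoC hy)] at h1
  rcases h1 with e1 | e1
  · left; rw [e1, R.pi_one]
  · right; rw [e1]

/-- the dichotomy: `a` is a transvection or `[M, a] = {0, π y, m₀, π y + m₀}` has order four -/
theorem cases (h : One T V z) (R : Rep V x M X) (hc : Col V x y) {b : G} (hb : b ∈ ws V y) :
    (∃ n : M, ∀ m : M, R.rho b • m = m ∨ R.rho b • m = m + n) ∨
    ∃ m₀ : M, m₀ ≠ 0 ∧ m₀ ≠ R.pi y ∧
      (∀ m : M, R.rho b • m + m = 0 ∨ R.rho b • m + m = R.pi y ∨ R.rho b • m + m = m₀ ∨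
        R.rho b • m + m = m₀ + R.pi y) ∧
      (∃ m, R.rho b • m + m = R.pi y) ∧ ∃ m, R.rho b • m + m = m₀ := by
  have hx := hc.pt_left h.toGeoC
  have two := RepM.Rep.two h.toOdd hx R
  obtain ⟨w0, hw0, hw0n⟩ := h.exists_not_mem hc.symm
  set m0 := R.rho b • R.pi w0 + R.pi w0 with hm0
  have key : ∀ m : M, R.rho b • m + m = 0 ∨ R.rho b • m + m = R.pi y ∨ R.rho b • m + m = m0 ∨
      R.rho b • m + m = m0 + R.pi y := by
    intro m
    obtain ⟨w, hw, rfl⟩ := R.pi_surj m
    by_cases hwk : w ∈ kq V y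
    · rcases h.smul_add_of_mem R hc hb hw hwk with e | e
      · exact Or.inl e
      · exact Or.inr (Or.inl e)
    · have h1 := h.mul_mem_kq hc.symm hw hw0 hwk hw0n
      have h2 := h.smul_add_of_mem R hc hb (mul_mem hw hw0) h1
      rw [R.pi_mul w hw w0 hw0] at h2
      have e3 : R.rho b • R.pi w + R.pi w = R.rho b • (R.pi w + R.pi w0) + (R.pi w + R.pi w0) + m0 := by
        rw [hm0, _root_.smul_add]
        have e4 := two (R.rho b • R.pi w0)
        have e5 := two (R.pi w0)
        calc R.rho b • R.pi w + R.pi w = R.rho b • R.pi w + R.pi w + (R.rho b • R.pi w0 + R.rho b • R.pi w0)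
              + (R.pi w0 + R.pi w0) := by rw [e4, e5, add_zero, add_zero]
          _ = _ := by abel
      rcases h2 with e | e
      · right; right; left; rw [e3, e, zero_add]
      · right; right; right; rw [e3, e, add_comm]
  have toTv : ∀ {n m : M}, R.rho b • m + m = n → R.rho b • m = m + n := by
    intro n m e
    rw [← e, add_comm (R.rho b • m) m, ← add_assoc, two, zero_add]
  have toTv0 : ∀ {m : M}, R.rho b • m + m = 0 → R.rho b • m = m := by
    intro m e
    rw [toTv e, add_zero]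
  by_cases h0 : m0 = 0 ∨ m0 = R.pi y
  · left
    refine ⟨R.pi y, fun m => ?_⟩
    rcases key m with e | e | e | e
    · exact Or.inl (toTv0 e)
    · exact Or.inr (toTv e)
    · rcases h0 with e0 | e0
      · exact Or.inl (toTv0 (e.trans e0))
      · exact Or.inr (toTv (e.trans e0))
    · rcases h0 with e0 | e0
      · rw [e0, zero_add] at e; exact Or.inr (toTv e)
      · rw [e0, two] at e; exact Or.inl (toTv0 e)
  · push Not at h0
    by_cases h1 : ∃ m, R.rho b • m + m = R.pi y
    · exact Or.inr ⟨m0, h0.1, h0.2, key, h1, _, rfl⟩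
    · left
      refine ⟨m0, fun m => ?_⟩
      rcases key m with e | e | e | e
      · exact Or.inl (toTv0 e)
      · exact absurd ⟨m, e⟩ h1
      · exact Or.inr (toTv e)
      · exfalso
        apply h1
        refine ⟨m + R.pi w0, ?_⟩
        have e2 : R.rho b • (m + R.pi w0) + (m + R.pi w0) = (R.rho b • m + m) + m0 := by
          rw [_root_.smul_add, hm0]; abel
        rw [e2, e, add_comm m0, add_assoc, two, add_zero]

end One

end Cfsg.Agent.OddCyclic.EO.One
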