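import Cfsg.Agent.OddCyclic.EO.FitC
import Cfsg.Agent.OddCyclic.EO.RepM
import Cfsg.Agent.Lib.Cores
import Cfsg.Agent.S0044

/-!
# The module `V_z/z` in the case `C(z)/K_z` solvable, cyclic odd Sylow subgroups

* `fit`: the Fitting subgroup is cyclic of odd order and self-centralizing;
* `exists_F`: `λ^X = λ^F`;
* `amb`, `good`.
-/

set_option autoImplicit false
set_option linter.unusedSectionVars false
set_option linter.style.haveILetI false

namespace Cfsg.Agent.OddCyclic.EO.Sit

open Subgroup Cfsg Cfsg.Agent.ZN Cfsg.Agent.MinSimple.Geo Cfsg.Agent.OddCyclic.GeoC Cfsg.Agent.OddCyclic.BTwoA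
  Cfsg.Agent.OddCyclic.EO.Line Cfsg.Agent.OddCyclic.EO.Base Cfsg.Agent.OddCyclic.EO.RepM
  Cfsg.Agent.OddCyclic.EO.Fit
open Cfsg.Agent.OddCyclic.T1Defs (OddCyc)
open Cfsg.Agent.ZN.Block (conj_mem_of_normalizer conj_mem_of_normalizer' le_normalizer_of_forall
  mem_normalizer_of)

universe u

/-! ### the Fitting subgroup -/

theorem oddCyc_of_injective {G H : Type*} [Group G] [Finite G] [Group H] (h : OddCyc G) (f : H →* G)
    (hf : Function.Injective f) : OddCyc H := by
  intro p P hp hp2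
  obtain ⟨S, hS⟩ := (P.isPGroup'.map f).exists_le_sylow
  have := h p S hp hp2
  exact isCyclic_of_injective ((f.comp (P : Subgroup H).subtype).codRestrict (S : Subgroup G) fun x =>
    hS ⟨x, x.2, rfl⟩) (fun x y hxy => Subtype.ext (hf (congrArg Subtype.val hxy)))

theorem oddCyc_of_surjective {G H : Type*} [Group G] [Finite G] [Group H] (h : OddCyc G) (f : G →* H)
    (hf : Function.Surjective f) : OddCyc H := by
  intro p P hp hp2
  have : Fact p.Prime := ⟨hp⟩
  have : Finite H := Finite.of_surjective f hf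
  obtain ⟨S⟩ : Nonempty (Sylow p G) := inferInstance
  have hS := h p S hp hp2
  have h1 : IsCyclic ((S : Subgroup G).map f) :=
    isCyclic_of_surjective (f.subgroupMap (S : Subgroup G)) (f.subgroupMap_surjective _)
  have e : (S.mapSurjective hf) ≃* P := Sylow.equiv _ _
  have h2 : IsCyclic (S.mapSurjective hf) := h1
  exact isCyclic_of_surjective e.toMonoidHom e.surjective

theorem commutator_le {H : Type*} [Group H] {F : Subgroup H} [F.Normal] (hF : IsCyclic F) (hc : centralizer (F : Set H) ≤ F) (a b : H) :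
    a * b * a⁻¹ * b⁻¹ ∈ F := by
  apply hc
  have hcomm : ∀ φ ψ : MulAut F, φ * ψ = ψ * φ := by
    intro φ ψ
    apply (IsCyclic.mulAutMulEquiv F).injective
    rw [map_mul, map_mul, mul_comm]
  rw [mem_centralizer_iff]
  intro x hx
  have h1 : (MulAut.conjNormal (a * b * a⁻¹ * b⁻¹) : MulAut F) = 1 := by
    rw [map_mul, map_mul, map_mul, hcomm (MulAut.conjNormal a), map_inv, map_inv]
    group
  have h2 : ((MulAut.conjNormal (a * b * a⁻¹ * b⁻¹) : MulAut F) ⟨x, hx⟩ : H) = x := by rw [h1]; rfl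
  rw [MulAut.conjNormal_apply] at h2
  exact (mul_inv_eq_iff_eq_mul.1 h2).symm


theorem fit {X : Type u} [Group X] [Finite X] (hc : OddCyc X) (hs : Group.IsSolvable X)
    (h2 : ∀ N : Subgroup X, N.Normal → IsPGroup 2 N → N = ⊥) :
    (fittingSubgroup X).Normal ∧ IsCyclic (fittingSubgroup X) ∧ Odd (Nat.card (fittingSubgroup X)) ∧
      centralizer (fittingSubgroup X : Set X) ≤ fittingSubgroup X := by
  haveI : Fact (Nat.Prime 2) := ⟨Nat.prime_two⟩
  have hn : (fittingSubgroup X).Normal := Cfsg.Agent.S0044.fittingSubgroup_normal X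
  have hnil : Group.IsNilpotent (fittingSubgroup X) := Cfsg.Agent.Lib.Cores.fittingSubgroup_isNilpotent
  have hcent := Cfsg.Agent.S0044.centralizer_fitting_le X hn
  set F := fittingSubgroup X with hF
  have hodd : ¬ 2 ∣ Nat.card F := by
    intro hd
    obtain ⟨Q⟩ := (inferInstance : Nonempty (Sylow 2 F))
    haveI : Q.Normal := inferInstance
    haveI : (Q : Subgroup F).Characteristic := Sylow.characteristic_of_normal Q inferInstance
    have h3 : (Q : Subgroup F) ≠ ⊥ := Q.ne_bot_of_dvd_card hd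
    have h4 : ((Q : Subgroup F).map F.subtype) = ⊥ := h2 _ inferInstance (Q.isPGroup'.map _)
    exact h3 ((Subgroup.map_eq_bot_iff_of_injective _ F.subtype_injective).mp h4)
  refine ⟨hn, ?_, ?_, hcent⟩
  · haveI : IsZGroup F := by
      refine ⟨fun p hp P => ?_⟩
      haveI : Fact p.Prime := ⟨hp⟩
      by_cases hp2 : p = 2
      · subst hp2
        have h3 : (P : Subgroup F) = ⊥ := by
          rw [← Subgroup.card_eq_one]
          obtain ⟨k, hk⟩ := (P.isPGroup').exists_card_eq
          rw [hk]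
          cases k with
          | zero => rfl
          | succ k =>
            exfalso
            apply hodd
            have h5 : Nat.card (P : Subgroup F) ∣ Nat.card F := card_subgroup_dvd_card _
            rw [hk] at h5
            exact (dvd_pow_self 2 (Nat.succ_ne_zero k)).trans h5
        rw [h3]
        infer_instance
      · exact oddCyc_of_injective hc F.subtype F.subtype_injective p P hp hp2
    infer_instance
  · rw [← Nat.not_even_iff_odd]
    exact fun h => hodd h.two_dvd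

/-! ### the orbit of the line vector -/

variable {G : Type u} [Group G] [Finite G] {T V : Subgroup G} {z : G} {M X : Type u} [AddCommGroup M] [Group X]
  [DistribMulAction X M]

theorem oddCyc (h : Odd T V z) {x : G} (R : Rep V x M X) : OddCyc X := by
  have h1 : OddCyc (centralizer ({x} : Set G)) :=
    oddCyc_of_injective h.cyc _ (Subgroup.subtype_injective _)
  exact oddCyc_of_surjective h1 R.hom R.hom_surj

/-- elements of `C(z) ∩ N(V)` fix the line vector -/
theorem fix_line (h : Odd T V z) (R : Rep V z M X) {c y : G} (hc : c ∈ centralizer ({z} : Set G))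
    (hcV : c ∈ normalizer (V : Set G)) (hy : y ∈ V) : R.rho c • R.pi y = R.pi y := by
  rw [R.smul_pi c hc y (h.V_le_ws hy)]
  rcases h.conj_cases h.z_mem hy h.z_ne (h.z_comm hc) hcV with e | e
  · rw [e]
  · rw [e, Rep.pi_self_mul h (Pt.refl z) R (h.V_le_ws hy)]

/-- `O^2`-part: `λ^X = λ^F` -/
theorem exists_smul_eq (h : Odd T V z) (R : Rep V z M X) {F : Subgroup X} (hn : F.Normal) (hF : IsCyclic F)
    (hcF : centralizer (F : Set X) ≤ F) {y : G} (hy : y ∈ V) (g : X) : ∃ f ∈ F, g • R.pi y = f • R.pi y := by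
  set TT := R.img T with hTT
  have hnorm : (F ⊔ TT).Normal := by
    refine ⟨fun y hy x => ?_⟩
    have h1 := commutator_le hF hcF x y
    have h2 : x * y * x⁻¹ = (x * y * x⁻¹ * y⁻¹) * y := by group
    rw [h2]
    exact mul_mem ((le_sup_left : F ≤ F ⊔ TT) h1) hy
  obtain ⟨c, hc, rfl⟩ := R.rho_surj g
  have hTle : T ≤ R.pre (F ⊔ TT) := fun t ht =>
    R.mem_pre.mpr ⟨h.T_le ht, (le_sup_right : TT ≤ F ⊔ TT) (R.rho_mem_img h.T_le ht)⟩
  obtain ⟨n, hn', m, hm, hmN, rfl⟩ := BTwoB.exists_mul_of_frattini h.T_le h.two h.T_syl (R.pre_le (F ⊔ TT))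
    (R.le_normalizer_pre hnorm) hc
  rw [inf_eq_left.mpr hTle] at hmN
  have hmV : m ∈ normalizer (V : Set G) := h.uniq m hmN (mem_centralizer_singleton_iff.mp hm)
  have hn2 := (R.mem_pre.mp hn').2
  rw [mem_sup_of_normal_left] at hn2
  obtain ⟨f, hf, t, ht, hft⟩ := hn2
  obtain ⟨t', ht', rfl⟩ := (R.mem_img h.T_le).mp ht
  refine ⟨f, hf, ?_⟩
  rw [R.rho_mul n (R.pre_le _ hn') m hm, mul_smul, fix_line h R hm hmV hy]
  have hft' : f * R.rho t' = R.rho n := hft
  rw [← hft', mul_smul, fix_line h R (h.T_le ht') (h.T_norm ht') hy]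

/-- the Fitting subgroup of `C(z)/K_z` and the orbit of the line vector -/
theorem exists_F (h : Odd T V z) (R : Rep V z M X) : ∃ F : Subgroup X, F.Normal ∧ IsCyclic F ∧ Odd (Nat.card F) ∧
    centralizer (F : Set X) ≤ F ∧ ∀ y ∈ V, ∀ g : X, ∃ f ∈ F, g • R.pi y = f • R.pi y := by
  haveI : Finite X := R.finite_right
  obtain ⟨h1, h2, h3, h4⟩ := fit (oddCyc h R) (Rep.isSolvable h (Pt.refl z) R)
    (fun N hN h2 => Rep.o2_eq_bot h (Pt.refl z) R hN h2)
  exact ⟨_, h1, h2, h3, h4, fun y hy g => exists_smul_eq h R h1 h2 h4 hy g⟩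

/-- a subgroup of `C(z) ∩ C(V)` whose image is elementary abelian -/
theorem amb_good (h : Odd T V z) (R : Rep V z M X) {F : Subgroup X} (hn : F.Normal) (hF : IsCyclic F)
    (hodd : Odd (Nat.card F)) (horb : ∀ y ∈ V, ∀ g : X, ∃ f ∈ F, g • R.pi y = f • R.pi y) {y : G} (hy : y ∈ V)
    (hy1 : y ≠ 1) (hyz : y ≠ z) {A : Subgroup X} (hab : ∀ a ∈ A, ∀ b ∈ A, a * b = b * a) (hsq : ∀ a ∈ A, a * a = 1)
    (hfix : ∀ a ∈ A, a • R.pi y = R.pi y) : Amb M F A ∧ Good F A (⊤ : AddSubgroup M) (R.pi y) := by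
  have hcol : Col V z y := ⟨h.z_ne, hy1, Ne.symm hyz, V, h.V_mem_lines, hy⟩
  refine ⟨⟨Rep.two h (Pt.refl z) R, hF, hodd, hn, hab, hsq⟩, ⟨AddSubgroup.mem_top _, hfix,
    fun _ _ _ _ => AddSubgroup.mem_top _, fun U hU => ?_⟩⟩
  refine (Rep.eq_top_of_line h (Pt.refl z) R hcol U fun g => ?_).ge
  obtain ⟨f, hf, e⟩ := horb y hy g
  rw [e]; exact hU f hf

end Cfsg.Agent.OddCyclic.EO.Sit
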